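import Groth.Agent.Lib.ShriekBridge22.Stalks
import Groth.Agent.Lib.SmoothRank4.FibreDim
import Groth.Agent.Lib.DualRing.RelBridge
import Groth.Agent.Lib.DualRing.RelTop
import Groth.Agent.Lib.QCoh.Support

/-! # Fibre dimensions on charts -/

set_option autoImplicit false
set_option maxHeartbeats 1000000
set_option linter.style.haveILetI false
universe u

open CategoryTheory CategoryTheory.Limits AlgebraicGeometry GrothLib.OX

attribute [local instance] HasDerivedCategory.standard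
attribute [local instance] GrothLib.DualRing.Shriek.pfl_of_flat

noncomputable section

namespace GrothLib.ShriekBridge22

variable {X Y : Scheme.{u}} (f : X ⟶ Y)

theorem localFibreDim_eq (x : X) : Dual3.localFibreDim f x = FlatMor.fibreDimAt f x := by
  rw [Dual3.localFibreDim, FlatMor.fibreDimAt, FlatMor.localDim, iInf_subtype']
  rfl

theorem fibreDimAt_le_of_fibreDimLE {d : ℕ} (h : Dual3.FibreDimLE f d) (x : X) :
    FlatMor.fibreDimAt f x ≤ (d : WithBot ℕ∞) :=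
  (iInf_le _ ⟨⊤, trivial⟩).trans ((Topology.IsInducing.subtypeVal.topologicalKrullDim_le).trans (h (f x)))

theorem exists_affine_nhds (x : X) :
    ∃ (U : X.Opens) (_ : IsAffineOpen U) (V : Y.Opens) (_ : IsAffineOpen V), U ≤ f ⁻¹ᵁ V ∧ x ∈ U := by
  obtain ⟨V, hV, hxV, -⟩ := exists_isAffineOpen_mem_and_subset (x := f x) (U := ⊤) trivial
  obtain ⟨U, hU, hxU, hUV⟩ := exists_isAffineOpen_mem_and_subset (x := x) (U := f ⁻¹ᵁ V) hxV
  exact ⟨U, hU, V, hV, hUV, hxU⟩

variable {U : X.Opens} (hU : IsAffineOpen U) {V : Y.Opens} (hV : IsAffineOpen V) (hUV : U ≤ f ⁻¹ᵁ V)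

include hV in
theorem fibreDimAt_appLE (x : X) (hx : x ∈ U) :
    letI := (f.appLE V U hUV).hom.toAlgebra
    FlatMor.fibreDimAt (Spec.map (CommRingCat.ofHom (algebraMap Γ(Y, V) Γ(X, U)))) (hU.primeIdealOf ⟨x, hx⟩) =
      FlatMor.fibreDimAt f x := by
  letI := (f.appLE V U hUV).hom.toAlgebra
  let q := hU.primeIdealOf ⟨x, hx⟩
  obtain ⟨Q, hQ⟩ := GrothLib.SmoothRank4.exists_fibre_point (R := Γ(Y, V)) q
  have h1 := GrothLib.SmoothRank4.fibreDimAt_chart f hU.fromSpec hV.fromSpec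
    (IsAffineOpen.SpecMap_appLE_fromSpec f hV hU hUV).symm q Q hQ
  have h2 := GrothLib.SmoothRank4.fibreDimAt_chart
    (Spec.map (CommRingCat.ofHom (algebraMap Γ(Y, V) Γ(X, U)))) (𝟙 (Spec Γ(X, U))) (𝟙 (Spec Γ(Y, V))) (by simp) q Q hQ
  have h3 : hU.fromSpec q = x := hU.fromSpec_primeIdealOf ⟨x, hx⟩
  refine (h2.trans h1.symm).trans (congrArg (FlatMor.fibreDimAt f) h3)


/-- Lower bound for the cohomology of `f^! O` at a point. -/
theorem le_of_nontrivial_stalk [AlgebraicGeometry.IsNoetherian Y] [LocallyOfFiniteType f]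
    [∀ R : CommRingCat.{u}, PreservesFiniteLimits (tilde.functor R)]
    (c : DEt.Compactification f) [DCoh.HasRpush c.fbar]
    (hc : DCoh.RpushPreservesQCoh c.fbar) {a : DCoh.DQCoh Y ⥤ DCoh.DQCoh c.Xbar}
    (adj : DCoh.RpushQ c.fbar hc ⊣ a) [PreservesFiniteLimits (Scheme.Modules.restrictFunctor c.j)]
    (O : DCoh.DQCoh Y) (hO : Nonempty (O.obj ≅ DCoh.inD Y (Coh.structureModule Y)))
    (x : X) {d : ℕ} (hd : FlatMor.fibreDimAt f x ≤ (d : WithBot ℕ∞)) (i : ℤ)
    (hi : Nontrivial ((DCoh.HD ((Dual3.shriekC c a).obj O) i).presheaf.stalk x)) : -(d : ℤ) ≤ i := by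
  obtain ⟨U, hU, V, hV, hUV, hx⟩ := exists_affine_nhds f x
  letI := (f.appLE V U hUV).hom.toAlgebra
  obtain ⟨_, _, _, n, ψ, hψ⟩ := exists_chart_pres f U hU V hV hUV
  obtain ⟨ec⟩ := nonempty_shriekC_O c hc adj O hO U hU V hV hUV ψ hψ
  have h := (nontrivial_stalk_iff hU _ ec i (isQCohD_shriekC c a O i) x hx).1 hi
  have e := congrArg PrimeSpectrum.asIdeal (QCoh.primeAt_eq_primeIdealOf hU hx)
  refine DualRing.Shriek.le_of_nontrivial_localized_HD ψ hψ (hU.primeIdealOf ⟨x, hx⟩)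
    ((fibreDimAt_appLE f hU hV hUV x hx).le.trans hd) i ?_
  convert h using 4
  exact e.symm

/-- Upper bound for a flat morphism. -/
theorem isZero_HD_pos [AlgebraicGeometry.IsNoetherian Y] [LocallyOfFiniteType f] [Flat f]
    [∀ R : CommRingCat.{u}, PreservesFiniteLimits (tilde.functor R)]
    (c : DEt.Compactification f) [DCoh.HasRpush c.fbar]
    (hc : DCoh.RpushPreservesQCoh c.fbar) {a : DCoh.DQCoh Y ⥤ DCoh.DQCoh c.Xbar}
    (adj : DCoh.RpushQ c.fbar hc ⊣ a) [PreservesFiniteLimits (Scheme.Modules.restrictFunctor c.j)]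
    (O : DCoh.DQCoh Y) (hO : Nonempty (O.obj ≅ DCoh.inD Y (Coh.structureModule Y))) (i : ℤ) (hi : 0 < i) :
    IsZero (DCoh.HD ((Dual3.shriekC c a).obj O) i) := by
  refine isZero_HD_of_subsingleton (isQCohD_shriekC c a O) i fun x => ?_
  obtain ⟨U, hU, V, hV, hUV, hx⟩ := exists_affine_nhds f x
  letI := (f.appLE V U hUV).hom.toAlgebra
  obtain ⟨_, hft, _, n, ψ, hψ⟩ := exists_chart_pres f U hU V hV hUV
  haveI : Module.Flat Γ(Y, V) Γ(X, U) := f.flat_appLE hV hU hUV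
  haveI : Algebra.FinitePresentation Γ(Y, V) Γ(X, U) := Algebra.FinitePresentation.of_finiteType.1 hft
  exact ⟨U, hU, _, hx, nonempty_shriekC_O c hc adj O hO U hU V hV hUV ψ hψ,
    DualRing.Shriek.subsingleton_HD_GP_pos ψ hψ i hi⟩

end GrothLib.ShriekBridge22
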