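import Groth.Agent.Lib.ShriekBridge22.Invertible
import Groth.Agent.Lib.ShriekBridge22.Fibre
import Groth.Agent.Lib.CurveStk.Gor
import Groth.Agent.Lib.CurveStk.GorRing

/-! # Gorenstein points and invertibility of `f^!O` -/

set_option autoImplicit false
set_option linter.style.haveILetI false
set_option maxHeartbeats 1000000
universe u

open CategoryTheory CategoryTheory.Limits AlgebraicGeometry GrothLib.OX
open scoped TensorProduct

attribute [local instance] HasDerivedCategory.standard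
attribute [local instance] GrothLib.DualRing.Shriek.pfl_of_flat

noncomputable section

namespace GrothLib.ShriekBridge22

set_option backward.isDefEq.respectTransparency false in
/-- The relative Gorenstein property on a ring map, read in the fibre rings. -/
theorem gorAt_specMap_iff {R A : CommRingCat.{u}} [IsNoetherianRing R] [IsNoetherianRing A] (φ : R ⟶ A)
    [Flat (Spec.map φ)] [LocallyOfFiniteType (Spec.map φ)] (p : PrimeSpectrum R) :
    letI := φ.hom.toAlgebra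
    ∀ (q' : Ideal (p.asIdeal.ResidueField ⊗[R] A)) [q'.IsPrime] (q : Spec A),
      q'.comap (Algebra.TensorProduct.includeRight : A →ₐ[R] p.asIdeal.ResidueField ⊗[R] A).toRingHom = q.asIdeal →
      (Dual3.IsGorensteinAt (Spec.map φ) q ↔ LocCoh.IsGorensteinLocalRing (Localization.AtPrime q')) := by
  letI := φ.hom.toAlgebra
  intro q' _ q hq
  let K := p.asIdeal.ResidueField
  have sq : IsPullback (Spec.map (CommRingCat.ofHom (Algebra.TensorProduct.includeRight : A →ₐ[R] K ⊗[R] A).toRingHom))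
      (Spec.map (CommRingCat.ofHom (Algebra.TensorProduct.includeLeftRingHom : K →+* K ⊗[R] A)))
      (Spec.map φ) (Spec.map (CommRingCat.ofHom (algebraMap R K))) :=
    (isPullback_SpecMap_of_isPushout _ _ _ _ (CommRingCat.isPushout_tensorProduct R K A)).flip
  let z : Spec (CommRingCat.of (K ⊗[R] A)) := ⟨q', inferInstance⟩
  have hz : Spec.map (CommRingCat.ofHom (Algebra.TensorProduct.includeRight : A →ₐ[R] K ⊗[R] A).toRingHom) z = q :=
    PrimeSpectrum.ext hq
  rw [← hz, ← GrothLib.CurveStk.gorAt_baseChange sq z, GrothLib.CurveStk.gorAt_field_iff,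
    GrothLib.CurveStk.gor_stalk_spec_iff]

variable {X Y : Scheme.{u}} (f : X ⟶ Y) [AlgebraicGeometry.IsNoetherian Y] [LocallyOfFiniteType f] [Flat f]
  [∀ R : CommRingCat.{u}, PreservesFiniteLimits (tilde.functor R)]
  (c : DEt.Compactification f) [DCoh.HasRpush c.fbar]
  (hc : DCoh.RpushPreservesQCoh c.fbar) {a : DCoh.DQCoh Y ⥤ DCoh.DQCoh c.Xbar}
  (adj : DCoh.RpushQ c.fbar hc ⊣ a) [PreservesFiniteLimits (Scheme.Modules.restrictFunctor c.j)]
  (O : DCoh.DQCoh Y) (hO : Nonempty (O.obj ≅ DCoh.inD Y (Coh.structureModule Y)))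

include adj hO

/-- **Gorenstein points are the points near which `f^! O` is invertible.** -/
theorem isGorensteinAt_iff_exists_chart (x : X) :
    Dual3.IsGorensteinAt f x ↔ ∃ (W : Scheme.{u}) (g : W ⟶ X) (_ : IsOpenImmersion g) (m : ℤ), x ∈ g.opensRange ∧
      Nonempty ((resD g).obj ((Dual3.shriekC c a).obj O) ≅ (DCoh.inD W (Coh.structureModule W))⟦m⟧) := by
  let K := (Dual3.shriekC c a).obj O
  have main : ∀ (U : X.Opens) (hU : IsAffineOpen U) (V : Y.Opens) (hV : IsAffineOpen V) (hUV : U ≤ f ⁻¹ᵁ V)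
      (hx : x ∈ U), (Dual3.IsGorensteinAt f x → ∃ (W : Scheme.{u}) (g : W ⟶ X) (_ : IsOpenImmersion g) (m : ℤ),
        x ∈ g.opensRange ∧ Nonempty ((resD g).obj K ≅ (DCoh.inD W (Coh.structureModule W))⟦m⟧)) ∧
      ∀ m : ℤ, Nonempty ((resD hU.fromSpec).obj K ≅ (DCoh.inD _ (Coh.structureModule _))⟦m⟧) →
        Dual3.IsGorensteinAt f x := by
    intro U hU V hV hUV hx
    letI := (f.appLE V U hUV).hom.toAlgebra
    obtain ⟨_, hft, _, n, ψ, hψ⟩ := exists_chart_pres f U hU V hV hUV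
    obtain ⟨ec⟩ := nonempty_shriekC_O c hc adj O hO U hU V hV hUV ψ hψ
    haveI : Module.Flat Γ(Y, V) Γ(X, U) := f.flat_appLE hV hU hUV
    haveI : Algebra.FinitePresentation Γ(Y, V) Γ(X, U) := Algebra.FinitePresentation.of_finiteType.1 hft
    obtain ⟨E, b, hb, hfr, ⟨e⟩⟩ := (GrothLib.DualRing.Shriek.isRelPerfect_GP ψ hψ).1
    have hE : GrothLib.KF.IsKFlat E := GrothLib.KF.isKFlat_of_bounded_above E b hb
      fun i => haveI := (hfr i).2; inferInstanceAs (Module.Flat Γ(X, U) (E.X i))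
    haveI : Flat (Spec.map (f.appLE V U hUV)) := Flat.SpecMap_iff.2 (f.flat_appLE hV hU hUV)
    haveI : LocallyOfFiniteType (Spec.map (f.appLE V U hUV)) :=
      (HasRingHomProperty.Spec_iff (P := @LocallyOfFiniteType)).2 (f.finiteType_appLE hV hU hUV)
    let q := hU.primeIdealOf ⟨x, hx⟩
    have hqx : hU.fromSpec q = x := hU.fromSpec_primeIdealOf ⟨x, hx⟩
    let p : PrimeSpectrum Γ(Y, V) := ⟨q.asIdeal.comap (algebraMap Γ(Y, V) Γ(X, U)), inferInstance⟩
    haveI : q.asIdeal.LiesOver p.asIdeal := ⟨rfl⟩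
    let Q := PrimeSpectrum.primesOverOrderIsoFiber Γ(Y, V) Γ(X, U) p.asIdeal ⟨q.asIdeal, inferInstance, ⟨rfl⟩⟩
    have hQ : Q.asIdeal.comap (Algebra.TensorProduct.includeRight :
        Γ(X, U) →ₐ[Γ(Y, V)] p.asIdeal.ResidueField ⊗[Γ(Y, V)] Γ(X, U)).toRingHom = q.asIdeal := by
      have : Q.asIdeal.comap Algebra.TensorProduct.includeRight = q.asIdeal := by
        rw [← PrimeSpectrum.coe_primesOverOrderIsoFiber_symm_apply p.asIdeal Q, OrderIso.symm_apply_apply]
      exact this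
    have key : Dual3.IsGorensteinAt f x ↔ LocCoh.IsGorensteinLocalRing (Localization.AtPrime Q.asIdeal) := by
      rw [← hqx, ← GrothLib.CurveStk.gorAt_etale f (Spec.map (f.appLE V U hUV)) hU.fromSpec hV.fromSpec
        (IsAffineOpen.SpecMap_appLE_fromSpec f hV hU hUV) q]
      exact gorAt_specMap_iff (f.appLE V U hUV) p Q.asIdeal q hQ
    haveI : ∀ g : Γ(X, U), PreservesFiniteLimits (GrothLib.DualCx22.bcMod (A := Γ(X, U)) (Localization.Away g)) :=
      fun g =>
        haveI : Module.Flat Γ(X, U) (Localization.Away g) := IsLocalization.flat _ (Submonoid.powers g)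
        GrothLib.DR.preservesFiniteLimits_extendScalars (algebraMap Γ(X, U) (Localization.Away g))
          GrothLib.DR.flat_algebraMap
    refine ⟨fun hG => ?_, fun m ⟨em⟩ => ?_⟩
    · obtain ⟨g, hg, m, ⟨em⟩⟩ := GrothLib.DualRing.Shriek.exists_away_of_gor ψ hψ e hb hfr q p Q.asIdeal hQ (key.1 hG)
      obtain ⟨W, hW, hr⟩ := exists_opens_iso_of_away hU.fromSpec _ ec g m
        ((GrothLib.DualCx22.bcD (A := Γ(X, U)) (Localization.Away g)).mapIso e.symm ≪≫
          (GrothLib.DualCx22.bcMod (A := Γ(X, U)) (Localization.Away g)).mapDerivedCategoryFactors.app E ≪≫ em) q hg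
      exact ⟨_, W.ι, inferInstance, m, by rw [Scheme.Opens.opensRange_ι]; exact hqx ▸ hW, hr⟩
    · obtain ⟨hfull, hfaith, -⟩ := tildeD_full_faithful_essImage (R := Γ(X, U))
      let eT : (DCoh.tildeD Γ(X, U)).obj (GrothLib.DualRing.Shriek.GP ψ (Dual.inD Γ(Y, V) Γ(Y, V))) ≅
          (DCoh.tildeD Γ(X, U)).obj ((Dual.inD Γ(X, U) Γ(X, U))⟦m⟧) :=
        ec.symm ≪≫ em ≪≫ (shiftFunctor _ m).mapIso ((unitCxQIso _).symm ≪≫ (tildeUnitDIso Γ(X, U)).symm) ≪≫
          (((DCoh.tildeD Γ(X, U)).commShiftIso m).app _).symm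
      let eA := (DCoh.tildeD Γ(X, U)).preimageIso eT
      obtain ⟨e1⟩ := GrothLib.DualRing.nonempty_bc_shift_one
        (algebraMap Γ(X, U) (Localization.Away (1 : Γ(X, U)))) hE m (e ≪≫ eA)
      refine key.2 (GrothLib.DualRing.Shriek.gor_fibre_of_away ψ hψ hE e p Q.asIdeal 1 ?_ m e1)
      exact fun h1 => (Ideal.IsPrime.comap (Algebra.TensorProduct.includeRight :
        Γ(X, U) →ₐ[Γ(Y, V)] p.asIdeal.ResidueField ⊗[Γ(Y, V)] Γ(X, U)).toRingHom).ne_top
        ((Ideal.eq_top_iff_one _).2 h1)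
  constructor
  · intro hG
    obtain ⟨U, hU, V, hV, hUV, hx⟩ := exists_affine_nhds f x
    exact (main U hU V hV hUV hx).1 hG
  · rintro ⟨W, g, _, m, hxg, ⟨e⟩⟩
    obtain ⟨V, hV, hxV, -⟩ := exists_isAffineOpen_mem_and_subset (x := f x) (U := ⊤) trivial
    obtain ⟨U, hU', hxU, hUW⟩ := exists_isAffineOpen_mem_and_subset (x := x) (U := f ⁻¹ᵁ V ⊓ g.opensRange) ⟨hxV, hxg⟩
    have hU : IsAffineOpen U := hU'
    have hr : Set.range hU.fromSpec ⊆ Set.range g := by
      rw [hU.range_fromSpec]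
      exact fun z hz => (hUW hz).2
    let l := IsOpenImmersion.lift g hU.fromSpec hr
    have hl : l ≫ g = hU.fromSpec := IsOpenImmersion.lift_fac g hU.fromSpec hr
    haveI : IsOpenImmersion (l ≫ g) := hl ▸ inferInstance
    haveI : IsOpenImmersion l := IsOpenImmersion.of_comp l g
    obtain ⟨el⟩ := GrothLib.DualRing.nonempty_resD_shift l m
    refine (main U hU V hV (fun z hz => (hUW hz).1) hxU).2 m ⟨?_⟩
    exact (eqToIso (by congr 2 <;> exact hl.symm)) ≪≫ ((resDCompIso l g).app K).symm ≪≫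
      (resD l).mapIso e ≪≫ el

/-- The Gorenstein locus in terms of invertibility on opens. -/
theorem isGorensteinAt_iff_isInvertibleD
    [∀ (U V : Scheme.{u}) (j : U ⟶ V) [IsOpenImmersion j], PreservesFiniteLimits (Scheme.Modules.restrictFunctor j)]
    (x : X) : Dual3.IsGorensteinAt f x ↔
      ∃ U : X.Opens, x ∈ U ∧ Dual3.IsInvertibleD ((DCoh.restrictD U.ι).obj ((Dual3.shriekC c a).obj O)) := by
  rw [isGorensteinAt_iff_exists_chart f c hc adj O hO x]
  constructor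
  · rintro ⟨W, g, _, m, hxg, ⟨e⟩⟩
    obtain ⟨e'⟩ := GrothLib.DualRing.exists_opens_iso g e
    obtain ⟨el⟩ := GrothLib.DualRing.nonempty_resD_shift (⊤ : (g.opensRange : Scheme.{u}).Opens).ι m
    exact ⟨g.opensRange, hxg, fun u => ⟨⊤, m, trivial, ⟨(resD _).mapIso e' ≪≫ el⟩⟩⟩
  · rintro ⟨U, hxU, hinv⟩
    obtain ⟨W, m, hW, ⟨e⟩⟩ := hinv ⟨x, hxU⟩
    exact ⟨_, W.ι ≫ U.ι, inferInstance, m, ⟨⟨⟨x, hxU⟩, hW⟩, rfl⟩,
      ⟨((resDCompIso W.ι U.ι).app _).symm ≪≫ e⟩⟩

end GrothLib.ShriekBridge22
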