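import Groth.Agent.Lib.KSix19.BettiExact.Proj
import Groth.Agent.Lib.OX.ProjClosed
import Groth.Agent.Lib.OX.Adjunction
import Groth.Agent.Lib.RHomO20.Compare
import Groth.Agent.Lib.OX.RHomDual
import Groth.Prelude.Def_Dual3

/-! # `i_* RHom(O_Z, -) = RHom(i_* O_Z, -)` -/

set_option autoImplicit false
set_option maxHeartbeats 1600000
set_option linter.style.haveILetI false
set_option backward.isDefEq.respectTransparency false
universe v w u

open CategoryTheory CategoryTheory.Limits AlgebraicGeometry HomologicalComplex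
open DerivedCategory (Qh)

attribute [local instance] HasDerivedCategory.standard

noncomputable section

namespace GrothLib.ShriekBridge22

open GrothLib.OX GrothLib.KSix19.BettiExact

variable {Y : Scheme.{u}}

/-- K-flat complexes. -/
def kflat (Y : Scheme.{u}) : ObjectProperty (CochainComplex Y.Modules ℤ) := fun P => DCoh.IsKFlat P

/-- A natural isomorphism on K-flat complexes gives one on the derived category. -/
theorem nonempty_iso_of_kflat' {C : Type w} [Category.{v} C] (H₁ H₂ : DCoh.D Y ⥤ C)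
    (τ : (kflat Y).ι ⋙ DerivedCategory.Q ⋙ H₁ ≅ (kflat Y).ι ⋙ DerivedCategory.Q ⋙ H₂) :
    Nonempty (H₁ ≅ H₂) := by
  have hrep : ∀ K : DCoh.D Y,
      ∃ P : (kflat Y).FullSubcategory, Nonempty (DerivedCategory.Q.obj P.obj ≅ K) := fun K => by
    obtain ⟨P, hP, ⟨a⟩⟩ := exists_kflat_rep K
    exact ⟨⟨P, hP⟩, ⟨a⟩⟩
  choose P hP using hrep
  let a := fun K => (hP K).some
  refine ⟨NatIso.ofComponents (fun K => H₁.mapIso (a K).symm ≪≫ τ.app (P K) ≪≫ H₂.mapIso (a K)) ?_⟩
  intro K L f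
  obtain ⟨Z, s, hs, t, ht⟩ := DerivedCategory.right_fac ((a K).hom ≫ f ≫ (a L).inv)
  have : QuasiIso s := (DerivedCategory.isIso_Q_map_iff_quasiIso _ s).1 hs
  obtain ⟨Z', r, hZ', -, hr, -⟩ := exists_kflat_resolution Z
  let z : (kflat Y).FullSubcategory := ⟨Z', hZ'⟩
  let σ : z ⟶ P K := ObjectProperty.homMk (r ≫ s)
  let θ : z ⟶ P L := ObjectProperty.homMk (r ≫ t)
  have hfac : (a K).hom ≫ f ≫ (a L).inv =
      inv (DerivedCategory.Q.map (r ≫ s)) ≫ DerivedCategory.Q.map (r ≫ t) := by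
    rw [ht, IsIso.eq_inv_comp, Functor.map_comp, Functor.map_comp, Category.assoc, IsIso.hom_inv_id_assoc]
  have key : H₁.map ((a K).hom ≫ f ≫ (a L).inv) ≫ τ.hom.app (P L) =
      τ.hom.app (P K) ≫ H₂.map ((a K).hom ≫ f ≫ (a L).inv) := by
    have n₁ : H₁.map (DerivedCategory.Q.map (r ≫ s)) ≫ τ.hom.app (P K) =
        τ.hom.app z ≫ H₂.map (DerivedCategory.Q.map (r ≫ s)) := τ.hom.naturality σ
    have n₂ : H₁.map (DerivedCategory.Q.map (r ≫ t)) ≫ τ.hom.app (P L) =
        τ.hom.app z ≫ H₂.map (DerivedCategory.Q.map (r ≫ t)) := τ.hom.naturality θ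
    have hh : DerivedCategory.Q.map (r ≫ s) ≫ ((a K).hom ≫ f ≫ (a L).inv) = DerivedCategory.Q.map (r ≫ t) := by
      rw [hfac, IsIso.hom_inv_id_assoc]
    rw [← cancel_epi (H₁.map (DerivedCategory.Q.map (r ≫ s))), ← Functor.map_comp_assoc, hh, n₂, reassoc_of% n₁,
      ← Functor.map_comp, hh]
  change H₁.map f ≫ H₁.map (a L).inv ≫ τ.hom.app (P L) ≫ H₂.map (a L).hom =
    (H₁.map (a K).inv ≫ τ.hom.app (P K) ≫ H₂.map (a K).hom) ≫ H₂.map f
  have e1 : H₁.map f ≫ H₁.map (a L).inv = H₁.map (a K).inv ≫ H₁.map ((a K).hom ≫ f ≫ (a L).inv) := by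
    rw [← Functor.map_comp, ← Functor.map_comp, Iso.inv_hom_id_assoc]
  rw [reassoc_of% e1, reassoc_of% key, Category.assoc, Category.assoc, ← Functor.map_comp, ← Functor.map_comp,
    Category.assoc, Category.assoc, Iso.inv_hom_id, Category.comp_id]

variable {Z : Scheme.{u}} (i : Z ⟶ Y) [IsClosedImmersion i]

/-- Derived direct image along a closed immersion is the exact direct image. -/
theorem nonempty_RR_pushD [PreservesFiniteLimits (Scheme.Modules.pushforward i)]
    [PreservesFiniteColimits (Scheme.Modules.pushforward i)] :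
    Nonempty (RR i ≅ Dual3.pushD i) :=
  ⟨Functor.isoWhiskerLeft (KInj.res Z.Modules) (Scheme.Modules.pushforward i).mapDerivedCategoryFactorsh.symm ≪≫
    (Functor.associator _ _ _).symm ≪≫
    Functor.isoWhiskerRight (asIso (KInj.resAdj Z.Modules).counit) (Dual3.pushD i) ≪≫ Functor.leftUnitor _⟩

/-- Tensoring with `i_* O_Z` is pulling back and pushing forward. -/
theorem nonempty_LTensorCx_push_unit [PreservesFiniteLimits (Scheme.Modules.pushforward i)]
    [PreservesFiniteColimits (Scheme.Modules.pushforward i)] [DCoh.HasLpull i]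
    [DCoh.HasLTensorCx ((pushCxF i).obj (unitCx Z))] :
    Nonempty (DCoh.LTensorCx ((pushCxF i).obj (unitCx Z)) ≅ DCoh.Lpull i ⋙ Dual3.pushD i) := by
  let E := (pushCxF i).obj (unitCx Z)
  refine nonempty_iso_of_kflat' _ _ ?_
  have c₁ : (kflat Y).ι ⋙ DerivedCategory.Q ⋙ DCoh.LTensorCx E ≅ (kflat Y).ι ⋙ DCoh.tensorCxQ E :=
    NatIso.ofComponents (fun P =>
      have := (cxResolvable_tensor E).isIso_app_of_isLeftDerivedFunctor (DCoh.LTensorCx E)
        ((DCoh.tensorCxQ E).totalLeftDerivedCounit DerivedCategory.Q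
          (HomologicalComplex.quasiIso Y.Modules (ComplexShape.up ℤ))) P.property
      asIso (((DCoh.tensorCxQ E).totalLeftDerivedCounit DerivedCategory.Q
          (HomologicalComplex.quasiIso Y.Modules (ComplexShape.up ℤ))).app P.obj))
      (fun g => ((DCoh.tensorCxQ E).totalLeftDerivedCounit DerivedCategory.Q
          (HomologicalComplex.quasiIso Y.Modules (ComplexShape.up ℤ))).naturality g.hom)
  have c₂ : (kflat Y).ι ⋙ DerivedCategory.Q ⋙ DCoh.Lpull i ≅ (kflat Y).ι ⋙ pullCxF i ⋙ DerivedCategory.Q := by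
    have c₄ : (kflat Y).ι ⋙ HomotopyCategory.quotient _ _ ⋙ Qh ⋙ DCoh.Lpull i ≅
        (kflat Y).ι ⋙ HomotopyCategory.quotient _ _ ⋙
          ((Scheme.Modules.pullback i).mapHomotopyCategory (ComplexShape.up ℤ) ⋙ Qh) :=
      NatIso.ofComponents (fun P =>
        have := (leftResolvable_of_acyclic (Scheme.Modules.pullback i)
            fun _ hC hK => acyclic_pullback i hC hK).isIso_app_of_isLeftDerivedFunctor (DCoh.Lpull i)
          (((Scheme.Modules.pullback i).mapHomotopyCategory (ComplexShape.up ℤ) ⋙ Qh).totalLeftDerivedCounit Qh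
            (HomotopyCategory.quasiIso Y.Modules (ComplexShape.up ℤ)))
          (Q := (HomotopyCategory.quotient _ _).obj P.obj) P.property
        asIso ((((Scheme.Modules.pullback i).mapHomotopyCategory (ComplexShape.up ℤ) ⋙ Qh).totalLeftDerivedCounit Qh
            (HomotopyCategory.quasiIso Y.Modules (ComplexShape.up ℤ))).app ((HomotopyCategory.quotient _ _).obj P.obj)))
        (fun g => (((Scheme.Modules.pullback i).mapHomotopyCategory (ComplexShape.up ℤ) ⋙ Qh).totalLeftDerivedCounit Qh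
            (HomotopyCategory.quasiIso Y.Modules (ComplexShape.up ℤ))).naturality
          ((HomotopyCategory.quotient _ _).map g.hom))
    exact Functor.isoWhiskerLeft (kflat Y).ι
        (Functor.isoWhiskerRight (DerivedCategory.quotientCompQhIso Y.Modules).symm (DCoh.Lpull i)) ≪≫ c₄ ≪≫
      Functor.isoWhiskerLeft (kflat Y).ι
        (Functor.isoWhiskerRight ((Scheme.Modules.pullback i).mapHomotopyCategoryFactors (ComplexShape.up ℤ)) Qh) ≪≫
      Functor.isoWhiskerLeft ((kflat Y).ι ⋙ pullCxF i) (DerivedCategory.quotientCompQhIso Z.Modules)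
  have c₃ : (kflat Y).ι ⋙ (DCoh.tensorCx (X := Y)).flip.obj E ≅
      (kflat Y).ι ⋙ pullCxF i ⋙ (DCoh.tensorCx (X := Z)).flip.obj (unitCx Z) ⋙ pushCxF i :=
    NatIso.ofComponents (fun P => @asIso _ _ _ _ (projCx i P.obj (unitCx Z)) (isIso_projCx_closed i P.obj (unitCx Z)))
      (fun g => projCx_natural i g.hom (unitCx Z))
  exact c₁ ≪≫ Functor.isoWhiskerRight c₃ DerivedCategory.Q ≪≫
    Functor.isoWhiskerLeft ((kflat Y).ι ⋙ pullCxF i)
      (Functor.isoWhiskerRight (singleUnitNatIso (X := Z)) (pushCxF i ⋙ DerivedCategory.Q)) ≪≫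
    Functor.isoWhiskerLeft ((kflat Y).ι ⋙ pullCxF i) (Scheme.Modules.pushforward i).mapDerivedCategoryFactors.symm ≪≫
    Functor.isoWhiskerRight c₂.symm (Dual3.pushD i)

end GrothLib.ShriekBridge22

namespace GrothLib.ShriekBridge22

open GrothLib.OX GrothLib.KSix19.BettiExact

variable {Y Z : Scheme.{u}} (i : Z ⟶ Y) [IsClosedImmersion i]

/-- **`i_* RHom(O_Z, -) = RHom(i_* O_Z, -)`.** -/
theorem nonempty_pushD_RHomOPlus [Dual3.HasHomO i] [EnoughInjectives Y.Modules]
    [PreservesFiniteLimits (Scheme.Modules.pushforward i)]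
    [PreservesFiniteColimits (Scheme.Modules.pushforward i)] (E : CochainComplex Y.Modules ℤ)
    (hE : Nonempty (DCoh.toD Y E ≅ DCoh.inD Y ((Scheme.Modules.pushforward i).obj (Coh.structureModule Z))))
    [DCoh.HasLTensorCx E] [DCoh.HasRSheafHom E] :
    Nonempty (Dual3.RHomOPlus i ⋙ (DerivedCategory.Plus.ι : DerivedCategory.Plus Z.Modules ⥤ DCoh.D Z) ⋙ Dual3.pushD i ≅
      (DerivedCategory.Plus.ι : DerivedCategory.Plus Y.Modules ⥤ DCoh.D Y) ⋙ DCoh.RSheafHom E) := by
  obtain ⟨hE⟩ := hE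
  haveI := hasLpull i
  haveI : DCoh.HasRpush i := KInj.hasRightDerivedFunctor _
  let E₀ := (pushCxF i).obj (unitCx Z)
  haveI := hasLTensorCx E₀
  let eE : DerivedCategory.Q.obj E₀ ≅ DerivedCategory.Q.obj E :=
    DerivedCategory.Q.mapIso ((singleMapHomologicalComplex (Scheme.Modules.pushforward i) (ComplexShape.up ℤ) 0).app _) ≪≫
      ((DerivedCategory.singleFunctorIsoCompQ Y.Modules 0).app _).symm ≪≫ hE.symm
  obtain ⟨c⟩ := nonempty_ltensorCx_congr_of_iso (E := E) (E' := E₀) eE.symm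
  obtain ⟨l⟩ := nonempty_LTensorCx_push_unit i
  obtain ⟨r⟩ := nonempty_RR_pushD i
  obtain ⟨b⟩ := nonempty_lpullAdj i
  haveI : EnoughInjectives Z.Modules := inferInstance
  haveI : (Dual3.homO i).Additive :=
    (Dual3.homOAdj i).right_adjoint_additive
  obtain ⟨adjD⟩ := CohDer19.DerAdj.nonempty_adj_res (Dual3.homOAdj i)
  let A := (b.ofNatIsoRight (rpushIsoRres i ≪≫ r)).comp adjD
  let Ψ := ((DCoh.RSheafHomAdj E).ofNatIsoLeft (c ≪≫ l)).rightAdjointUniq A
  obtain ⟨p⟩ := RHomO20.nonempty_plus_iso (Dual3.homOAdj i)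
  exact ⟨(Functor.associator _ _ _).symm ≪≫ Functor.isoWhiskerRight p (Dual3.pushD i) ≪≫ Functor.associator _ _ _ ≪≫
    (Functor.isoWhiskerLeft (DerivedCategory.Plus.ι : DerivedCategory.Plus Y.Modules ⥤ DCoh.D Y) Ψ).symm⟩

end GrothLib.ShriekBridge22
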