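import Groth.Agent.Lib.ShriekBridge22.Main
import Mathlib.RingTheory.FiniteType

/-! # `f^!` on affine charts -/

set_option autoImplicit false
set_option maxHeartbeats 1000000
set_option linter.style.haveILetI false
universe u

open CategoryTheory CategoryTheory.Limits AlgebraicGeometry GrothLib.OX

attribute [local instance] HasDerivedCategory.standard
attribute [local instance] GrothLib.DualRing.Shriek.pfl_of_flat

noncomputable section

namespace GrothLib.ShriekBridge22

open GrothLib.RightAdj22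

variable {X Y : Scheme.{u}}

/-- A compactification of `Spec B → Spec A` for `B` generated by finitely many elements. -/
theorem exists_affine_compactification {A B : Type u} [CommRing A] [CommRing B] [Algebra A B] {n : ℕ}
    (ψ : MvPolynomial (Fin n) A →ₐ[A] B) (hψ : Function.Surjective ψ) :
    ∃ (W : Scheme.{u}) (j : Spec (CommRingCat.of B) ⟶ W) (p : W ⟶ Spec (CommRingCat.of A))
      (_ : IsOpenImmersion j) (_ : IsProper p), j ≫ p = Spec.map (CommRingCat.ofHom (algebraMap A B)) := by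
  let φ : CommRingCat.of (MvPolynomial (Fin n) A) ⟶ CommRingCat.of B := CommRingCat.ofHom ψ.toRingHom
  haveI : IsClosedImmersion (Spec.map φ) := IsClosedImmersion.spec_of_surjective φ hψ
  haveI : IsProper (CohB1.ProjSpace.toSpec n A) := Chow.isProper_toSpec n A
  let γ := Spec.map φ ≫ chartHom A n
  haveI : QuasiSeparatedSpace (CohB1.ProjSpace n A) :=
    quasiSeparatedSpace_of_quasiSeparated (CohB1.ProjSpace.toSpec n A)
  haveI : IsImmersion γ := inferInstanceAs (IsImmersion (Spec.map φ ≫ chartHom A n))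
  haveI : QuasiCompact (chartHom A n) := quasiCompact_of_isCompact_range _ (isCompact_range (chartHom A n).continuous)
  haveI : QuasiCompact γ := inferInstanceAs (QuasiCompact (Spec.map φ ≫ chartHom A n))
  refine ⟨γ.image, γ.toImage, γ.imageι ≫ CohB1.ProjSpace.toSpec n A, inferInstance, inferInstance, ?_⟩
  rw [Scheme.Hom.toImage_imageι_assoc, Category.assoc, chartHom_toSpec, ← Spec.map_comp]
  exact congrArg Spec.map (CommRingCat.hom_ext (RingHom.ext fun a => ψ.commutes a))

variable [∀ R : CommRingCat.{u}, PreservesFiniteLimits (tilde.functor R)] [AlgebraicGeometry.IsNoetherian Y]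
  {A B : Type u} [CommRing A] [CommRing B] [Algebra A B] {n : ℕ}

/-- **`f^!` on a chart.** -/
theorem nonempty_shB_chart {W : Scheme.{u}} (j : X ⟶ W) (p : W ⟶ Y) [IsOpenImmersion j] [IsProper p]
    {f : X ⟶ Y} (hjp : j ≫ p = f) (iA : Spec (CommRingCat.of A) ⟶ Y) [IsOpenImmersion iA]
    (jB : Spec (CommRingCat.of B) ⟶ X) [IsOpenImmersion jB]
    (w : jB ≫ f = Spec.map (CommRingCat.ofHom (algebraMap A B)) ≫ iA)
    (ψ : MvPolynomial (Fin n) A →ₐ[A] B) (hψ : Function.Surjective ψ) (K : BQ Y) (L : Dual.D A)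
    (e : (resD iA).obj K.obj.obj ≅ (DCoh.tildeD (CommRingCat.of A)).obj L) :
    Nonempty ((resD jB).obj ((shB j p).obj K).obj.obj ≅
      (DCoh.tildeD (CommRingCat.of B)).obj (DualRing.Shriek.GP ψ L)) := by
  haveI : AlgebraicGeometry.IsNoetherian (Spec (CommRingCat.of A)) := isNoetherian_of_openImmersion iA
  haveI : IsNoetherianRing A := (isNoetherian_Spec (R := CommRingCat.of A)).1 inferInstance
  obtain ⟨W', j', p', _, _, h'⟩ := exists_affine_compactification ψ hψ
  obtain ⟨c⟩ := nonempty_shB_comp j' p' iA (𝟙 Y) (jB ≫ j) p h' (Category.comp_id iA)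
    (by rw [Category.assoc, hjp, w])
  let K' := (shB iA (𝟙 Y)).obj K
  let t : K'.obj.obj ≅ (resD iA).obj K.obj.obj := (resD iA).mapIso ((BQι Y).mapIso (aBId.app K))
  obtain ⟨r⟩ := nonempty_shB_affine ψ hψ j' p' h' K' L (t ≪≫ e)
  exact ⟨(resDCompIso jB j).app _ ≪≫ (BQι _).mapIso (c.app K) ≪≫ r⟩

/-- **`f^!` computed through given data on a chart.** -/
theorem nonempty_shriekC_chart {f : X ⟶ Y} (c : DEt.Compactification f) [DCoh.HasRpush c.fbar]
    (hc : DCoh.RpushPreservesQCoh c.fbar) {a : DCoh.DQCoh Y ⥤ DCoh.DQCoh c.Xbar}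
    (adj : DCoh.RpushQ c.fbar hc ⊣ a) [PreservesFiniteLimits (Scheme.Modules.restrictFunctor c.j)]
    (iA : Spec (CommRingCat.of A) ⟶ Y) [IsOpenImmersion iA] (jB : Spec (CommRingCat.of B) ⟶ X) [IsOpenImmersion jB]
    (w : jB ≫ f = Spec.map (CommRingCat.ofHom (algebraMap A B)) ≫ iA)
    (ψ : MvPolynomial (Fin n) A →ₐ[A] B) (hψ : Function.Surjective ψ)
    (K : DCoh.DQCoh Y) (c₀ : ℤ) (hK : K.obj.IsGE c₀) (L : Dual.D A)
    (e : (resD iA).obj K.obj ≅ (DCoh.tildeD (CommRingCat.of A)).obj L) :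
    Nonempty ((resD jB).obj ((Dual3.shriekC c a).obj K) ≅
      (DCoh.tildeD (CommRingCat.of B)).obj (DualRing.Shriek.GP ψ L)) := by
  haveI := c.isOpenImmersion
  haveI := c.isProper
  obtain ⟨s⟩ := RightAdj22.nonempty_shriekC c hc adj
  obtain ⟨r⟩ := nonempty_shB_chart c.j c.fbar c.fac iA jB w ψ hψ (⟨K, c₀, hK⟩ : BQ Y) L e
  exact ⟨(resD jB).mapIso (s.app (⟨K, c₀, hK⟩ : BQ Y)) ≪≫ r⟩

omit [AlgebraicGeometry.IsNoetherian Y] in
/-- Charts of a morphism locally of finite type. -/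
theorem exists_ft_chart (f : X ⟶ Y) [LocallyOfFiniteType f] (x : X) :
    ∃ (A B : Type u) (_ : CommRing A) (_ : CommRing B) (_ : Algebra A B) (n : ℕ)
      (ψ : MvPolynomial (Fin n) A →ₐ[A] B) (_ : Function.Surjective ψ)
      (iA : Spec (CommRingCat.of A) ⟶ Y) (_ : IsOpenImmersion iA)
      (jB : Spec (CommRingCat.of B) ⟶ X) (_ : IsOpenImmersion jB),
      jB ≫ f = Spec.map (CommRingCat.ofHom (algebraMap A B)) ≫ iA ∧ x ∈ Set.range jB := by
  obtain ⟨V, hV, hxV, -⟩ := exists_isAffineOpen_mem_and_subset (x := f x) (U := ⊤) trivial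
  obtain ⟨U, hU, hxU, hUV⟩ := exists_isAffineOpen_mem_and_subset (x := x) (U := f ⁻¹ᵁ V) hxV
  let g := f.appLE V U hUV
  letI : Algebra Γ(Y, V) Γ(X, U) := g.hom.toAlgebra
  have : Algebra.FiniteType Γ(Y, V) Γ(X, U) := LocallyOfFiniteType.finiteType_appLE f hV hU hUV
  obtain ⟨n, ψ, hψ⟩ := Algebra.FiniteType.iff_quotient_mvPolynomial''.1 this
  refine ⟨Γ(Y, V), Γ(X, U), inferInstance, inferInstance, inferInstance, n, ψ, hψ, hV.fromSpec, inferInstance,
    hU.fromSpec, inferInstance, ?_, ?_⟩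
  · exact (IsAffineOpen.SpecMap_appLE_fromSpec f hV hU hUV).symm
  · rw [hU.range_fromSpec]; exact hxU

end GrothLib.ShriekBridge22
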