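import Groth.Agent.Lib.ShriekBridge22.Local
import Groth.Agent.Lib.DualRing.CanonStalk
import Groth.Agent.Lib.OX.Support

/-! # Cohomology sheaves of `f^!` read on a chart -/

set_option autoImplicit false
set_option maxHeartbeats 1000000
set_option linter.style.haveILetI false
universe u

open CategoryTheory CategoryTheory.Limits AlgebraicGeometry GrothLib.OX

attribute [local instance] HasDerivedCategory.standard
attribute [local instance] GrothLib.DualRing.Shriek.pfl_of_flat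

noncomputable section

namespace GrothLib.ShriekBridge22

open GrothLib.RightAdj22

variable {X : Scheme.{u}} [∀ R : CommRingCat.{u}, PreservesFiniteLimits (tilde.functor R)]

/-- The stalks of a cohomology sheaf are localisations of the cohomology on a chart. -/
theorem exists_localized {K : DCoh.D X} {U : X.Opens} (hU : IsAffineOpen U) (ω : Dual.D Γ(X, U))
    (e : (resD hU.fromSpec).obj K ≅ (DCoh.tildeD Γ(X, U)).obj ω) (i : ℤ) (hq : (DCoh.HD K i).IsQuasicoherent)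
    (x : X) (hx : x ∈ U) :
    letI := X.presheaf.algebra_section_stalk ⟨x, hx⟩
    letI : Module Γ(X, U) ((DCoh.HD K i).presheaf.stalk x) := Module.compHom _ (X.presheaf.germ U x hx).hom
    ∃ g : Dual.HD Γ(X, U) ω i →ₗ[Γ(X, U)] (DCoh.HD K i).presheaf.stalk x,
      IsLocalizedModule (WeakAss.primeAt x hx).primeCompl g := by
  let A := Γ(X, U)
  let j := hU.fromSpec
  let H := (DerivedCategory.homologyFunctor (ModuleCat.{u} A) i).obj ω
  let t : (Scheme.Modules.restrictFunctor j).obj (DCoh.HD K i) ≅ (tilde.functor A).obj H :=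
    (HDResIso j K i).symm ≪≫ (DerivedCategory.homologyFunctor _ i).mapIso e ≪≫ HDTildeIso (R := A) ω i
  haveI := hq
  let L : (moduleSpecΓFunctor (R := A)).obj ((Scheme.Modules.restrictFunctor j).obj (DCoh.HD K i)) ≅ H :=
    (moduleSpecΓFunctor (R := A)).mapIso t ≪≫ (tilde.toTildeΓNatIso.app H).symm
  let E : Γ(DCoh.HD K i, U) ≃+ H :=
    (QCoh.secIso hU (DCoh.HD K i) ⊤ (QCoh.image_top hU)).symm.trans L.toLinearEquiv.toAddEquiv
  have hE : ∀ (g : A) (z : Γ(DCoh.HD K i, U)), E (g • z) = g • E z := fun g z => by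
    obtain ⟨w, rfl⟩ := (QCoh.secIso hU (DCoh.HD K i) ⊤ (QCoh.image_top hU)).surjective z
    show L.toLinearEquiv ((QCoh.secIso hU _ ⊤ _).symm (g • _)) = g • L.toLinearEquiv ((QCoh.secIso hU _ ⊤ _).symm _)
    rw [← QCoh.secIso_top_smul, AddEquiv.symm_apply_apply, AddEquiv.symm_apply_apply]
    exact map_smul L.toLinearEquiv g w
  letI := X.presheaf.algebra_section_stalk ⟨x, hx⟩
  haveI := FlatFP.isLocalization_stalk_primeAt hU hx
  letI : Module A ((DCoh.HD K i).presheaf.stalk x) := Module.compHom _ (X.presheaf.germ U x hx).hom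
  haveI : IsScalarTower A (X.presheaf.stalk x) ((DCoh.HD K i).presheaf.stalk x) :=
    IsScalarTower.of_algebraMap_smul fun _ _ => rfl
  obtain ⟨g, hg, -⟩ := FlatFP.isLocalizedModule_germ (F := DCoh.HD K i) hU hx
  let El : Γ(DCoh.HD K i, U) ≃ₗ[A] H := { E with map_smul' := hE }
  exact ⟨g ∘ₗ El.symm.toLinearMap, IsLocalizedModule.of_linearEquiv_right (WeakAss.primeAt x hx).primeCompl g El.symm⟩

/-- A stalk is zero exactly when the localised cohomology on a chart is. -/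
theorem nontrivial_stalk_iff {K : DCoh.D X} {U : X.Opens} (hU : IsAffineOpen U) (ω : Dual.D Γ(X, U))
    (e : (resD hU.fromSpec).obj K ≅ (DCoh.tildeD Γ(X, U)).obj ω) (i : ℤ) (hq : (DCoh.HD K i).IsQuasicoherent)
    (x : X) (hx : x ∈ U) :
    Nontrivial ((DCoh.HD K i).presheaf.stalk x) ↔
      Nontrivial (LocalizedModule (WeakAss.primeAt x hx).primeCompl (Dual.HD Γ(X, U) ω i)) := by
  letI := X.presheaf.algebra_section_stalk ⟨x, hx⟩
  letI : Module Γ(X, U) ((DCoh.HD K i).presheaf.stalk x) := Module.compHom _ (X.presheaf.germ U x hx).hom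
  obtain ⟨g, hg⟩ := exists_localized hU ω e i hq x hx
  haveI := hg
  exact (IsLocalizedModule.iso (WeakAss.primeAt x hx).primeCompl g).toEquiv.nontrivial_congr.symm

theorem isZero_HD_of_subsingleton {K : DCoh.D X} (hq : DCoh.IsQCohD K) (i : ℤ)
    (h : ∀ x : X, ∃ (U : X.Opens) (hU : IsAffineOpen U) (ω : Dual.D Γ(X, U)), x ∈ U ∧
      Nonempty ((resD hU.fromSpec).obj K ≅ (DCoh.tildeD Γ(X, U)).obj ω) ∧
      Subsingleton (Dual.HD Γ(X, U) ω i)) : IsZero (DCoh.HD K i) := by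
  refine GrothLib.OX.isZero_of_subsingleton_stalks _ fun x => ?_
  obtain ⟨U, hU, ω, hx, ⟨e⟩, hs⟩ := h x
  refine not_nontrivial_iff_subsingleton.1 fun hn => ?_
  have h' := (nontrivial_stalk_iff hU ω e i (hq i) x hx).1 hn
  haveI := hs
  exact not_nontrivial _ h'

theorem isCoh_HD_of_finite {K : DCoh.D X} (i : ℤ)
    (h : ∀ x : X, ∃ (U : X.Opens) (hU : IsAffineOpen U) (ω : Dual.D Γ(X, U)), x ∈ U ∧
      Nonempty ((resD hU.fromSpec).obj K ≅ (DCoh.tildeD Γ(X, U)).obj ω) ∧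
      Module.Finite Γ(X, U) (Dual.HD Γ(X, U) ω i)) : Coh.IsCoh (DCoh.HD K i) := by
  refine Euler.isCoh_of_restrict fun x => ?_
  obtain ⟨U, hU, ω, hx, ⟨e⟩, hs⟩ := h x
  have h1 : Coh.IsCoh ((Scheme.Modules.restrictFunctor hU.fromSpec).obj (DCoh.HD K i)) :=
    QCoh.isCoh_of_iso ((HDResIso hU.fromSpec K i).symm ≪≫ (DerivedCategory.homologyFunctor _ i).mapIso e ≪≫
      HDTildeIso ω i).symm ((isCoh_tilde_iff _).2 hs)
  exact ⟨U, hx, QCoh.isCoh_of_iso ((Scheme.Modules.restrictFunctorComp hU.isoSpec.hom hU.fromSpec).symm ≪≫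
    Scheme.Modules.restrictFunctorCongr hU.isoSpec_hom_fromSpec |>.app (DCoh.HD K i))
    (Cohom.isCoh_restrict _ h1 hU.isoSpec.hom)⟩

variable {Y : Scheme.{u}}

theorem nonempty_resD_unit {A : Type u} [CommRing A] (iA : Spec (CommRingCat.of A) ⟶ Y) [IsOpenImmersion iA]
    {O : DCoh.D Y} (hO : Nonempty (O ≅ DCoh.inD Y (Coh.structureModule Y))) :
    Nonempty ((resD iA).obj O ≅ (DCoh.tildeD (CommRingCat.of A)).obj (Dual.inD A A)) := by
  obtain ⟨eO⟩ := hO
  exact ⟨(resD iA).mapIso (eO ≪≫ (unitCxQIso Y).symm) ≪≫ resUnitCxIso iA ≪≫ (tildeUnitDIso (CommRingCat.of A)).symm⟩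

theorem isQCohD_shriekC {f : X ⟶ Y} (c : DEt.Compactification f) (a : DCoh.DQCoh Y ⥤ DCoh.DQCoh c.Xbar)
    [PreservesFiniteLimits (Scheme.Modules.restrictFunctor c.j)] (K : DCoh.DQCoh Y) :
    DCoh.IsQCohD ((Dual3.shriekC c a).obj K) := by
  haveI := c.isOpenImmersion
  exact isQCohD_resD c.j (a.obj K).property

theorem isNoetherian_of_sepFT {S : Scheme.{u}} [AlgebraicGeometry.IsNoetherian S] (q : Y ⟶ S) [Dual3.IsSepFT q] :
    AlgebraicGeometry.IsNoetherian Y := by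
  haveI := LocallyOfFiniteType.isLocallyNoetherian q
  haveI : CompactSpace Y := QuasiCompact.compactSpace_of_compactSpace q
  exact {}

theorem isGE_zero_of_iso_structure {O : DCoh.D Y} (hO : Nonempty (O ≅ DCoh.inD Y (Coh.structureModule Y))) :
    O.IsGE 0 := by
  obtain ⟨eO⟩ := hO
  haveI : (DCoh.inD Y (Coh.structureModule Y)).IsGE 0 :=
    inferInstanceAs (DerivedCategory.IsGE ((DerivedCategory.singleFunctor Y.Modules 0).obj _) 0)
  exact DerivedCategory.TStructure.t.isGE_of_iso eO.symm 0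

variable [AlgebraicGeometry.IsNoetherian Y]

/-- Affine charts `U → V` of a morphism with a polynomial presentation. -/
theorem exists_chart_pres (f : X ⟶ Y) [LocallyOfFiniteType f] (U : X.Opens) (hU : IsAffineOpen U) (V : Y.Opens)
    (hV : IsAffineOpen V) (hUV : U ≤ f ⁻¹ᵁ V) :
    letI := (f.appLE V U hUV).hom.toAlgebra
    IsNoetherianRing Γ(Y, V) ∧ Algebra.FiniteType Γ(Y, V) Γ(X, U) ∧ IsNoetherianRing Γ(X, U) ∧
      ∃ (n : ℕ) (ψ : MvPolynomial (Fin n) Γ(Y, V) →ₐ[Γ(Y, V)] Γ(X, U)), Function.Surjective ψ := by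
  letI := (f.appLE V U hUV).hom.toAlgebra
  have hft : Algebra.FiniteType Γ(Y, V) Γ(X, U) := LocallyOfFiniteType.finiteType_appLE f hV hU hUV
  haveI hN : IsNoetherianRing Γ(Y, V) := IsLocallyNoetherian.component_noetherian ⟨V, hV⟩
  exact ⟨hN, hft, Algebra.FiniteType.isNoetherianRing Γ(Y, V) Γ(X, U),
    Algebra.FiniteType.iff_quotient_mvPolynomial''.1 hft⟩

/-- **`f^! O` on a chart.** -/
theorem nonempty_shriekC_O {f : X ⟶ Y} (c : DEt.Compactification f) [DCoh.HasRpush c.fbar]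
    (hc : DCoh.RpushPreservesQCoh c.fbar) {a : DCoh.DQCoh Y ⥤ DCoh.DQCoh c.Xbar}
    (adj : DCoh.RpushQ c.fbar hc ⊣ a) [PreservesFiniteLimits (Scheme.Modules.restrictFunctor c.j)]
    (O : DCoh.DQCoh Y) (hO : Nonempty (O.obj ≅ DCoh.inD Y (Coh.structureModule Y)))
    (U : X.Opens) (hU : IsAffineOpen U) (V : Y.Opens) (hV : IsAffineOpen V) (hUV : U ≤ f ⁻¹ᵁ V)
    {n : ℕ} (ψ : letI := (f.appLE V U hUV).hom.toAlgebra; MvPolynomial (Fin n) Γ(Y, V) →ₐ[Γ(Y, V)] Γ(X, U))
    (hψ : Function.Surjective ψ) :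
    letI := (f.appLE V U hUV).hom.toAlgebra
    Nonempty ((resD hU.fromSpec).obj ((Dual3.shriekC c a).obj O) ≅
      (DCoh.tildeD Γ(X, U)).obj (DualRing.Shriek.GP ψ (Dual.inD Γ(Y, V) Γ(Y, V)))) := by
  letI := (f.appLE V U hUV).hom.toAlgebra
  obtain ⟨eV⟩ := nonempty_resD_unit hV.fromSpec hO
  exact nonempty_shriekC_chart c hc adj hV.fromSpec hU.fromSpec
    (IsAffineOpen.SpecMap_appLE_fromSpec f hV hU hUV).symm ψ hψ O 0 (isGE_zero_of_iso_structure hO) _ eV

end GrothLib.ShriekBridge22
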