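import Groth.Agent.Lib.ShriekBridge22.SelfHom
import Groth.Agent.Lib.ShriekBridge22.Stalks
import Groth.Agent.Lib.ShriekBridge22.Local
import Groth.Agent.Lib.ShriekBridge22.Fibre
import Groth.Agent.Lib.DualRing.ShriekRel
import Groth.Agent.Lib.DualRing.ShriekEnd
import Groth.Agent.Lib.DualRing.ShriekRelProps
import Groth.Agent.Lib.DualCx22.CoindDual
import Groth.Agent.Lib.DualCx22.Transfer
import Groth.Agent.Lib.PerfHom.Perfect
import Groth.Agent.Lib.OX.TildeBaseChange
import Groth.Agent.Lib.DualCx22.FlatHom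

/-! # The upper shriek of a perfect morphism -/

set_option autoImplicit false
set_option linter.style.haveILetI false
set_option maxHeartbeats 1000000
universe u

open CategoryTheory CategoryTheory.Limits AlgebraicGeometry GrothLib.OX GrothLib.DualCx22
open scoped TensorProduct

attribute [local instance] HasDerivedCategory.standard
attribute [local instance] GrothLib.DualRing.Shriek.pfl_of_flat

namespace GrothLib.ShriekBridge22

open GrothLib.DualRing GrothLib.DualRing.Shriek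

section Ring

variable {R A : Type u} [CommRing R] [CommRing A] [Algebra R A] {n : ℕ} (ψ : MvPolynomial (Fin n) R →ₐ[R] A)

/-- Simplicity of the upper shriek of a perfect algebra. -/
theorem simple_GP_of_perfect (h : MoreMor.IsPerfectHom R A) (hψ : Function.Surjective ψ) :
    Function.Bijective (fun a : A => a • 𝟙 (GP ψ (Dual.inD R R))) ∧
      ∀ i : ℤ, i ≠ 0 → Subsingleton (GP ψ (Dual.inD R R) ⟶ (GP ψ (Dual.inD R R))⟦i⟧) := by
  letI : Algebra (MvPolynomial (Fin n) R) A := ψ.toRingHom.toAlgebra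
  obtain ⟨E, a, b, ε, hE, hab, hε⟩ := exists_eps ψ.toRingHom (PHom.isPerfectModule_pres h ψ hψ)
  haveI := hε
  obtain ⟨hb, hi⟩ := ShriekEnd.simple_RA ψ.toRingHom hE hab ε
  obtain ⟨eP⟩ := nonempty_bcD_self (R := R) (P := MvPolynomial (Fin n) R)
  let e : GP ψ (Dual.inD R R) ≅ ((RA ψ.toRingHom).obj (Dual.inD (MvPolynomial (Fin n) R) (MvPolynomial (Fin n) R)))⟦(n : ℤ)⟧ :=
    (shiftFunctor (Dual.D A) (n : ℤ)).mapIso ((RA ψ.toRingHom).mapIso eP)
  let X := (RA ψ.toRingHom).obj (Dual.inD (MvPolynomial (Fin n) R) (MvPolynomial (Fin n) R))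
  let S := shiftFunctor (Dual.D A) (n : ℤ)
  constructor
  · have h : (fun a : A => a • 𝟙 (GP ψ (Dual.inD R R))) =
        (Linear.homCongr A e.symm e.symm) ∘ (fun f : X ⟶ X => S.map f) ∘ fun a : A => a • 𝟙 X := by
      funext a
      change _ = (Linear.homCongr A e.symm e.symm) (S.map (a • 𝟙 X))
      rw [Functor.map_smul, CategoryTheory.Functor.map_id, map_smul]
      refine congrArg (a • ·) ?_
      change 𝟙 _ = (e.hom ≫ 𝟙 _) ≫ e.inv
      erw [Category.comp_id, e.hom_inv_id]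
    rw [h]
    exact (Linear.homCongr A e.symm e.symm).bijective.comp
      (((Functor.FullyFaithful.ofFullyFaithful S).map_bijective X X).comp hb)
  · intro i hi'
    haveI := hi i hi'
    haveI : Subsingleton (X⟦(n : ℤ)⟧ ⟶ (X⟦i⟧)⟦(n : ℤ)⟧) :=
      ((Functor.FullyFaithful.ofFullyFaithful S).homEquiv).symm.subsingleton
    exact (e.homCongr ((shiftFunctor (Dual.D A) i).mapIso e ≪≫ shiftComm X (n : ℤ) i)).subsingleton

/-- The upper shriek of a perfect algebra preserves bounded complexes with finite cohomology. -/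
theorem bounded_finite_GP [IsNoetherianRing R] [Algebra.FiniteType R A] (h : MoreMor.IsPerfectHom R A)
    (hψ : Function.Surjective ψ) (L : Dual.D R) (lo hi : ℤ)
    (hb : ∀ i : ℤ, (i < lo ∨ hi < i) → Subsingleton (Dual.HD R L i)) (hfin : ∀ i, Module.Finite R (Dual.HD R L i)) :
    (∃ lo' hi' : ℤ, ∀ i : ℤ, (i < lo' ∨ hi' < i) → Subsingleton (Dual.HD A (GP ψ L) i)) ∧
      ∀ i, Module.Finite A (Dual.HD A (GP ψ L) i) := by
  let P := MvPolynomial (Fin n) R
  letI : Algebra P A := ψ.toRingHom.toAlgebra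
  haveI : Module.Finite P A := Module.Finite.of_surjective (Algebra.linearMap P A) hψ
  let X := (bcD (A := R) P).obj L
  have hX : ∀ i, Nonempty (Dual.HD P X i ≃ₗ[P]
      ((bcMod (A := R) P).obj ((DerivedCategory.homologyFunctor (ModuleCat.{u} R) i).obj L))) := fun i =>
    ⟨((DerTrunc.homologyMapIso (bcMod (A := R) P) i).app L).toLinearEquiv⟩
  have hXb : ∀ i : ℤ, (i < lo ∨ hi < i) → Subsingleton (Dual.HD P X i) := fun i hi => by
    obtain ⟨e⟩ := hX i
    haveI := ModuleCat.subsingleton_of_isZero ((bcMod (A := R) P).map_isZero ((DR.subsingleton_iff_isZero _).1 (hb i hi)))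
    exact e.toEquiv.subsingleton
  have hXf : ∀ i, Module.Finite P (Dual.HD P X i) := fun i => GrothLib.DualCx22.finite_HD_bcD (A := R) P L i (hfin i)
  haveI : X.IsGE lo := by
    rw [DerivedCategory.isGE_iff]
    exact fun i hi => (DR.subsingleton_iff_isZero _).1 (hXb i (Or.inl hi))
  haveI : X.IsLE hi := by
    rw [DerivedCategory.isLE_iff]
    exact fun i hi => (DR.subsingleton_iff_isZero _).1 (hXb i (Or.inr hi))
  obtain ⟨E, a, b, hv, hE, ⟨eE⟩⟩ : DRing.IsPerfect P (Dual.inD P A) := PHom.isPerfectModule_pres h ψ hψ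
  obtain ⟨eB⟩ := restrictScalarsAlgebraIso (P := P) A
  obtain ⟨eS⟩ := DR.nonempty_map_inD (ModuleCat.restrictScalars.{u} (algebraMap P A)) A
  let eA : (DRing.restrictD (algebraMap P A)).obj (Dual.inD A A) ≅ DRing.toD E :=
    (DRing.restrictD (algebraMap P A)).mapIso (DCpl.eSingle (ModuleCat.of A A)) ≪≫
      (ModuleCat.restrictScalars.{u} (algebraMap P A)).mapDerivedCategoryFactors.app _ ≪≫ eS ≪≫
      (DerivedCategory.singleFunctor (ModuleCat.{u} P) 0).mapIso eB ≪≫ eE.symm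
  haveI : E.IsStrictlyGE a := (CochainComplex.isStrictlyGE_iff E a).2 fun i hi => hv i (Or.inl hi)
  haveI : E.IsStrictlyLE b := (CochainComplex.isStrictlyLE_iff E b).2 fun i hi => hv i (Or.inr hi)
  haveI : E.IsKProjective := DR.isKProjective E b (fun i hi => hv i (Or.inr hi)) (fun i => (hE i).2)
  let Y := (RA ψ.toRingHom).obj X
  have hY : ∀ j : ℤ, (j < lo - b ∨ hi - a < j) → Subsingleton (Dual.inD A A ⟶ Y⟦j⟧) := fun j hj => by
    obtain ⟨es⟩ := nonempty_RA_shift ψ.toRingHom X j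
    haveI hsub : Subsingleton (DRing.toD E ⟶ X⟦j⟧) := by
      rcases hj with hj | hj
      · haveI : (X⟦j⟧).IsGE (lo - j) := DerivedCategory.TStructure.t.isGE_shift X lo j (lo - j) (by omega)
        haveI : (DRing.toD E).IsLE b := inferInstance
        exact ⟨fun x y => sub_eq_zero.1
          (DerivedCategory.TStructure.t.zero_of_isLE_of_isGE (x - y) b (lo - j) (by omega) inferInstance inferInstance)⟩
      · haveI : (X⟦j⟧).IsLE (hi - j) := DerivedCategory.TStructure.t.isLE_shift X hi j (hi - j) (by omega)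
        obtain ⟨T, hT, ⟨eT⟩⟩ := DerivedCategory.exists_iso_Q_obj_of_isLE (X⟦j⟧) (hi - j)
        haveI := hT
        refine ⟨fun x y => sub_eq_zero.1 ?_⟩
        rw [← cancel_mono eT.hom, zero_comp]
        obtain ⟨g, hg⟩ := (CochainComplex.IsKProjective.Qh_map_bijective E
          ((HomotopyCategory.quotient _ _).obj T)).2 ((x - y) ≫ eT.hom)
        obtain ⟨g', rfl⟩ := (HomotopyCategory.quotient _ _).map_surjective g
        have : g' = 0 := HomologicalComplex.hom_ext _ _ fun i => by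
          rcases lt_or_ge i a with hi' | hi'
          · exact (E.isZero_of_isStrictlyGE a i hi').eq_of_src _ _
          · exact (T.isZero_of_isStrictlyLE (hi - j) i (by omega)).eq_of_tgt _ _
        refine hg.symm.trans ?_
        rw [this, Functor.map_zero, Functor.map_zero]
        rfl
    haveI : Subsingleton ((DRing.restrictD ψ.toRingHom).obj (Dual.inD A A) ⟶ X⟦j⟧) :=
      eA.homFromEquiv.subsingleton
    haveI := ((radj ψ.toRingHom).homEquiv (Dual.inD A A) (X⟦j⟧)).symm.subsingleton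
    exact es.symm.homToEquiv.subsingleton
  refine ⟨⟨lo - b - (n : ℤ), hi - a - (n : ℤ), fun i hi' => ?_⟩, fun i => ?_⟩
  · obtain ⟨e⟩ := nonempty_HD_shift Y (n : ℤ) i (i + n) (add_comm _ _)
    haveI := DR.subsingleton_HD_of_hom_ring Y (i + n) (hY (i + n) (by omega))
    exact e.toEquiv.subsingleton
  · obtain ⟨e⟩ := nonempty_HD_shift Y (n : ℤ) i (i + n) (add_comm _ _)
    haveI : Module.Finite A (Dual.HD A Y (i + n)) :=
      finite_HD_rightAdjoint (RA (algebraMap P A)) (radj (algebraMap P A)) X lo hXf _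
    exact Module.Finite.equiv e.symm

end Ring

variable {X Y : Scheme.{u}} (f : X ⟶ Y) [AlgebraicGeometry.IsNoetherian Y] [LocallyOfFiniteType f]
  (hperf : MoreMor.IsPerfectMor f)
  (c : DEt.Compactification f) [DCoh.HasRpush c.fbar]
  (hc : DCoh.RpushPreservesQCoh c.fbar) {a : DCoh.DQCoh Y ⥤ DCoh.DQCoh c.Xbar}
  (adj : DCoh.RpushQ c.fbar hc ⊣ a) [PreservesFiniteLimits (Scheme.Modules.restrictFunctor c.j)]

include adj hperf in
/-- `f^!` of a perfect morphism on a chart, with bounds. -/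
theorem exists_chart_bounded {K : DCoh.DQCoh Y} {lo hi : ℤ}
    (hb : ∀ i : ℤ, (i < lo ∨ hi < i) → IsZero (DCoh.HD K.obj i)) (hcoh : ∀ i : ℤ, Coh.IsCoh (DCoh.HD K.obj i)) (x : X) :
    ∃ (U : X.Opens) (hU : IsAffineOpen U) (ω : Dual.D Γ(X, U)) (lo' hi' : ℤ), x ∈ U ∧
      Nonempty ((resD hU.fromSpec).obj ((Dual3.shriekC c a).obj K) ≅ (DCoh.tildeD Γ(X, U)).obj ω) ∧
      (∀ i : ℤ, (i < lo' ∨ hi' < i) → Subsingleton (Dual.HD Γ(X, U) ω i)) ∧
      ∀ i, Module.Finite Γ(X, U) (Dual.HD Γ(X, U) ω i) := by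
  haveI : ∀ R : CommRingCat.{u}, PreservesFiniteLimits (tilde.functor R) := OX.preservesFiniteLimits_tildeGen
  obtain ⟨U, hU, V, hV, hUV, hx⟩ := exists_affine_nhds f x
  letI := (f.appLE V U hUV).hom.toAlgebra
  obtain ⟨hN, hft, _, n, ψ, hψ⟩ := exists_chart_pres f U hU V hV hUV
  haveI := hN
  obtain ⟨L, ⟨eL⟩⟩ := exists_tildeD_rep (R := Γ(Y, V)) K.property hV.fromSpec
  have hLz : ∀ i, (i < lo ∨ hi < i) → Subsingleton (Dual.HD Γ(Y, V) L i) := fun i hi' => by
    have h1 : IsZero ((tilde.functor Γ(Y, V)).obj ((DerivedCategory.homologyFunctor _ i).obj L)) :=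
      ((Scheme.Modules.restrictFunctor hV.fromSpec).map_isZero (hb i hi')).of_iso
        ((HDTildeIso L i).symm ≪≫ (DerivedCategory.homologyFunctor _ i).mapIso eL ≪≫ HDResIso hV.fromSpec K.obj i)
    haveI := OX.faithful_tildeGen Γ(Y, V)
    exact ModuleCat.subsingleton_of_isZero ((IsZero.iff_id_eq_zero _).2
      ((tilde.functor Γ(Y, V)).map_injective (h1.eq_of_src _ _)))
  have hLf : ∀ i, Module.Finite Γ(Y, V) (Dual.HD Γ(Y, V) L i) := fun i =>
    (isCoh_tilde_iff _).1 (QCoh.isCoh_of_iso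
      ((HDResIso hV.fromSpec K.obj i).symm ≪≫ (DerivedCategory.homologyFunctor _ i).mapIso eL.symm ≪≫ HDTildeIso L i)
      (Cohom.isCoh_restrict _ (hcoh i) hV.fromSpec))
  haveI : K.obj.IsGE lo := (DerivedCategory.isGE_iff _ _).2 fun i hi' => hb i (Or.inl hi')
  haveI : Algebra.FiniteType Γ(Y, V) Γ(X, U) := hft
  obtain ⟨hbd, hfin⟩ := bounded_finite_GP ψ (hperf U V hU hV hUV) hψ L lo hi hLz hLf
  obtain ⟨lo', hi', hbd⟩ := hbd
  have w : hU.fromSpec ≫ f = Spec.map (CommRingCat.ofHom (algebraMap Γ(Y, V) Γ(X, U))) ≫ hV.fromSpec :=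
    (IsAffineOpen.SpecMap_appLE_fromSpec f hV hU hUV).symm
  exact ⟨U, hU, _, lo', hi', hx,
    nonempty_shriekC_chart c hc adj hV.fromSpec hU.fromSpec w ψ hψ K lo inferInstance L eL.symm, hbd, hfin⟩

include adj hperf in
/-- `f^!` of a perfect morphism preserves bounded coherent complexes. -/
theorem bounded_coh_shriekC [CompactSpace X] {K : DCoh.DQCoh Y} {lo hi : ℤ}
    (hb : ∀ i : ℤ, (i < lo ∨ hi < i) → IsZero (DCoh.HD K.obj i)) (hcoh : ∀ i : ℤ, Coh.IsCoh (DCoh.HD K.obj i)) :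
    (∃ lo' hi' : ℤ, ∀ i : ℤ, (i < lo' ∨ hi' < i) → IsZero (DCoh.HD ((Dual3.shriekC c a).obj K) i)) ∧
      ∀ i : ℤ, Coh.IsCoh (DCoh.HD ((Dual3.shriekC c a).obj K) i) := by
  choose U hU ω l h hx he hb' hf' using exists_chart_bounded f hperf c hc adj hb hcoh
  refine ⟨?_, fun i => isCoh_HD_of_finite i fun x => ⟨U x, hU x, ω x, hx x, he x, hf' x i⟩⟩
  obtain ⟨s, hs⟩ := isCompact_univ.elim_finite_subcover (fun x => (U x : Set X)) (fun x => (U x).isOpen)
    fun x _ => Set.mem_iUnion.2 ⟨x, hx x⟩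
  obtain ⟨lo', hlo⟩ := (s.image l).bddBelow
  obtain ⟨hi', hhi⟩ := (s.image h).bddAbove
  refine ⟨lo', hi', fun i hi'' => isZero_HD_of_subsingleton (isQCohD_shriekC c a K) i fun x => ?_⟩
  obtain ⟨z, hz, hxz⟩ := Set.mem_iUnion₂.1 (hs (Set.mem_univ x))
  have h1 := hlo (Finset.mem_image_of_mem l hz)
  have h2 := hhi (Finset.mem_image_of_mem h hz)
  exact ⟨U z, hU z, ω z, hxz, he z, hb' z i (by omega)⟩

include adj hperf in
/-- `O → RHom(f^!O, f^!O)` is invertible for perfect morphisms. -/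
theorem isIso_transpose_shriekC_perfect (O : DCoh.DQCoh Y)
    (hO : Nonempty (O.obj ≅ DCoh.inD Y (Coh.structureModule Y))) (E : CochainComplex X.Modules ℤ)
    (hE : Nonempty (DCoh.toD X E ≅ (Dual3.shriekC c a).obj O)) [DCoh.HasLTensorCx E] [DCoh.HasRSheafHom E]
    (υ : (DCoh.LTensorCx E).obj (DCoh.inD X (Coh.structureModule X)) ≅ DCoh.toD X E) :
    IsIso (((DCoh.RSheafHomAdj E).homEquiv (DCoh.inD X (Coh.structureModule X)) (DCoh.toD X E)) υ.hom) := by
  haveI : ∀ R : CommRingCat.{u}, PreservesFiniteLimits (tilde.functor R) := OX.preservesFiniteLimits_tildeGen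
  obtain ⟨eE⟩ := hE
  refine isIso_transpose E υ (fun W => IsAffineOpen W ∧ ∃ V : Y.Opens, IsAffineOpen V ∧ W ≤ f ⁻¹ᵁ V)
    (fun T x hx => ?_) fun W hW => ?_
  · obtain ⟨V, hV, hxV, -⟩ := exists_isAffineOpen_mem_and_subset (x := f x) (U := ⊤) trivial
    obtain ⟨W, hW, hxW, hWT⟩ := exists_isAffineOpen_mem_and_subset (x := x) (U := T ⊓ f ⁻¹ᵁ V) ⟨hx, hxV⟩
    exact ⟨W, ⟨hW, V, hV, hWT.trans Set.inter_subset_right⟩, hxW, hWT.trans Set.inter_subset_left⟩
  · obtain ⟨hWa, V, hV, hWV⟩ := hW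
    letI := (f.appLE V W hWV).hom.toAlgebra
    obtain ⟨_, -, _, n, ψ, hψ⟩ := exists_chart_pres f W hWa V hV hWV
    obtain ⟨ec⟩ := nonempty_shriekC_O c hc adj O hO W hWa V hV hWV ψ hψ
    obtain ⟨h1, h2⟩ := simple_GP_of_perfect ψ (hperf W V hWa hV hWV) hψ
    exact ⟨hWa, _, h1, h2, ⟨(resD hWa.fromSpec).mapIso eE ≪≫ ec⟩⟩

end GrothLib.ShriekBridge22
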