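import Groth.Agent.Lib.OX.RHomRestrict
import Groth.Agent.Lib.OX.GluePerfect
import Groth.Agent.Lib.OX.LiftSupport
import Groth.Agent.Lib.OX.TensorScalar
import Groth.Agent.Lib.OX.SupportTorsion
import Groth.Agent.Lib.DCxRing.FromSingle
import Groth.Agent.Lib.OX.ClosedPush
import Groth.Agent.Lib.SuppTens22.Basic
import Groth.Agent.Lib.BCPerf20.AffineBC
import Mathlib.Algebra.Homology.DerivedCategory.Linear

/-! # When `O → RHom(E, E)` is an isomorphism -/

set_option autoImplicit false
set_option linter.style.haveILetI false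
set_option maxHeartbeats 1000000
universe u

open CategoryTheory CategoryTheory.Limits CategoryTheory.Pretriangulated AlgebraicGeometry GrothLib.OX

attribute [local instance] HasDerivedCategory.standard

namespace GrothLib.ShriekBridge22

variable {X : Scheme.{u}}

/-- An object without maps from the generators at a basis of opens is zero. -/
theorem isZero_of_hom_gen_basis {C : DCoh.D X} (P : X.Opens → Prop)
    (hP : ∀ (V : X.Opens) (x : X), x ∈ V → ∃ W, P W ∧ x ∈ W ∧ W ≤ V)
    (h : ∀ W, P W → ∀ (k : ℤ) (φ : (DerivedCategory.singleFunctor X.Modules k).obj ((genF X).obj W) ⟶ C), φ = 0) :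
    IsZero C := by
  have hz : ∀ i, IsZero (DCoh.HD C i) := fun i => (isLocGen_genF (X := X)).isZero_homology fun V φ => by
    refine SiteDer.Locally.trans_family (fun V' V'' f' b hf' => ?_)
      (ι := {W : X.Opens // P W ∧ W ≤ V}) (fun W => homOfLE W.2.2) ?_ fun W => SiteDer.Locally.of_forall fun T b => ?_
    · rw [Functor.map_comp, Functor.map_comp, Category.assoc, hf', comp_zero]
    · intro x hx
      obtain ⟨W, hW, hxW, hWV⟩ := hP V x hx
      exact ⟨W, homOfLE hWV, Sieve.ofArrows_mk (fun W : {W : X.Opens // P W ∧ W ≤ V} => W.1)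
        (fun W => homOfLE W.2.2) ⟨W, hW, hWV⟩, hxW⟩
    · rw [Functor.map_comp, Functor.map_comp, Category.assoc,
        h W.1 W.2.1 i ((DerivedCategory.singleFunctor X.Modules i).map ((genF X).map (homOfLE W.2.2)) ≫ φ), comp_zero]
  obtain ⟨Z, hZ⟩ : ∃ Z : DCoh.D X, IsZero Z := HasZeroObject.zero
  have : IsIso (0 : Z ⟶ C) := (DerivedCategory.isIso_iff _ _).2 fun i =>
    ⟨0, ((DerivedCategory.homologyFunctor _ i).map_isZero hZ).eq_of_src _ _, (hz i).eq_of_src _ _⟩
  exact hZ.of_iso (asIso (0 : Z ⟶ C)).symm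

/-- A morphism bijective on maps from the generators at a basis of opens is invertible. -/
theorem isIso_of_hom_gen_basis {K L : DCoh.D X} (τ : K ⟶ L) (P : X.Opens → Prop)
    (hP : ∀ (V : X.Opens) (x : X), x ∈ V → ∃ W, P W ∧ x ∈ W ∧ W ≤ V)
    (h : ∀ W, P W → ∀ k : ℤ, Function.Bijective
      (fun z : (DerivedCategory.singleFunctor X.Modules k).obj ((genF X).obj W) ⟶ K => z ≫ τ)) : IsIso τ := by
  obtain ⟨C, g, d, hT⟩ := distinguished_cocone_triangle τ
  refine (Triangle.isZero₃_iff_isIso₁ _ hT).1 (isZero_of_hom_gen_basis P hP fun W hW k φ => ?_)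
  let S := DerivedCategory.singleFunctor X.Modules
  have h1 : φ ≫ d = 0 := by
    let e : ((S (k + 1)).obj ((genF X).obj W))⟦(1 : ℤ)⟧ ≅ (S k).obj ((genF X).obj W) :=
      ((DerivedCategory.singleFunctors X.Modules).shiftIso 1 k (k + 1) (by omega)).app _
    obtain ⟨y, hy⟩ := (shiftFunctor (DCoh.D X) (1 : ℤ)).map_surjective
      (X := (S (k + 1)).obj ((genF X).obj W)) (Y := K) (e.hom ≫ φ ≫ d)
    have h0 : y = 0 := (h W hW (k + 1)).1 (by
      show y ≫ τ = (0 : _ ⟶ K) ≫ τ
      rw [zero_comp]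
      apply (shiftFunctor (DCoh.D X) (1 : ℤ)).map_injective
      rw [Functor.map_comp, Functor.map_zero, hy, Category.assoc, Category.assoc]
      refine (congrArg (fun t => e.hom ≫ φ ≫ t) (comp_distTriang_mor_zero₃₁ _ hT)).trans ?_
      simp
      rfl)
    rw [h0, Functor.map_zero] at hy
    rw [← cancel_epi e.hom, comp_zero]
    exact hy.symm
  obtain ⟨b, hb⟩ := Triangle.coyoneda_exact₃ _ hT φ h1
  obtain ⟨z, rfl⟩ := (h W hW k).2 b
  rw [hb]
  exact (Category.assoc z τ g).trans (by rw [show τ ≫ g = 0 from comp_distTriang_mor_zero₁₂ _ hT, comp_zero]; rfl)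

/-- Transposes are detected by the left adjoint. -/
theorem bijective_comp_transpose {C D : Type*} [Category C] [Category D] {F : C ⥤ D} {G : D ⥤ C} (adj : F ⊣ G)
    {Z O : C} {E : D} (υ : F.obj O ≅ E) (h : Function.Bijective (fun z : Z ⟶ O => F.map z)) :
    Function.Bijective (fun z : Z ⟶ O => z ≫ adj.homEquiv O E υ.hom) := by
  have e : (fun z : Z ⟶ O => z ≫ adj.homEquiv O E υ.hom) =
      (adj.homEquiv Z E) ∘ (fun g => g ≫ υ.hom) ∘ (fun z : Z ⟶ O => F.map z) :=
    funext fun z => (adj.homEquiv_naturality_left z υ.hom).symm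
  rw [e]
  exact (adj.homEquiv Z E).bijective.comp (Function.Bijective.comp
    ⟨fun a b hab => (cancel_mono υ.hom).1 hab, fun b => ⟨b ≫ υ.inv, by simp⟩⟩ h)

section Restrict

variable {U : Scheme.{u}} (j : U ⟶ X) [IsOpenImmersion j] (E : CochainComplex X.Modules ℤ) [DCoh.HasLTensorCx E]

/-- Restriction commutes with the derived tensor product, naturally. -/
theorem nonempty_resDLTensorNatIso [DCoh.HasLTensorCx ((resCx j).obj E)] :
    Nonempty (DCoh.LTensorCx E ⋙ resD j ≅ resD j ⋙ DCoh.LTensorCx ((resCx j).obj E)) := by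
  obtain ⟨P, q, hP, -, hq, -⟩ := exists_kflat_resolution E
  have := hasLTensorCx P
  have := hasLTensorCx ((resCx j).obj P)
  obtain ⟨a⟩ := nonempty_ltensorCx_congr q
  have hq' : IsIso ((resD j).map (DerivedCategory.Q.map q)) := inferInstance
  obtain ⟨b⟩ := nonempty_ltensorCx_congr_of_iso (E := (resCx j).obj P) (E' := (resCx j).obj E)
    (((resDFac j).app P).symm ≪≫ (resD j).mapIso (asIso (DerivedCategory.Q.map q)) ≪≫ (resDFac j).app E)
  let F : CochainComplex X.Modules ℤ ⥤ DCoh.D U := tensR P ⋙ resCx j ⋙ DerivedCategory.Q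
  letI : Localization.Lifting DerivedCategory.Q (HomologicalComplex.quasiIso X.Modules (ComplexShape.up ℤ)) F
      (DCoh.LTensorCx P ⋙ resD j) :=
    ⟨(Functor.isoWhiskerRight (ltensorFac P hP) (resD j) :) ≪≫ (Functor.isoWhiskerLeft (tensR P) (resDFac j) :)⟩
  letI : Localization.Lifting DerivedCategory.Q (HomologicalComplex.quasiIso X.Modules (ComplexShape.up ℤ)) F
      (resD j ⋙ DCoh.LTensorCx ((resCx j).obj P)) :=
    ⟨(Functor.isoWhiskerRight (resDFac j) (DCoh.LTensorCx ((resCx j).obj P)) :) ≪≫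
      (Functor.isoWhiskerLeft (resCx j) (ltensorFac _ (isKFlat_resCx j hP)) :) ≪≫
      (Functor.isoWhiskerRight (resTensNatIso j P).symm DerivedCategory.Q :)⟩
  exact ⟨Functor.isoWhiskerRight a.symm _ ≪≫
    Localization.liftNatIso DerivedCategory.Q (HomologicalComplex.quasiIso X.Modules (ComplexShape.up ℤ)) F F
      (DCoh.LTensorCx P ⋙ resD j) (resD j ⋙ DCoh.LTensorCx ((resCx j).obj P)) (Iso.refl _) ≪≫
    Functor.isoWhiskerLeft _ b⟩

/-- Tensoring maps out of `j_!`. -/
theorem bijective_map_extZero [DCoh.HasLTensorCx ((resCx j).obj E)] {A : DCoh.D U} {M : DCoh.D X}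
    (h : Function.Bijective (fun a : A ⟶ (resD j).obj M => (DCoh.LTensorCx ((resCx j).obj E)).map a)) :
    Function.Bijective (fun z : (CxOX.extZeroD j).obj A ⟶ M => (DCoh.LTensorCx E).map z) := by
  obtain ⟨e⟩ := nonempty_extLTensorIso j E
  obtain ⟨n⟩ := nonempty_resDLTensorNatIso j E
  let adj := extZeroDAdj j
  let F := DCoh.LTensorCx E
  let FU := DCoh.LTensorCx ((resCx j).obj E)
  let M' := (resD j).obj M
  haveI : IsIso adj.unit := (resDExtZeroIso j).isIso_hom
  haveI hε : IsIso ((resD j).map (adj.counit.app M)) := IsIso.of_isIso_fac_left (adj.right_triangle_components M)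
  haveI hFε : IsIso ((resD j).map (F.map (adj.counit.app M))) := by
    have : IsIso (FU.map ((resD j).map (adj.counit.app M))) := inferInstance
    exact (NatIso.isIso_map_iff n (adj.counit.app M)).2 this
  let θ : FU.obj M' ⟶ (resD j).obj (F.obj M) :=
    adj.homEquiv _ _ (e.inv.app M' ≫ F.map (adj.counit.app M))
  haveI : IsIso θ := by
    rw [show θ = adj.unit.app _ ≫ (resD j).map (e.inv.app M' ≫ F.map (adj.counit.app M)) from adj.homEquiv_unit _ _ _,
      Functor.map_comp]
    haveI : IsIso ((resD j).map (e.inv.app M')) := inferInstance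
    infer_instance
  have key : (fun z : (CxOX.extZeroD j).obj A ⟶ M => F.map z) =
      (fun t => e.hom.app A ≫ t) ∘ (adj.homEquiv _ _).symm ∘ (fun a => a ≫ θ) ∘ (fun a => FU.map a) ∘
        (adj.homEquiv A M) := funext fun z => by
    have h1 : F.map z = F.map ((CxOX.extZeroD j).map (adj.homEquiv A M z)) ≫ F.map (adj.counit.app M) := by
      rw [← Functor.map_comp]
      exact congrArg F.map (((adj.homEquiv A M).symm_apply_apply z).symm.trans (adj.homEquiv_counit _ _ _))
    have h2 : F.map ((CxOX.extZeroD j).map (adj.homEquiv A M z)) =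
        e.hom.app A ≫ (CxOX.extZeroD j).map (FU.map (adj.homEquiv A M z)) ≫ e.inv.app M' := by
      rw [← reassoc_of% (e.hom.naturality (adj.homEquiv A M z)), Iso.hom_inv_id_app]
      exact (Category.comp_id _).symm
    refine h1.trans ((congrArg (· ≫ _) h2).trans ?_)
    show _ = e.hom.app A ≫ (adj.homEquiv _ _).symm (FU.map (adj.homEquiv A M z) ≫ θ)
    rw [adj.homEquiv_naturality_left_symm, show (adj.homEquiv _ _).symm θ = e.inv.app M' ≫ F.map (adj.counit.app M)
      from (adj.homEquiv _ _).symm_apply_apply _]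
    simp only [Category.assoc]
  rw [key]
  refine Function.Bijective.comp ⟨fun a b hab => (cancel_epi (e.hom.app A)).1 hab,
      fun b => ⟨e.inv.app A ≫ b, Iso.hom_inv_id_app_assoc e A b⟩⟩ ((adj.homEquiv _ _).symm.bijective.comp
    (Function.Bijective.comp ⟨fun a b hab => (cancel_mono θ).1 hab, fun b => ⟨b ≫ inv θ, by simp⟩⟩
      (h.comp (adj.homEquiv A M).bijective)))

end Restrict

section Affine

variable {B : Type u} [CommRing B]

local notation "S" => Spec (CommRingCat.of B)

/-- `tilde` carries scalars. -/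
theorem tildeD_map_smul_id [PreservesFiniteLimits (tilde.functor (CommRingCat.of B))] (a : B) (M : Dual.D B) :
    (DCoh.tildeD (CommRingCat.of B)).map (a • 𝟙 M) = a • 𝟙 ((DCoh.tildeD (CommRingCat.of B)).obj M) := by
  let K := DerivedCategory.Q.objPreimage M
  let e : DerivedCategory.Q.obj K ≅ M := DerivedCategory.Q.objObjPreimageIso M
  let T := tilde.functor (CommRingCat.of B)
  let TD := DCoh.tildeD (CommRingCat.of B)
  have h1 : (T.mapHomologicalComplex (ComplexShape.up ℤ)).map (a • 𝟙 K) =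
      a • 𝟙 ((T.mapHomologicalComplex (ComplexShape.up ℤ)).obj K) := HomologicalComplex.hom_ext _ _ fun i => by
    simp only [Functor.mapHomologicalComplex_map_f, HomologicalComplex.smul_f_apply, HomologicalComplex.id_f]
    refine (tilde_map_smul (CommRingCat.of B) a a ?_ _).trans ?_
    · rw [show (S ↘ S) = 𝟙 S from (Spec.map_id (CommRingCat.of B))]
      simp [Coh.toGlobal]
      rfl
    · exact congrArg (a • ·) (T.map_id _)
  have h2 : TD.map (DerivedCategory.Q.map (a • 𝟙 K)) = a • 𝟙 (TD.obj (DerivedCategory.Q.obj K)) := by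
    rw [← cancel_mono (T.mapDerivedCategoryFactors.hom.app K)]
    refine (T.mapDerivedCategoryFactors.hom.naturality (a • 𝟙 K)).trans ?_
    show _ ≫ DerivedCategory.Q.map _ = _
    rw [h1, Functor.map_smul, CategoryTheory.Functor.map_id, Linear.comp_smul, Category.comp_id, Linear.smul_comp, Category.id_comp]
  have h3 : a • 𝟙 M = e.inv ≫ DerivedCategory.Q.map (a • 𝟙 K) ≫ e.hom := by
    rw [Functor.map_smul, CategoryTheory.Functor.map_id, Linear.smul_comp, Category.id_comp, Linear.comp_smul, e.inv_hom_id]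
  rw [h3, Functor.map_comp, Functor.map_comp, h2, Linear.smul_comp, Category.id_comp, Linear.comp_smul,
    ← Functor.map_comp, e.inv_hom_id, CategoryTheory.Functor.map_id]

/-- Endomorphisms of an object isomorphic to one with scalar endomorphisms are scalars. -/
theorem bijective_smul_id_of_iso {M : Dual.D B} [PreservesFiniteLimits (tilde.functor (CommRingCat.of B))]
    (h : Function.Bijective fun a : B => a • 𝟙 M) {N : DCoh.D S}
    (e : N ≅ (DCoh.tildeD (CommRingCat.of B)).obj M) : Function.Bijective fun a : B => a • 𝟙 N := by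
  haveI := (tildeD_full_faithful_essImage (R := CommRingCat.of B)).1
  haveI := (tildeD_full_faithful_essImage (R := CommRingCat.of B)).2.1
  have : (fun a : B => a • 𝟙 N) = (fun g => e.hom ≫ g ≫ e.inv) ∘
      (DCoh.tildeD (CommRingCat.of B)).map ∘ (fun a : B => a • 𝟙 M) := funext fun a => by
    show _ = e.hom ≫ (DCoh.tildeD (CommRingCat.of B)).map (a • 𝟙 M) ≫ e.inv
    rw [tildeD_map_smul_id, Linear.smul_comp, Category.id_comp, Linear.comp_smul, e.hom_inv_id]
  rw [this]
  exact Function.Bijective.comp ⟨fun g g' hg => by simpa using hg, fun g => ⟨e.inv ≫ g ≫ e.hom, by simp⟩⟩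
    (Function.Bijective.comp ⟨fun g g' hg => Functor.map_injective _ hg, fun g => Functor.map_surjective _ g⟩ h)

/-- Scalars exhaust the endomorphisms of the ring. -/
theorem bijective_smul_id_inD : Function.Bijective fun a : B => a • 𝟙 (Dual.inD B B) := by
  let F := DerivedCategory.singleFunctor (ModuleCat.{u} B) 0
  have : (fun a : B => a • 𝟙 (Dual.inD B B)) = F.map ∘ (fun a : B => a • 𝟙 (ModuleCat.of B B)) := funext fun a => by
    show _ = F.map (a • 𝟙 (ModuleCat.of B B))
    rw [Functor.map_smul, CategoryTheory.Functor.map_id]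
  rw [this]
  refine Function.Bijective.comp ⟨fun g g' hg => Functor.map_injective _ hg, fun g => Functor.map_surjective _ g⟩ ?_
  refine ⟨fun a b hab => ?_, fun g => ⟨g.hom 1, ModuleCat.hom_ext (LinearMap.ext_ring ?_)⟩⟩
  · simpa using congrArg (fun g : ModuleCat.of B B ⟶ ModuleCat.of B B => g.hom 1) hab
  · simp

/-- On an affine scheme tensoring with `E` identifies the endomorphisms of `O` and of `E`. -/
theorem bijective_map_self [PreservesFiniteLimits (tilde.functor (CommRingCat.of B))]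
    (E : CochainComplex (S).Modules ℤ) [DCoh.HasLTensorCx E] {M : Dual.D B}
    (hM : Function.Bijective fun a : B => a • 𝟙 M)
    (e : DerivedCategory.Q.obj E ≅ (DCoh.tildeD (CommRingCat.of B)).obj M) :
    Function.Bijective (fun g : DCoh.inD S (Coh.structureModule S) ⟶ DCoh.inD S (Coh.structureModule S) =>
      (DCoh.LTensorCx E).map g) := by
  obtain ⟨w⟩ := BCPerf20.nonempty_resD_inD (𝟙 S) (Coh.structureModule S)
  obtain ⟨v⟩ := SuppTens22.nonempty_ltensor_unit E
  let O := DCoh.inD S (Coh.structureModule S)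
  have eO : Nonempty (O ≅ (DCoh.tildeD (CommRingCat.of B)).obj (Dual.inD B B)) :=
    ⟨(DerivedCategory.singleFunctor (S).Modules 0).mapIso ((genTopIso (S)).symm ≪≫ tildeGenIso (CommRingCat.of B)) ≪≫
      (((tilde.functor (CommRingCat.of B)).mapDerivedCategorySingleFunctor 0).app (ModuleCat.of B B)).symm⟩
  obtain ⟨eO⟩ := eO
  have hO := bijective_smul_id_of_iso bijective_smul_id_inD eO
  have hF := bijective_smul_id_of_iso hM (v ≪≫ e)
  let qu : DerivedCategory.Q.obj (unitCx S) ≅ O := unitCxQIso S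
  have hmap : ∀ a : B, (DCoh.LTensorCx E).map (a • 𝟙 O) = a • 𝟙 _ := fun a => by
    rw [show a • 𝟙 O = qu.inv ≫ (a • 𝟙 (DerivedCategory.Q.obj (unitCx S))) ≫ qu.hom by
      rw [Linear.smul_comp, Category.id_comp, Linear.comp_smul, qu.inv_hom_id], Functor.map_comp, Functor.map_comp,
      ltensorCx_map_smul_id (A := B) E a _ (isKFlat_single _ (flat_structureModule _) 0), Linear.smul_comp,
      Category.id_comp, Linear.comp_smul, ← Functor.map_comp, qu.inv_hom_id, CategoryTheory.Functor.map_id]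
  refine ⟨fun g g' hg => ?_, fun t => ?_⟩
  · obtain ⟨a, rfl⟩ := hO.2 g
    obtain ⟨a', rfl⟩ := hO.2 g'
    simp only [hmap] at hg
    rw [hF.1 hg]
  · obtain ⟨a, rfl⟩ := hF.2 t
    exact ⟨a • 𝟙 O, hmap a⟩

/-- The ring has no self-maps in nonzero degrees. -/
theorem subsingleton_inD_self {i : ℤ} (hi : i ≠ 0) : Subsingleton (Dual.inD B B ⟶ (Dual.inD B B)⟦i⟧) := by
  haveI : Projective (ModuleCat.of B B) := (IsProjective.iff_projective (R := B) B).1 inferInstance
  refine (Equiv.ofBijective _ (GrothLib.DCpl.homHn_bijective (ModuleCat.of B B) (Dual.inD B B) i)).subsingleton_congr.2 ?_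
  have hz : IsZero ((DerivedCategory.homologyFunctor (ModuleCat.{u} B) i).obj (Dual.inD B B)) := by
    haveI : DerivedCategory.IsGE (Dual.inD B B) 0 :=
      inferInstanceAs (((DerivedCategory.singleFunctor (ModuleCat.{u} B) 0).obj (ModuleCat.of B B)).IsGE 0)
    haveI : DerivedCategory.IsLE (Dual.inD B B) 0 :=
      inferInstanceAs (((DerivedCategory.singleFunctor (ModuleCat.{u} B) 0).obj (ModuleCat.of B B)).IsLE 0)
    rcases lt_or_gt_of_ne hi with h | h
    · exact DerivedCategory.isZero_of_isGE _ 0 i h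
    · exact DerivedCategory.isZero_of_isLE _ 0 i h
  exact ⟨fun a b => hz.eq_of_tgt a b⟩

/-- Vanishing of self-maps in nonzero degrees, with the shift on the left, through `tilde`. -/
theorem subsingleton_shift_hom [PreservesFiniteLimits (tilde.functor (CommRingCat.of B))] {M : Dual.D B}
    (h : ∀ i : ℤ, i ≠ 0 → Subsingleton (M ⟶ M⟦i⟧)) {P Q : DCoh.D S} {m : ℤ} (hm : m ≠ 0)
    (eP : P ≅ ((DCoh.tildeD (CommRingCat.of B)).obj M)⟦m⟧) (eQ : Q ≅ (DCoh.tildeD (CommRingCat.of B)).obj M) :
    Subsingleton (P ⟶ Q) := by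
  let T := DCoh.tildeD (CommRingCat.of B)
  haveI := (tildeD_full_faithful_essImage (R := CommRingCat.of B)).1
  haveI := (tildeD_full_faithful_essImage (R := CommRingCat.of B)).2.1
  haveI : Subsingleton ((𝟭 (Dual.D B)).obj M ⟶ M⟦-m⟧) := h (-m) (neg_ne_zero.2 hm)
  haveI : Subsingleton ((M⟦m⟧)⟦-m⟧ ⟶ M⟦-m⟧) :=
    (((shiftFunctorCompIsoId (Dual.D B) m (-m) (add_neg_cancel m)).app M).homFromEquiv).subsingleton
  haveI : Subsingleton (M⟦m⟧ ⟶ M) :=
    ((shiftFunctor (Dual.D B) (-m)).map_injective (X := M⟦m⟧) (Y := M)).subsingleton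
  refine ⟨fun a b => ?_⟩
  rw [← cancel_epi (eP ≪≫ ((T.commShiftIso m).app M).symm).inv, ← cancel_mono eQ.hom]
  obtain ⟨a', ha'⟩ := T.map_surjective (X := M⟦m⟧) (Y := M) (((eP ≪≫ ((T.commShiftIso m).app M).symm).inv ≫ a) ≫ eQ.hom)
  obtain ⟨b', hb'⟩ := T.map_surjective (X := M⟦m⟧) (Y := M) (((eP ≪≫ ((T.commShiftIso m).app M).symm).inv ≫ b) ≫ eQ.hom)
  rw [← ha', ← hb', Subsingleton.elim a' b']

/-- The structure sheaf of a spectrum as a module. -/
theorem nonempty_inD_iso_tildeD [PreservesFiniteLimits (tilde.functor (CommRingCat.of B))] :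
    Nonempty (DCoh.inD S (Coh.structureModule S) ≅ (DCoh.tildeD (CommRingCat.of B)).obj (Dual.inD B B)) :=
  ⟨(DerivedCategory.singleFunctor (S).Modules 0).mapIso ((genTopIso (S)).symm ≪≫ tildeGenIso (CommRingCat.of B)) ≪≫
    (((tilde.functor (CommRingCat.of B)).mapDerivedCategorySingleFunctor 0).app (ModuleCat.of B B)).symm⟩

/-- Tensoring with `E` on the shifted structure sheaves of an affine scheme. -/
theorem bijective_map_affine [PreservesFiniteLimits (tilde.functor (CommRingCat.of B))]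
    (E : CochainComplex (S).Modules ℤ) [DCoh.HasLTensorCx E] {M : Dual.D B}
    (hM : Function.Bijective fun a : B => a • 𝟙 M) (hM' : ∀ i : ℤ, i ≠ 0 → Subsingleton (M ⟶ M⟦i⟧))
    (e : DerivedCategory.Q.obj E ≅ (DCoh.tildeD (CommRingCat.of B)).obj M) {N : DCoh.D S}
    (eN : N ≅ (DCoh.tildeD (CommRingCat.of B)).obj (Dual.inD B B)) (k : ℤ) :
    Function.Bijective (fun g : (DerivedCategory.singleFunctor (S).Modules k).obj (Coh.structureModule S) ⟶ N =>
      (DCoh.LTensorCx E).map g) := by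
  let F := DCoh.LTensorCx E
  let O := DCoh.inD S (Coh.structureModule S)
  obtain ⟨eO⟩ := nonempty_inD_iso_tildeD (B := B)
  obtain ⟨v⟩ := SuppTens22.nonempty_ltensor_unit E
  rcases eq_or_ne k 0 with rfl | hk
  · let i : O ≅ N := eO ≪≫ eN.symm
    have : (fun g : O ⟶ N => F.map g) = (fun t => t ≫ F.map i.hom) ∘ (fun g : O ⟶ O => F.map g) ∘ (fun g => g ≫ i.inv) :=
      funext fun g => by simp [← Functor.map_comp]
    show Function.Bijective (fun g : O ⟶ N => F.map g)
    rw [this]
    exact Function.Bijective.comp ⟨fun a b hab => (cancel_mono (F.map i.hom)).1 hab, fun b => ⟨b ≫ F.map i.inv, by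
      simp [← Functor.map_comp]⟩⟩ ((bijective_map_self E hM e).comp
      ⟨fun a b hab => (cancel_mono i.inv).1 hab, fun b => ⟨b ≫ i.hom, by simp⟩⟩)
  · let s : (DerivedCategory.singleFunctor (S).Modules k).obj (Coh.structureModule S) ≅ O⟦-k⟧ :=
      (((DerivedCategory.singleFunctors (S).Modules).shiftIso (-k) k 0 (by omega)).app _).symm
    obtain ⟨w⟩ := Dual22.nonempty_ltensorCx_shift_unit E (-k)
    haveI h1 := subsingleton_shift_hom (fun i hi => subsingleton_inD_self (B := B) hi) (neg_ne_zero.2 hk)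
      (s ≪≫ (shiftFunctor _ (-k)).mapIso eO) eN
    haveI h2 := subsingleton_shift_hom hM' (neg_ne_zero.2 hk)
      (F.mapIso s ≪≫ w ≪≫ (shiftFunctor _ (-k)).mapIso e) (F.mapIso (eN ≪≫ eO.symm) ≪≫ v ≪≫ e)
    exact ⟨fun a b _ => h1.elim a b, fun b => ⟨0, h2.elim _ _⟩⟩

end Affine

/-- **`O → RHom(E, E)` is an isomorphism when, on a basis of affine opens, `E` has only scalar endomorphisms and
no self-maps in nonzero degrees.** -/
theorem isIso_transpose [∀ (R : CommRingCat.{u}), PreservesFiniteLimits (tilde.functor R)]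
    (E : CochainComplex X.Modules ℤ) [DCoh.HasLTensorCx E] [DCoh.HasRSheafHom E]
    (υ : (DCoh.LTensorCx E).obj (DCoh.inD X (Coh.structureModule X)) ≅ DCoh.toD X E)
    (P : X.Opens → Prop) (hP : ∀ (V : X.Opens) (x : X), x ∈ V → ∃ W, P W ∧ x ∈ W ∧ W ≤ V)
    (h : ∀ W, P W → ∃ (hW : IsAffineOpen W) (M : Dual.D Γ(X, W)),
      (Function.Bijective fun a : Γ(X, W) => a • 𝟙 M) ∧ (∀ i : ℤ, i ≠ 0 → Subsingleton (M ⟶ M⟦i⟧)) ∧
      Nonempty ((resD hW.fromSpec).obj (DCoh.toD X E) ≅ (DCoh.tildeD Γ(X, W)).obj M)) :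
    IsIso (((DCoh.RSheafHomAdj E).homEquiv (DCoh.inD X (Coh.structureModule X)) (DCoh.toD X E)) υ.hom) := by
  refine isIso_of_hom_gen_basis _ P hP fun W hPW k => bijective_comp_transpose (DCoh.RSheafHomAdj E) υ ?_
  obtain ⟨hW, M, hM, hM', ⟨eM⟩⟩ := h W hPW
  let j : Spec (CommRingCat.of Γ(X, W)) ⟶ X := hW.fromSpec
  haveI : IsOpenImmersion j := inferInstanceAs (IsOpenImmersion hW.fromSpec)
  haveI := hasLTensorCx ((resCx j).obj E)
  let U := Spec (CommRingCat.of Γ(X, W))
  let A := (DerivedCategory.singleFunctor U.Modules k).obj (Coh.structureModule U)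
  let ζ : (CxOX.extZeroD j).obj A ≅ (DerivedCategory.singleFunctor X.Modules k).obj ((genF X).obj W) :=
    ((CxOX.extZero j).mapDerivedCategorySingleFunctor k).app _ ≪≫ (DerivedCategory.singleFunctor X.Modules k).mapIso
      ((CxOX.extZero j).mapIso (genTopIso U).symm ≪≫ (extZeroGenIso' j ⊤).symm ≪≫
        (genF X).mapIso (eqToIso (show j ''ᵁ ⊤ = W from (Scheme.Hom.image_top_eq_opensRange _).trans hW.opensRange_fromSpec)))
  obtain ⟨eN⟩ := BCPerf20.nonempty_resD_inD j (Coh.structureModule X)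
  obtain ⟨eU⟩ := nonempty_inD_iso_tildeD (B := Γ(X, W))
  have hb := bijective_map_extZero j E (A := A) (M := DCoh.inD X (Coh.structureModule X))
    (bijective_map_affine ((resCx j).obj E) hM hM' (((resDFac j).app E).symm ≪≫ eM)
      (eN ≪≫ (DerivedCategory.singleFunctor U.Modules 0).mapIso (OX.pullUnitIso j) ≪≫ eU) k)
  let F := DCoh.LTensorCx E
  have key : (fun z : (DerivedCategory.singleFunctor X.Modules k).obj ((genF X).obj W) ⟶
      DCoh.inD X (Coh.structureModule X) => F.map z) =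
      (fun t => F.map ζ.inv ≫ t) ∘ (fun z => F.map z) ∘ (fun z => ζ.hom ≫ z) := funext fun z => by
    simp [← Functor.map_comp]
  rw [key]
  exact Function.Bijective.comp ⟨fun a b hab => (cancel_epi (F.map ζ.inv)).1 hab, fun b => ⟨F.map ζ.hom ≫ b, by
    simp [← Functor.map_comp_assoc]⟩⟩ (hb.comp ⟨fun a b hab => (cancel_epi ζ.hom).1 hab, fun b => ⟨ζ.inv ≫ b, by simp⟩⟩)

end GrothLib.ShriekBridge22
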