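import Groth.Agent.Lib.ShriekBridge22.Fibre
import Groth.Agent.Lib.DualRing.RelCM
import Groth.Agent.Lib.DualRing.CanonStalk
import Groth.Agent.Lib.AlgSp.FibreDimZero

/-! # `f^!O` over a Cohen–Macaulay point -/

set_option autoImplicit false
set_option linter.style.haveILetI false
set_option maxHeartbeats 1000000
universe u

open CategoryTheory CategoryTheory.Limits AlgebraicGeometry GrothLib.OX

attribute [local instance] HasDerivedCategory.standard
attribute [local instance] GrothLib.DualRing.Shriek.pfl_of_flat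

noncomputable section

namespace GrothLib.ShriekBridge22

variable {X Y : Scheme.{u}} (f : X ⟶ Y)

/-- A point whose only generalisation is itself is the generic point of a component. -/
theorem closure_mem_irreducibleComponents_of_maximal {ξ : X} (h : ∀ η : X, η ⤳ ξ → η = ξ) :
    closure ({ξ} : Set X) ∈ irreducibleComponents X := by
  refine ⟨isIrreducible_singleton.closure, fun Z hZ hle => ?_⟩
  obtain ⟨η, hη⟩ : ∃ η, IsGenericPoint η (closure Z) := QuasiSober.sober hZ.closure isClosed_closure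
  have h1 : η ⤳ ξ := hη.specializes (subset_closure (hle (subset_closure rfl)))
  intro z hz
  rw [← h η h1, hη.def]
  exact subset_closure hz

/-- An affine chart all of whose maximal points specialise to the given point. -/
theorem exists_affine_nhds_minimal [AlgebraicGeometry.IsNoetherian X] (x : X) :
    ∃ (U : X.Opens) (hU : IsAffineOpen U) (V : Y.Opens) (_ : IsAffineOpen V) (_ : U ≤ f ⁻¹ᵁ V) (hx : x ∈ U),
      ∀ q : PrimeSpectrum Γ(X, U), q.asIdeal ∈ minimalPrimes Γ(X, U) →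
        (∀ η : X, η ⤳ hU.fromSpec q → η = hU.fromSpec q) ∧ hU.fromSpec q ⤳ x ∧ q ≤ hU.primeIdealOf ⟨x, hx⟩ := by
  let N : Set X := ⋃ Z ∈ {Z : Set X | Z ∈ irreducibleComponents X ∧ x ∉ Z}, Z
  have hN : IsClosed N := Set.Finite.isClosed_biUnion
    ((TopologicalSpace.NoetherianSpace.finite_irreducibleComponents (α := X)).subset fun Z hZ => hZ.1)
    (fun Z hZ => isClosed_of_mem_irreducibleComponents Z hZ.1)
  have hxN : x ∉ N := by
    simp only [N, Set.mem_iUnion]
    rintro ⟨Z, hZ, hxZ⟩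
    exact hZ.2 hxZ
  obtain ⟨V, hV, hxV, -⟩ := exists_isAffineOpen_mem_and_subset (x := f x) (U := ⊤) trivial
  obtain ⟨U, hU', hxU, hUV⟩ := exists_isAffineOpen_mem_and_subset (x := x)
    (U := f ⁻¹ᵁ V ⊓ ⟨Nᶜ, hN.isOpen_compl⟩) ⟨hxV, hxN⟩
  have hU : IsAffineOpen U := hU'
  refine ⟨U, hU, V, hV, fun z hz => (hUV hz).1, hxU, fun q hq => ?_⟩
  have hrange : Set.range hU.fromSpec = (U : Set X) := hU.range_fromSpec
  have hmem : hU.fromSpec q ∈ (U : Set X) := hrange ▸ ⟨q, rfl⟩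
  have hind := hU.fromSpec.isOpenEmbedding.isInducing
  have hmax : ∀ η : X, η ⤳ hU.fromSpec q → η = hU.fromSpec q := fun η hη => by
    obtain ⟨r, rfl⟩ : η ∈ Set.range hU.fromSpec := hrange.symm ▸ hη.mem_open U.2 hmem
    have hr : r.asIdeal ≤ q.asIdeal := (PrimeSpectrum.le_iff_specializes r q).2 (hind.specializes_iff.1 hη)
    have : r = q := PrimeSpectrum.ext (le_antisymm hr (hq.2 ⟨r.isPrime, bot_le⟩ hr))
    rw [this]
  have hsp : hU.fromSpec q ⤳ x := by
    refine specializes_iff_mem_closure.2 (by_contra fun h => (hUV hmem).2 ?_)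
    simp only [N, Set.mem_iUnion]
    exact ⟨_, ⟨closure_mem_irreducibleComponents_of_maximal hmax, h⟩, subset_closure rfl⟩
  refine ⟨hmax, hsp, (PrimeSpectrum.le_iff_specializes _ _).2 (hind.specializes_iff.1 ?_)⟩
  rw [hU.fromSpec_primeIdealOf]
  exact hsp

variable {U : X.Opens} (hU : IsAffineOpen U) {V : Y.Opens} (hV : IsAffineOpen V) (hUV : U ≤ f ⁻¹ᵁ V)

include hV in
/-- Residual transcendence degrees on a chart. -/
theorem resTrdeg_appLE (q : PrimeSpectrum Γ(X, U)) :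
    letI := (f.appLE V U hUV).hom.toAlgebra
    Dual3.resTrdeg (Spec.map (CommRingCat.ofHom (algebraMap Γ(Y, V) Γ(X, U)))) q =
      Dual3.resTrdeg f (hU.fromSpec q) := by
  letI := (f.appLE V U hUV).hom.toAlgebra
  have e : Spec.map (CommRingCat.ofHom (algebraMap Γ(Y, V) Γ(X, U))) ≫ hV.fromSpec = hU.fromSpec ≫ f :=
    IsAffineOpen.SpecMap_appLE_fromSpec f hV hU hUV
  have h : Dual3.resTrdeg (Spec.map (CommRingCat.ofHom (algebraMap Γ(Y, V) Γ(X, U))) ≫ hV.fromSpec) q =
      Dual3.resTrdeg (hU.fromSpec ≫ f) q := by rw [e]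
  refine Eq.trans ?_ (h.trans ?_)
  · refine Eq.trans ?_ (GrothLib.AlgSp.resTrdeg_comp _ _ _).symm
    rw [GrothLib.AlgSp.resTrdeg_eq_zero_of_lqf hV.fromSpec, zero_add]
  · refine (GrothLib.AlgSp.resTrdeg_comp _ _ _).trans ?_
    rw [GrothLib.AlgSp.resTrdeg_eq_zero_of_lqf hU.fromSpec, add_zero]

/-- **`f^!O` at a point over a Cohen–Macaulay point.** -/
theorem shriekC_over_CM_point [AlgebraicGeometry.IsNoetherian X] [AlgebraicGeometry.IsNoetherian Y]
    [LocallyOfFiniteType f] [∀ R : CommRingCat.{u}, PreservesFiniteLimits (tilde.functor R)]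
    (c : DEt.Compactification f) [DCoh.HasRpush c.fbar]
    (hc : DCoh.RpushPreservesQCoh c.fbar) {a : DCoh.DQCoh Y ⥤ DCoh.DQCoh c.Xbar}
    (adj : DCoh.RpushQ c.fbar hc ⊣ a) [PreservesFiniteLimits (Scheme.Modules.restrictFunctor c.j)]
    (O : DCoh.DQCoh Y) (hO : Nonempty (O.obj ≅ DCoh.inD Y (Coh.structureModule Y))) (x : X) (r : ℕ)
    (hCM : LocCoh.IsCohenMacaulayLocalRing (Y.presheaf.stalk (f x)))
    (htr : ∀ Z : Set X, Z ∈ irreducibleComponents X → x ∈ Z → ∀ ξ : X, closure ({ξ} : Set X) = Z →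
      Dual3.resTrdeg f ξ ≤ (r : Cardinal.{u})) :
    (∀ i : ℤ, Nontrivial ((DCoh.HD ((Dual3.shriekC c a).obj O) i).presheaf.stalk x) → -(r : ℤ) ≤ i) ∧
      LocCoh.HasSk 2 (X.presheaf.stalk x)
        ((DCoh.HD ((Dual3.shriekC c a).obj O) (-(r : ℤ))).presheaf.stalk x) := by
  obtain ⟨U, hU, V, hV, hUV, hx, hmin⟩ := exists_affine_nhds_minimal f x
  letI := (f.appLE V U hUV).hom.toAlgebra
  obtain ⟨_, _, _, n, ψ, hψ⟩ := exists_chart_pres f U hU V hV hUV
  obtain ⟨ec⟩ := nonempty_shriekC_O c hc adj O hO U hU V hV hUV ψ hψ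
  have hq := fun i => isQCohD_shriekC c a O i
  let P := WeakAss.primeAt x hx
  have hP : (⟨P, inferInstance⟩ : PrimeSpectrum Γ(X, U)) = hU.primeIdealOf ⟨x, hx⟩ :=
    QCoh.primeAt_eq_primeIdealOf hU hx
  let p := (hV.primeIdealOf ⟨f x, hUV hx⟩).asIdeal
  have hPp : P.comap (algebraMap Γ(Y, V) Γ(X, U)) = p := by
    have h1 : PrimeSpectrum.comap (algebraMap Γ(Y, V) Γ(X, U)) (hU.primeIdealOf ⟨x, hx⟩) =
        hV.primeIdealOf ⟨f x, hUV hx⟩ := hV.fromSpec.isOpenEmbedding.injective (by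
      rw [hV.fromSpec_primeIdealOf]
      have h2 : ((Spec.map (f.appLE V U hUV) ≫ hV.fromSpec) (hU.primeIdealOf ⟨x, hx⟩)) =
          (hU.fromSpec ≫ f) (hU.primeIdealOf ⟨x, hx⟩) := congrArg (fun g : Spec Γ(X, U) ⟶ Y => g (hU.primeIdealOf ⟨x, hx⟩)) (IsAffineOpen.SpecMap_appLE_fromSpec f hV hU hUV)
      rw [Scheme.Hom.comp_apply, Scheme.Hom.comp_apply, hU.fromSpec_primeIdealOf] at h2
      exact h2)
    exact (congrArg (fun z => (PrimeSpectrum.comap (algebraMap Γ(Y, V) Γ(X, U)) z).asIdeal) hP).trans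
      (congrArg PrimeSpectrum.asIdeal h1)
  letI := Y.presheaf.algebra_section_stalk ⟨f x, hUV hx⟩
  haveI : IsLocalization.AtPrime (Y.presheaf.stalk (f x)) p := hV.isLocalization_stalk ⟨f x, hUV hx⟩
  haveI : LocCoh.IsCohenMacaulayLocalRing (Localization.AtPrime p) :=
    @HB26.isCohenMacaulayLocalRing_of_ringEquiv _ _ _ _
      (IsLocalization.algEquiv p.primeCompl (Y.presheaf.stalk (f x)) (Localization.AtPrime p)).toRingEquiv hCM
  have hr : ∀ q : PrimeSpectrum Γ(X, U), q.asIdeal ∈ minimalPrimes Γ(X, U) →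
      Dual3.resTrdeg (Spec.map (CommRingCat.ofHom (algebraMap Γ(Y, V) Γ(X, U)))) q ≤ (r : Cardinal.{u}) :=
    fun q hqm => by
    obtain ⟨h1, h2, -⟩ := hmin q hqm
    exact (resTrdeg_appLE f hU hV hUV q).le.trans
      (htr _ (closure_mem_irreducibleComponents_of_maximal h1) h2.mem_closure _ rfl)
  refine ⟨fun i hi => ?_, ?_⟩
  · have h := (nontrivial_stalk_iff hU _ ec i (hq i) x hx).1 hi
    refine DualRing.FibreDim.neg_le_of_nontrivial_localized ψ hψ p r hr i ?_
    by_contra hs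
    have hs' := not_nontrivial_iff_subsingleton.1 hs
    refine not_subsingleton_iff_nontrivial.2 h (LocalizedModule.subsingleton_iff.2 fun z => ?_)
    obtain ⟨g, hg, hgz⟩ := LocalizedModule.subsingleton_iff.1 hs' z
    refine ⟨g, ?_, hgz⟩
    obtain ⟨b, hb, rfl⟩ := hg
    show algebraMap Γ(Y, V) Γ(X, U) b ∈ P.primeCompl
    exact fun hbP => hb (hPp.le hbP)
  · letI := X.presheaf.algebra_section_stalk ⟨x, hx⟩
    haveI := FlatFP.isLocalization_stalk_primeAt hU hx
    letI : Module Γ(X, U) ((DCoh.HD ((Dual3.shriekC c a).obj O) (-(r : ℤ))).presheaf.stalk x) :=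
      Module.compHom _ (X.presheaf.germ U x hx).hom
    haveI : IsScalarTower Γ(X, U) (X.presheaf.stalk x)
        ((DCoh.HD ((Dual3.shriekC c a).obj O) (-(r : ℤ))).presheaf.stalk x) :=
      IsScalarTower.of_algebraMap_smul fun _ _ => rfl
    obtain ⟨g, hg⟩ := exists_localized hU _ ec (-(r : ℤ)) (hq _) x hx
    haveI := hg
    haveI := DualRing.FibreDim.finite_HD_GP_self ψ hψ (-(r : ℤ))
    intro Q _
    refine (DualRing.skCond_iff_of_isLocalizedModule P.primeCompl g 2 Q).2 ?_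
    let q : PrimeSpectrum Γ(X, U) := ⟨Q.comap (algebraMap Γ(X, U) (X.presheaf.stalk x)), inferInstance⟩
    have hqP : q.asIdeal ≤ P := by
      intro b hb
      by_contra hbP
      exact ‹Q.IsPrime›.ne_top (Ideal.eq_top_of_isUnit_mem _ hb
        (IsLocalization.map_units (X.presheaf.stalk x) (⟨b, hbP⟩ : P.primeCompl)))
    have h := DualRing.FibreDim.le_depth_HD_GP ψ hψ p r hr q ((Ideal.comap_mono hqP).trans hPp.le)
    show SkExt.SkCond 2 _ q.asIdeal
    unfold SkExt.SkCond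
    refine le_trans (b := min (((2 : ℕ) : ℕ∞) : WithBot ℕ∞) ((Order.height q : ℕ∞) : WithBot ℕ∞))
      (min_le_min le_rfl ?_) ?_
    · exact (Module.supportDim_le_ringKrullDim _ _).trans_eq
        ((IsLocalization.AtPrime.ringKrullDim_eq_height q.asIdeal _).trans
          (congrArg WithBot.some (PrimeSpectrum.height_eq_orderHeight q)))
    · exact ((WithBot.coe_min _ _).symm.trans_le (WithBot.coe_le_coe.2 h))

end GrothLib.ShriekBridge22
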