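import Groth.Agent.Lib.ShriekBridge22.FieldPoints
import Groth.Agent.Lib.ShriekBridge22.CMPoint
import Groth.Agent.Lib.DualRing.GorFlatBC

/-! # The canonical module of a proper scheme over a field -/

set_option autoImplicit false
set_option linter.style.haveILetI false
set_option maxHeartbeats 1000000
universe u

open CategoryTheory CategoryTheory.Limits AlgebraicGeometry GrothLib.OX
open scoped TensorProduct

attribute [local instance] HasDerivedCategory.standard

noncomputable section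

namespace GrothLib.ShriekBridge22

section Ring

open GrothLib.DualRing GrothLib.DualRing.Shriek GrothLib.SkExt GrothLib.DualCx22

variable {k : Type u} [Field k] {B : Type u} [CommRing B] [Algebra k B] [IsNoetherianRing B] {n : ℕ}
  (ψ : MvPolynomial (Fin n) k →ₐ[k] B) (hψ : Function.Surjective ψ)

include ψ hψ in
/-- A component of large dimension through every point of the support. -/
theorem exists_minimal_dim (i : ℤ) (q : PrimeSpectrum B)
    (hq : q ∈ Module.support B (Dual.HD B (GP ψ (Dual.inD k k)) i)) :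
    ∃ r : PrimeSpectrum B, r.asIdeal ∈ minimalPrimes B ∧ r ≤ q ∧
      (((-i).toNat : ℕ) : WithBot ℕ∞) ≤ ringKrullDim (B ⧸ r.asIdeal) := by
  have hω := isDualizing_GP ψ hψ (isDualizing_field k)
  have hmax : ∀ (m : Ideal B) [m.IsMaximal], deg hω m = 0 := fun m _ => by
    by_contra hne
    haveI := subsingleton_max ψ hψ m _ hne
    exact one_ne_zero ((mu_deg hω m).symm.trans len_eq_zero_of_subsingleton)
  rw [← (exists_hom_ring_equiv (GP ψ (Dual.inD k k)) i).some.support_eq] at hq
  obtain ⟨r, hr, hrq, -, h1, h2⟩ := exists_quotient_bounds hω B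
    ((nontrivial_localized_iff q.asIdeal _).1 (Module.mem_support_iff.1 hq))
  haveI := hr
  obtain ⟨r₀, hr₀, hle⟩ := Ideal.exists_minimalPrimes_le (bot_le : (⊥ : Ideal B) ≤ r)
  refine ⟨⟨r₀, hr₀.isPrime⟩, hr₀, hle.trans hrq,
    le_trans ?_ (ringKrullDim_le_of_surjective (Ideal.Quotient.factor hle) (Ideal.Quotient.factor_surjective hle))⟩
  rw [ringKrullDim_quotient_of_max hω hmax r]
  exact_mod_cast (show (-i).toNat ≤ (-deg hω r).toNat by omega)

include ψ hψ in
/-- At a minimal prime the dualizing complex lives in minus the dimension of the component. -/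
theorem mem_support_of_minimal (Q₀ : PrimeSpectrum B) (hmin : Q₀.asIdeal ∈ minimalPrimes B) {d : ℕ}
    (hd : ringKrullDim (B ⧸ Q₀.asIdeal) = (d : WithBot ℕ∞)) :
    Q₀ ∈ Module.support B (Dual.HD B (GP ψ (Dual.inD k k)) (-(d : ℤ))) := by
  obtain ⟨j, hj⟩ := exists_mem_support (isDualizing_GP ψ hψ (isDualizing_field k)) Q₀
  obtain ⟨h1, h2, -⟩ := support_bounds ψ hψ j Q₀ hj
  obtain ⟨r, -, hrq, h3⟩ := exists_minimal_dim ψ hψ j Q₀ hj
  obtain rfl : r = Q₀ := PrimeSpectrum.ext (le_antisymm hrq (hmin.2 ⟨r.isPrime, bot_le⟩ hrq))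
  rw [hd, Nat.cast_le] at h2 h3
  obtain rfl : j = -(d : ℤ) := by omega
  exact hj

include ψ hψ in
/-- **At a closed point the top degree is minus the depth.** -/
theorem support_at_maximal (P : PrimeSpectrum B) [P.asIdeal.IsMaximal] {e : ℕ}
    (he : LocCoh.depth (Localization.AtPrime P.asIdeal) (Localization.AtPrime P.asIdeal) = (e : ℕ∞)) :
    P ∈ Module.support B (Dual.HD B (GP ψ (Dual.inD k k)) (-(e : ℤ))) ∧
      ∀ j : ℤ, P ∈ Module.support B (Dual.HD B (GP ψ (Dual.inD k k)) j) → j ≤ -(e : ℤ) := by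
  let ω := GP ψ (Dual.inD k k)
  have hω : Dual.IsDualizing B ω := isDualizing_GP ψ hψ (isDualizing_field k)
  let C := Localization.AtPrime P.asIdeal
  haveI : IsNoetherianRing C := GrothLib.Depth.isNoetherian_atPrime _
  haveI : Module.Flat B C := IsLocalization.flat C P.asIdeal.primeCompl
  haveI := GrothLib.DR.preservesFiniteLimits_extendScalars (algebraMap B C) GrothLib.DR.flat_algebraMap
  obtain ⟨a, b, hab⟩ := hω.finite_injective_dimension
  haveI : ω.IsGE a := GrothLib.DualCx22.isGE_of_hom_ring ω a fun i hi => hab B i (Or.inl hi)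
  let ω' := (bcD (A := B) C).obj ω
  have hω' : Dual.IsDualizing C ω' := isDualizing_bcD_localization P.asIdeal.primeCompl C hω
  have hm : P.asIdeal.map (algebraMap B C) = IsLocalRing.maximalIdeal C :=
    IsLocalization.AtPrime.map_eq_maximalIdeal P.asIdeal C
  have hn : Dual.IsNormalized C ω' := fun i hi => by
    haveI : Subsingleton (EH ω (Dual.inD B (B ⧸ P.asIdeal)) i) := subsingleton_max ψ hψ P.asIdeal i hi
    have h0 : Subsingleton (EH ω' (Dual.inD C (C ⧸ P.asIdeal.map (algebraMap B C))) i) :=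
      (nonempty_equiv_quotient_bcD C ω a P.asIdeal i).some.toEquiv.subsingleton
    rw [hm] at h0
    exact h0
  obtain ⟨h1, h2⟩ := depth_criterion hω' hn e C he
  have key : ∀ j, P ∈ Module.support B (Dual.HD B ω j) ↔ Nontrivial (EH ω' (Dual.inD C C) j) := fun j => by
    rw [← nontrivial_HD_iff_mem_support hω P (nonempty_HD_bcD_equiv (A := B) C ω j).some]
    exact (exists_hom_ring_equiv ω' j).some.toEquiv.nontrivial_congr.symm
  refine ⟨(key _).2 h2, fun j hj => ?_⟩
  by_contra hlt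
  refine not_subsingleton_iff_nontrivial.2 ((key j).1 hj) ?_
  by_cases h0 : 0 < j
  · exact subsingleton_EH_pos hω' hn C h0
  · obtain ⟨δ, hδ⟩ := Int.eq_ofNat_of_zero_le (show 0 ≤ -j by omega)
    rw [show j = -(δ : ℤ) by omega]
    exact h1 δ (by omega)

end Ring

variable {X : Scheme.{u}} [∀ R : CommRingCat.{u}, PreservesFiniteLimits (tilde.functor R)] {k : Type u} [Field k]
  (f : X ⟶ Spec (CommRingCat.of k)) [IsProper f] [DCoh.HasRpush f] (hf : DCoh.RpushPreservesQCoh f)
  {a : DCoh.DQCoh (Spec (CommRingCat.of k)) ⥤ DCoh.DQCoh X} (adj : DCoh.RpushQ f hf ⊣ a)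
  (O : DCoh.DQCoh (Spec (CommRingCat.of k)))
  (hO : Nonempty (O.obj ≅ DCoh.inD (Spec (CommRingCat.of k)) (Coh.structureModule (Spec (CommRingCat.of k)))))
  (d : ℕ) (hd : topologicalKrullDim X = (d : WithBot ℕ∞))

include adj hO hd in
/-- Serre's condition `(S₂)` for the lowest cohomology sheaf. -/
theorem hasSk_two_adjoint (x : X) :
    LocCoh.HasSk 2 (X.presheaf.stalk x) ((DCoh.HD (a.obj O).obj (-(d : ℤ))).presheaf.stalk x) := by
  obtain ⟨U, hU', hx, -⟩ := exists_isAffineOpen_mem_and_subset (x := x) (U := ⊤) trivial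
  have hU : IsAffineOpen U := hU'
  obtain ⟨_, n, ψ, hψ, _, ⟨e⟩⟩ := exists_field_chart f hf adj O hO U hU
  let ω := GrothLib.DualRing.Shriek.GP ψ (Dual.inD k k)
  have hω : Dual.IsDualizing Γ(X, U) ω := isDualizing_GP ψ hψ (isDualizing_field k)
  have hv : ∀ i, i < -(d : ℤ) → Subsingleton (Dual.HD Γ(X, U) ω i) := fun i hi => by
    refine (Module.support_eq_empty_iff (R := Γ(X, U))).1 (Set.eq_empty_iff_forall_notMem.2 fun q hq => ?_)
    have hy : hU.fromSpec q ∈ U := by
      have : hU.fromSpec q ∈ Set.range hU.fromSpec := ⟨q, rfl⟩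
      rwa [hU.range_fromSpec] at this
    have hq' : hU.primeIdealOf ⟨hU.fromSpec q, hy⟩ = q :=
      hU.fromSpec.isOpenEmbedding.injective (hU.fromSpec_primeIdealOf ⟨hU.fromSpec q, hy⟩)
    rw [← hq', ← QCoh.primeAt_eq_primeIdealOf hU hy, Module.mem_support_iff,
      ← nontrivial_stalk_iff hU ω e i ((a.obj O).property i) _ hy] at hq
    exact not_nontrivial_iff_subsingleton.2 (ModuleCat.subsingleton_of_isZero
      ((OX.isZero_iff _).1 (isZero_HD_adjoint f hf adj O hO d hd i (Or.inl hi)) _)) hq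
  letI := X.presheaf.algebra_section_stalk ⟨x, hx⟩
  haveI := FlatFP.isLocalization_stalk_primeAt hU hx
  letI : Module Γ(X, U) ((DCoh.HD (a.obj O).obj (-(d : ℤ))).presheaf.stalk x) :=
    Module.compHom _ (X.presheaf.germ U x hx).hom
  haveI : IsScalarTower Γ(X, U) (X.presheaf.stalk x) ((DCoh.HD (a.obj O).obj (-(d : ℤ))).presheaf.stalk x) :=
    IsScalarTower.of_algebraMap_smul fun _ _ => rfl
  obtain ⟨g, hg⟩ := exists_localized hU ω e (-(d : ℤ)) ((a.obj O).property _) x hx
  haveI := hg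
  haveI := hω.finite_cohomology (-(d : ℤ))
  intro Q _
  exact (DualRing.skCond_iff_of_isLocalizedModule (WeakAss.primeAt x hx).primeCompl g 2 Q).2
    (DualRing.skCond_two_bottom hω _ hv _)

include adj hO hd in
/-- **The support of the lowest cohomology sheaf: the components of top dimension.** -/
theorem support_adjoint :
    {x : X | Nontrivial ((DCoh.HD (a.obj O).obj (-(d : ℤ))).presheaf.stalk x)} =
      ⋃ Z ∈ {Z : Set X | Z ∈ irreducibleComponents X ∧ topologicalKrullDim ↥Z = (d : WithBot ℕ∞)}, Z := by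
  ext x
  obtain ⟨U, hU', hx, -⟩ := exists_isAffineOpen_mem_and_subset (x := x) (U := ⊤) trivial
  have hU : IsAffineOpen U := hU'
  obtain ⟨_, n, ψ, hψ, _, ⟨e⟩⟩ := exists_field_chart f hf adj O hO U hU
  let ω := GrothLib.DualRing.Shriek.GP ψ (Dual.inD k k)
  have hind := hU.fromSpec.isOpenEmbedding.isInducing
  have hrange : Set.range hU.fromSpec = (U : Set X) := hU.range_fromSpec
  have key : Nontrivial ((DCoh.HD (a.obj O).obj (-(d : ℤ))).presheaf.stalk x) ↔
      hU.primeIdealOf ⟨x, hx⟩ ∈ Module.support Γ(X, U) (Dual.HD Γ(X, U) ω (-(d : ℤ))) := by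
    rw [← QCoh.primeAt_eq_primeIdealOf hU hx, Module.mem_support_iff]
    exact nontrivial_stalk_iff hU ω e _ ((a.obj O).property _) x hx
  have hdimq : ∀ q : PrimeSpectrum Γ(X, U),
      topologicalKrullDim (closure ({hU.fromSpec q} : Set X)) = ringKrullDim (Γ(X, U) ⧸ q.asIdeal) := fun q =>
    GrothLib.AffDom.ptDim_fromSpec f hU q
  simp only [Set.mem_setOf_eq, Set.mem_iUnion]
  rw [key]
  constructor
  · intro hs
    obtain ⟨r, hr, hrP, hdim⟩ := exists_minimal_dim ψ hψ _ _ hs
    have hmax : ∀ η : X, η ⤳ hU.fromSpec r → η = hU.fromSpec r := fun η hη => by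
      obtain ⟨s, rfl⟩ : η ∈ Set.range hU.fromSpec :=
        hrange.symm ▸ hη.mem_open U.2 (hrange ▸ (⟨r, rfl⟩ : hU.fromSpec r ∈ Set.range hU.fromSpec))
      have hs : s.asIdeal ≤ r.asIdeal := (PrimeSpectrum.le_iff_specializes s r).2 (hind.specializes_iff.1 hη)
      rw [show s = r from PrimeSpectrum.ext (le_antisymm hs (hr.2 ⟨s.isPrime, bot_le⟩ hs))]
    refine ⟨closure {hU.fromSpec r}, ⟨closure_mem_irreducibleComponents_of_maximal hmax, le_antisymm ?_ ?_⟩, ?_⟩
    · exact (Topology.IsInducing.subtypeVal.topologicalKrullDim_le).trans hd.le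
    · rw [hdimq]
      simpa using hdim
    · have h : hU.fromSpec r ⤳ hU.fromSpec (hU.primeIdealOf ⟨x, hx⟩) :=
        hind.specializes_iff.2 ((PrimeSpectrum.le_iff_specializes _ _).1 hrP)
      rw [hU.fromSpec_primeIdealOf] at h
      exact h.mem_closure
  · rintro ⟨Z, ⟨hZ, hZd⟩, hxZ⟩
    obtain ⟨ξ, hξ⟩ : ∃ ξ, IsGenericPoint ξ Z :=
      QuasiSober.sober hZ.1 (isClosed_of_mem_irreducibleComponents Z hZ)
    obtain ⟨q, rfl⟩ : ξ ∈ Set.range hU.fromSpec := hrange.symm ▸ (hξ.specializes hxZ).mem_open U.2 hx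
    have hsq : hU.fromSpec q ⤳ hU.fromSpec (hU.primeIdealOf ⟨x, hx⟩) := by
      rw [hU.fromSpec_primeIdealOf]; exact hξ.specializes hxZ
    have hqP : q.asIdeal ≤ (hU.primeIdealOf ⟨x, hx⟩).asIdeal := (PrimeSpectrum.le_iff_specializes _ _).2 (hind.specializes_iff.1 hsq)
    have hqmin : q.asIdeal ∈ minimalPrimes Γ(X, U) := by
      obtain ⟨r, hr, hle⟩ := Ideal.exists_minimalPrimes_le (bot_le : (⊥ : Ideal Γ(X, U)) ≤ q.asIdeal)
      let r' : PrimeSpectrum Γ(X, U) := ⟨r, hr.isPrime⟩
      have hsp : hU.fromSpec r' ⤳ hU.fromSpec q := hind.specializes_iff.2 ((PrimeSpectrum.le_iff_specializes _ _).1 hle)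
      have hcl : Z ⊆ closure {hU.fromSpec r'} := by
        rw [← hξ.def]
        exact closure_minimal (Set.singleton_subset_iff.2 hsp.mem_closure) isClosed_closure
      have hmem : hU.fromSpec r' ∈ Z := hZ.2 isIrreducible_singleton.closure hcl (subset_closure rfl)
      have hback := hind.specializes_iff.1 (hξ.specializes hmem)
      have : q.asIdeal ≤ r := (PrimeSpectrum.le_iff_specializes _ _).2 hback
      exact le_antisymm hle this ▸ hr
    refine Module.mem_support_mono (p := q) (q := hU.primeIdealOf ⟨x, hx⟩) hqP (mem_support_of_minimal ψ hψ q hqmin ?_)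
    rw [← hdimq, hξ.def, hZd]

include adj hO in
/-- **Depth at closed points.** -/
theorem depth_adjoint (x : X) (hx : IsClosed ({x} : Set X)) :
    ∃ e : ℕ, LocCoh.depth (X.presheaf.stalk x) (X.presheaf.stalk x) = (e : ℕ∞) ∧
      Nontrivial ((DCoh.HD (a.obj O).obj (-(e : ℤ))).presheaf.stalk x) ∧
      ∀ j : ℤ, Nontrivial ((DCoh.HD (a.obj O).obj j).presheaf.stalk x) → j ≤ -(e : ℤ) := by
  obtain ⟨U, hU', hxU, -⟩ := exists_isAffineOpen_mem_and_subset (x := x) (U := ⊤) trivial
  have hU : IsAffineOpen U := hU'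
  obtain ⟨_, n, ψ, hψ, _, ⟨e⟩⟩ := exists_field_chart f hf adj O hO U hU
  let P : PrimeSpectrum Γ(X, U) := ⟨WeakAss.primeAt x hxU, inferInstance⟩
  have hP : P = hU.primeIdealOf ⟨x, hxU⟩ := QCoh.primeAt_eq_primeIdealOf hU hxU
  haveI : P.asIdeal.IsMaximal := by
    rw [← PrimeSpectrum.isClosed_singleton_iff_isMaximal]
    have h : hU.fromSpec ⁻¹' ({x} : Set X) = {P} := by
      ext q
      simp only [Set.mem_preimage, Set.mem_singleton_iff]
      rw [hP]
      refine ⟨fun h => hU.fromSpec.isOpenEmbedding.injective (h.trans (hU.fromSpec_primeIdealOf ⟨x, hxU⟩).symm),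
        fun h => h ▸ hU.fromSpec_primeIdealOf ⟨x, hxU⟩⟩
    have h2 := hx.preimage hU.fromSpec.continuous
    rw [h] at h2
    exact h2
  letI := X.presheaf.algebra_section_stalk ⟨x, hxU⟩
  haveI : IsLocalization.AtPrime (X.presheaf.stalk x) P.asIdeal := FlatFP.isLocalization_stalk_primeAt hU hxU
  let σ := (IsLocalization.algEquiv P.asIdeal.primeCompl (X.presheaf.stalk x) (Localization.AtPrime P.asIdeal)).toRingEquiv
  have hdep : LocCoh.depth (X.presheaf.stalk x) (X.presheaf.stalk x) =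
      LocCoh.depth (Localization.AtPrime P.asIdeal) (Localization.AtPrime P.asIdeal) :=
    GrothLib.SkExt.depth_congr_semilinear σ σ.toAddEquiv fun r z => map_mul σ r z
  haveI : IsNoetherianRing (Localization.AtPrime P.asIdeal) := GrothLib.Depth.isNoetherian_atPrime _
  obtain ⟨m, hm⟩ := ENat.ne_top_iff_exists.1 (GrothLib.Depth.idealDepth_ne_top (M := Localization.AtPrime P.asIdeal)
    (IsLocalRing.maximalIdeal.isMaximal (Localization.AtPrime P.asIdeal)).ne_top)
  have key : ∀ i, Nontrivial ((DCoh.HD (a.obj O).obj i).presheaf.stalk x) ↔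
      P ∈ Module.support Γ(X, U) (Dual.HD Γ(X, U) (GrothLib.DualRing.Shriek.GP ψ (Dual.inD k k)) i) := fun i =>
    (nontrivial_stalk_iff hU _ e i ((a.obj O).property i) x hxU).trans (Module.mem_support_iff (p := P)).symm
  obtain ⟨h1, h2⟩ := support_at_maximal ψ hψ P hm.symm
  exact ⟨m, hdep.trans hm.symm, (key _).2 h1, fun j hj => h2 j ((key j).1 hj)⟩

end GrothLib.ShriekBridge22
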