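import Groth.Agent.Lib.ShriekBridge22.LocalBase

/-! # Dimensions for the dualizing complex of a proper scheme over a local ring -/

set_option autoImplicit false
set_option linter.style.haveILetI false
set_option maxHeartbeats 1000000
universe u

open CategoryTheory CategoryTheory.Limits AlgebraicGeometry GrothLib.OX

attribute [local instance] HasDerivedCategory.standard

noncomputable section

namespace GrothLib.ShriekBridge22

open GrothLib.DualRing (degS degS_strictMono degS_covBy)

theorem length_le_sub {α : Type u} [Preorder α] (F : α → ℤ) (hF : StrictMono F) (l : LTSeries α) :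
    (l.length : ℤ) ≤ F l.last - F l.head := by
  have key : ∀ i : Fin (l.length + 1), F l.head + (i : ℕ) ≤ F (l i) := by
    intro i
    induction i using Fin.induction with
    | zero => simp [RelSeries.head]
    | succ i ih =>
      have := hF (l.step i)
      simp only [Fin.val_castSucc, Fin.val_succ] at ih ⊢
      push_cast
      omega
  have h := key (Fin.last _)
  simp only [Fin.val_last] at h
  change _ ≤ F (l (Fin.last _)) - F l.head
  omega

theorem primeIdealOf_fromSpec {X : Scheme.{u}} {U : X.Opens} (hU : IsAffineOpen U) (q : PrimeSpectrum Γ(X, U)) :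
    ∃ h : hU.fromSpec q ∈ U, hU.primeIdealOf ⟨hU.fromSpec q, h⟩ = q := by
  have hy : hU.fromSpec q ∈ U := by
    have : hU.fromSpec q ∈ Set.range hU.fromSpec := ⟨q, rfl⟩
    rwa [hU.range_fromSpec] at this
  exact ⟨hy, hU.fromSpec.isOpenEmbedding.injective (hU.fromSpec_primeIdealOf ⟨hU.fromSpec q, hy⟩)⟩

variable {A : Type u} [CommRing A] [IsLocalRing A] [IsNoetherianRing A] {ω : Dual.D A}
  (hω : Dual.IsDualizing A ω) (hn : Dual.IsNormalized A ω)
  {X : Scheme.{u}} [∀ R : CommRingCat.{u}, PreservesFiniteLimits (tilde.functor R)]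
  (f : X ⟶ Spec (CommRingCat.of A)) [IsProper f] [DCoh.HasRpush f] (hf : DCoh.RpushPreservesQCoh f)
  {a : DCoh.DQCoh (Spec (CommRingCat.of A)) ⥤ DCoh.DQCoh X} (adj : DCoh.RpushQ f hf ⊣ a)
  (W : DCoh.DQCoh (Spec (CommRingCat.of A)))
  (hW : Nonempty (W.obj ≅ (DCoh.tildeD (CommRingCat.of A)).obj ω))

omit [IsLocalRing A] [IsNoetherianRing A] [IsProper f] [DCoh.HasRpush f] in
/-- Supports on a chart are stalk supports. -/
theorem mem_support_iff_stalk {U : X.Opens} (hU : IsAffineOpen U) {κ : Dual.D Γ(X, U)}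
    (e : (resD hU.fromSpec).obj (a.obj W).obj ≅ (DCoh.tildeD Γ(X, U)).obj κ) (i : ℤ) (q : PrimeSpectrum Γ(X, U)) :
    q ∈ Module.support Γ(X, U) (Dual.HD Γ(X, U) κ i) ↔
      Nontrivial ((DCoh.HD (a.obj W).obj i).presheaf.stalk (hU.fromSpec q)) := by
  obtain ⟨hy, hq⟩ := primeIdealOf_fromSpec hU q
  rw [nontrivial_stalk_iff hU κ e i ((a.obj W).property i) _ hy, ← Module.mem_support_iff
    (p := (⟨WeakAss.primeAt (hU.fromSpec q) hy, inferInstance⟩ : PrimeSpectrum Γ(X, U))),
    QCoh.primeAt_eq_primeIdealOf hU hy, hq]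

include adj hW hω hn in
/-- The degree data at a point with nonzero stalk, in a chart around a closed specialisation. -/
theorem exists_chart_bounds (x : X) (i : ℤ) (hx : Nontrivial ((DCoh.HD (a.obj W).obj i).presheaf.stalk x)) :
    i ≤ 0 ∧ ∃ (U : X.Opens) (hU : IsAffineOpen U) (l : LTSeries (PrimeSpectrum Γ(X, U))),
      (∀ η : X, η ⤳ hU.fromSpec l.head → η = hU.fromSpec l.head) ∧ hU.fromSpec l.head ⤳ x ∧ -i ≤ (l.length : ℤ) := by
  obtain ⟨c, hc, hxc⟩ := exists_closed_specialisation f x
  obtain ⟨U, hU, hcU, _, κ, hκ, ⟨e⟩, h0⟩ := exists_closed_chart hω hn f hf adj W hW hc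
  have hxU : x ∈ U := hxc.mem_open U.2 hcU
  have hind := hU.fromSpec.isOpenEmbedding.isInducing
  let q := hU.primeIdealOf ⟨x, hxU⟩
  have hq : q ∈ Module.support Γ(X, U) (Dual.HD Γ(X, U) κ i) := by
    rw [mem_support_iff_stalk W hU e i q, hU.fromSpec_primeIdealOf]; exact hx
  have hqc : q.asIdeal ≤ (hU.primeIdealOf ⟨c, hcU⟩).asIdeal := (PrimeSpectrum.le_iff_specializes _ _).2
    (hind.specializes_iff.1 (by rw [hU.fromSpec_primeIdealOf, hU.fromSpec_primeIdealOf]; exact hxc))
  obtain ⟨h1, r, hr, hrq, h2⟩ := exists_deg_bounds hκ hq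
  have h3 := (degS_strictMono hκ).monotone (show q ≤ hU.primeIdealOf ⟨c, hcU⟩ from hqc)
  rw [h0] at h3
  refine ⟨h1.trans h3, U, hU, ?_⟩
  obtain ⟨l, hl1, -, hl3⟩ := exists_series_of_grading (degS hκ) (degS_strictMono hκ)
    (fun _ _ h => degS_covBy hκ h) (hU.primeIdealOf ⟨c, hcU⟩) r (hrq.trans hqc)
  rw [h0] at hl3
  refine ⟨l, ?_, ?_, by omega⟩
  · rw [hl1]
    intro η hη
    obtain ⟨hy, -⟩ := primeIdealOf_fromSpec hU r
    obtain ⟨s, rfl⟩ : η ∈ Set.range hU.fromSpec := hU.range_fromSpec.symm ▸ hη.mem_open U.2 hy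
    have hs : s.asIdeal ≤ r.asIdeal := (PrimeSpectrum.le_iff_specializes _ _).2 (hind.specializes_iff.1 hη)
    exact congrArg _ (PrimeSpectrum.ext (le_antisymm hs (hr.2 ⟨s.isPrime, bot_le⟩ hs)))
  · rw [hl1]
    have h4 : hU.fromSpec r ⤳ hU.fromSpec q := hind.specializes_iff.2 ((PrimeSpectrum.le_iff_specializes r q).1 hrq)
    rwa [hU.fromSpec_primeIdealOf] at h4

omit [IsLocalRing A] [IsNoetherianRing A] [DCoh.HasRpush f] [∀ R : CommRingCat.{u}, PreservesFiniteLimits (tilde.functor R)] in
/-- A chain in a chart bounds the dimension of any subspace containing it. -/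
theorem length_le_dim_of_series {U : X.Opens} (hU : IsAffineOpen U) (S : Set X)
    (l : LTSeries (PrimeSpectrum Γ(X, U))) (h : ∀ q : PrimeSpectrum Γ(X, U), l.head ≤ q → hU.fromSpec q ∈ S) :
    (l.length : WithBot ℕ∞) ≤ topologicalKrullDim S := by
  let J := l.head.asIdeal
  let g : PrimeSpectrum (Γ(X, U) ⧸ J) → S := fun z =>
    ⟨hU.fromSpec (PrimeSpectrum.comap (Ideal.Quotient.mk J) z), h _ (fun a ha => by
      show Ideal.Quotient.mk J a ∈ z.asIdeal
      rw [Ideal.Quotient.eq_zero_iff_mem.2 ha]; exact zero_mem _)⟩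
  have hg : Topology.IsInducing g := by
    refine Topology.IsInducing.of_comp ?_ continuous_subtype_val ?_
    · exact (hU.fromSpec.continuous.comp
        (PrimeSpectrum.isClosedEmbedding_comap_of_surjective _ _ Ideal.Quotient.mk_surjective).continuous).subtype_mk _
    · exact hU.fromSpec.isOpenEmbedding.isInducing.comp
        (PrimeSpectrum.isClosedEmbedding_comap_of_surjective _ _ Ideal.Quotient.mk_surjective).isInducing
  refine le_trans ?_ hg.topologicalKrullDim_le
  rw [PrimeSpectrum.topologicalKrullDim_eq_ringKrullDim, ringKrullDim_quotient]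
  let l' : LTSeries (PrimeSpectrum.zeroLocus (R := Γ(X, U)) (J : Set Γ(X, U))) :=
    { length := l.length
      toFun := fun i => ⟨l i, fun z hz => (l.monotone (Fin.zero_le i)) hz⟩
      step := fun i => l.step i }
  exact Order.LTSeries.length_le_krullDim l'

variable (d : ℕ) (hd : topologicalKrullDim X = (d : WithBot ℕ∞))

include adj hW hω hn hd in
theorem isZero_HD_local (i : ℤ) (hi : i < -(d : ℤ) ∨ 0 < i) : IsZero (DCoh.HD (a.obj W).obj i) := by
  refine GrothLib.OX.isZero_of_subsingleton_stalks _ fun x => not_nontrivial_iff_subsingleton.1 fun hx => ?_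
  obtain ⟨h0, U, hU, l, -, -, hl⟩ := exists_chart_bounds hω hn f hf adj W hW x i hx
  have h := (length_le_dim_of_series hU Set.univ l fun q _ => Set.mem_univ _).trans
    (Topology.IsInducing.subtypeVal.topologicalKrullDim_le.trans hd.le)
  have : l.length ≤ d := by exact_mod_cast h
  omega

include adj hW hω hn in
theorem dim_support_le_local (i : ℤ) (m : ℕ) (hm : (m : ℤ) = -i) :
    topologicalKrullDim {x : X | Nontrivial ((DCoh.HD (a.obj W).obj i).presheaf.stalk x)} ≤ (m : WithBot ℕ∞) := by
  let Z := {x : X | Nontrivial ((DCoh.HD (a.obj W).obj i).presheaf.stalk x)}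
  refine GrothLib.Dim.topologicalKrullDim_le_of_cover
    (fun V : X.affineOpens => (⟨Subtype.val ⁻¹' (V.1 : Set X), V.1.2.preimage continuous_subtype_val⟩ : TopologicalSpace.Opens Z))
    (fun z => ?_) fun V => ?_
  · obtain ⟨U, hU, hx, -⟩ := exists_isAffineOpen_mem_and_subset (x := (z.1 : X)) (U := ⊤) trivial
    exact ⟨⟨U, hU⟩, hx⟩
  obtain ⟨U, hU⟩ := V
  obtain ⟨_, n, ψ, hψ, _, ⟨e⟩, -⟩ := exists_local_chart hω f hf adj W hW U hU
  let H := Dual.HD Γ(X, U) (letI := DualRing.Shriek.pfl_of_flat A (P := MvPolynomial (Fin n) A); DualRing.Shriek.GP ψ ω) i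
  haveI : Module.Finite Γ(X, U) H := (isDualizing_GP ψ hψ hω).finite_cohomology i
  let S := Module.support Γ(X, U) H
  let g : {z : Z // z.1 ∈ U} → S := fun w => ⟨hU.primeIdealOf ⟨w.1.1, w.2⟩, by
    rw [mem_support_iff_stalk W hU e i, hU.fromSpec_primeIdealOf]
    exact w.1.2⟩
  have hg : Topology.IsInducing g := by
    refine Topology.IsInducing.of_comp ?_ (g := fun q : S => hU.fromSpec q.1) ?_ ?_
    · exact (((hU.isoSpec.hom).continuous.comp ((continuous_subtype_val.comp continuous_subtype_val).subtype_mk fun w => w.2)).subtype_mk _)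
    · exact hU.fromSpec.continuous.comp continuous_subtype_val
    · have : (fun q : S => hU.fromSpec q.1) ∘ g = fun w : {z : Z // z.1 ∈ U} => (w.1.1 : X) :=
        funext fun w => hU.fromSpec_primeIdealOf ⟨w.1.1, w.2⟩
      rw [this]
      exact Topology.IsInducing.subtypeVal.comp Topology.IsInducing.subtypeVal
  refine hg.topologicalKrullDim_le.trans ?_
  have hS : S = PrimeSpectrum.zeroLocus (Module.annihilator Γ(X, U) H : Set Γ(X, U)) := Module.support_eq_zeroLocus
  rw [← GrothLib.Dim.IsEmbedding.topologicalKrullDim_eq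
    (PrimeSpectrum.isClosedEmbedding_comap_of_surjective _ (Ideal.Quotient.mk (Module.annihilator Γ(X, U) H))
      Ideal.Quotient.mk_surjective).isEmbedding
    (by rw [hS, range_comap_of_surjective _ _ Ideal.Quotient.mk_surjective, Ideal.mk_ker]),
    PrimeSpectrum.topologicalKrullDim_eq_ringKrullDim, ← Module.supportDim_eq_ringKrullDim_quotient_annihilator]
  refine iSup_le fun l => ?_
  let l₁ : LTSeries (PrimeSpectrum Γ(X, U)) := LTSeries.map l Subtype.val fun _ _ h => h
  obtain ⟨c, hc, hlc⟩ := exists_closed_specialisation f (hU.fromSpec l₁.last)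
  obtain ⟨V, hV, hcV, _, κ, hκ, ⟨eV⟩, h0⟩ := exists_closed_chart hω hn f hf adj W hW hc
  obtain ⟨l', hlen, hhead, hlast⟩ := exists_series_transfer hU hV l₁ hcV hlc
  have hsupp : l'.head ∈ Module.support Γ(X, V) (Dual.HD Γ(X, V) κ i) := by
    rw [mem_support_iff_stalk W hV eV i, hhead]
    exact (mem_support_iff_stalk W hU e i l₁.head).1 l.head.2
  have h1 := (exists_deg_bounds hκ hsupp).1
  have h2 := (degS_strictMono hκ).monotone (show l'.last ≤ hV.primeIdealOf ⟨c, hcV⟩ from hlast)
  rw [h0] at h2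
  have h3 : (degS hκ l'.head) + l'.length ≤ degS hκ l'.last := by
    have hmap := length_le_sub (degS hκ) (degS_strictMono hκ) l'
    omega
  have : l.length ≤ m := by
    have : l₁.length = l.length := rfl
    omega
  exact_mod_cast this

include adj hW hω hn hd in
theorem support_local :
    {x : X | Nontrivial ((DCoh.HD (a.obj W).obj (-(d : ℤ))).presheaf.stalk x)} =
      ⋃ Z ∈ {Z : Set X | Z ∈ irreducibleComponents X ∧ topologicalKrullDim ↥Z = (d : WithBot ℕ∞)}, Z := by
  ext x
  simp only [Set.mem_setOf_eq, Set.mem_iUnion]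
  constructor
  · intro hx
    obtain ⟨-, U, hU, l, hmax, hlx, hl⟩ := exists_chart_bounds hω hn f hf adj W hW x _ hx
    refine ⟨closure {hU.fromSpec l.head}, ⟨closure_mem_irreducibleComponents_of_maximal hmax, le_antisymm ?_ ?_⟩,
      hlx.mem_closure⟩
    · exact (Topology.IsInducing.subtypeVal.topologicalKrullDim_le).trans hd.le
    · refine le_trans ?_ (length_le_dim_of_series hU _ l fun q hq => ?_)
      · exact_mod_cast (show d ≤ l.length by omega)
      · exact (hU.fromSpec.isOpenEmbedding.isInducing.specializes_iff.2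
          ((PrimeSpectrum.le_iff_specializes l.head q).1 hq)).mem_closure
  · rintro ⟨Z, ⟨hZ, hZd⟩, hxZ⟩
    obtain ⟨ξ, hξ⟩ : ∃ ξ, IsGenericPoint ξ Z :=
      QuasiSober.sober hZ.1 (isClosed_of_mem_irreducibleComponents Z hZ)
    -- a chart in which the component has full dimension
    obtain ⟨U, hU, ξU, hξU, l, hl1, hl2⟩ : ∃ (U : X.Opens) (hU : IsAffineOpen U) (q : PrimeSpectrum Γ(X, U)),
        hU.fromSpec q = ξ ∧ ∃ l : LTSeries (PrimeSpectrum Γ(X, U)), q ≤ l.head ∧ d ≤ l.length := by
      by_contra! hne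
      rcases Nat.eq_zero_or_pos d with rfl | hd0
      · obtain ⟨U, hU, hξ', -⟩ := exists_isAffineOpen_mem_and_subset (x := ξ) (U := ⊤) trivial
        have hh := hne U hU (hU.primeIdealOf ⟨ξ, hξ'⟩) (hU.fromSpec_primeIdealOf ⟨ξ, hξ'⟩)
          (RelSeries.singleton _ _) le_rfl
        simp at hh
      have hle : topologicalKrullDim Z ≤ ((d - 1 : ℕ) : WithBot ℕ∞) := by
        refine GrothLib.Dim.topologicalKrullDim_le_of_cover
          (fun V : X.affineOpens => (⟨Subtype.val ⁻¹' (V.1 : Set X), V.1.2.preimage continuous_subtype_val⟩ : TopologicalSpace.Opens Z))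
          (fun z => ?_) fun V => ?_
        · obtain ⟨U, hU, hx, -⟩ := exists_isAffineOpen_mem_and_subset (x := (z.1 : X)) (U := ⊤) trivial
          exact ⟨⟨U, hU⟩, hx⟩
        obtain ⟨U, hU⟩ := V
        by_cases hξU : ξ ∈ U
        · let q := hU.primeIdealOf ⟨ξ, hξU⟩
          let g : {z : Z // z.1 ∈ U} → (PrimeSpectrum.zeroLocus (q.asIdeal : Set Γ(X, U)) : Set (PrimeSpectrum Γ(X, U))) :=
            fun w => ⟨hU.primeIdealOf ⟨w.1.1, w.2⟩, (PrimeSpectrum.le_iff_specializes q _).2
              (hU.fromSpec.isOpenEmbedding.isInducing.specializes_iff.1 (by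
                rw [hU.fromSpec_primeIdealOf, hU.fromSpec_primeIdealOf]; exact hξ.specializes w.1.2))⟩
          have hg : Topology.IsInducing g := by
            refine Topology.IsInducing.of_comp ?_ (g := fun q => hU.fromSpec q.1) ?_ ?_
            · exact (((hU.isoSpec.hom).continuous.comp ((continuous_subtype_val.comp continuous_subtype_val).subtype_mk fun w => w.2)).subtype_mk _)
            · exact hU.fromSpec.continuous.comp continuous_subtype_val
            · have he : (fun q' : (PrimeSpectrum.zeroLocus (q.asIdeal : Set Γ(X, U)) : Set (PrimeSpectrum Γ(X, U))) =>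
                  hU.fromSpec q'.1) ∘ g = fun w : {z : Z // z.1 ∈ U} => (w.1.1 : X) :=
                funext fun w => hU.fromSpec_primeIdealOf ⟨w.1.1, w.2⟩
              rw [he]
              exact Topology.IsInducing.subtypeVal.comp Topology.IsInducing.subtypeVal
          refine hg.topologicalKrullDim_le.trans ?_
          rw [← GrothLib.Dim.IsEmbedding.topologicalKrullDim_eq
            (PrimeSpectrum.isClosedEmbedding_comap_of_surjective _ (Ideal.Quotient.mk q.asIdeal)
              Ideal.Quotient.mk_surjective).isEmbedding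
            (by rw [range_comap_of_surjective _ _ Ideal.Quotient.mk_surjective, Ideal.mk_ker]),
            PrimeSpectrum.topologicalKrullDim_eq_ringKrullDim, ringKrullDim_quotient]
          refine iSup_le fun l => ?_
          have := hne U hU q (hU.fromSpec_primeIdealOf ⟨ξ, hξU⟩) (LTSeries.map l Subtype.val fun _ _ h => h) l.head.2
          have h2 : l.length ≤ d - 1 := by
            have h3 : (LTSeries.map l Subtype.val (fun _ _ h => h)).length = l.length := rfl
            omega
          exact_mod_cast h2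
        · have : IsEmpty {z : Z // z.1 ∈ U} := ⟨fun w => hξU ((hξ.specializes w.1.2).mem_open U.2 w.2)⟩
          exact iSup_le fun l => this.elim l.head.isIrreducible.1.some
      rw [hZd, Nat.cast_le] at hle
      omega
    subst hξU
    obtain ⟨c, hc, hlc⟩ := exists_closed_specialisation f (hU.fromSpec l.last)
    obtain ⟨V, hV, hcV, _, κ, hκ, ⟨eV⟩, h0⟩ := exists_closed_chart hω hn f hf adj W hW hc
    obtain ⟨l', hlen, hhead, hlast⟩ := exists_series_transfer hU hV l hcV hlc
    have hindV := hV.fromSpec.isOpenEmbedding.isInducing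
    have hindU := hU.fromSpec.isOpenEmbedding.isInducing
    have hξV : hU.fromSpec ξU ∈ V :=
      (hhead ▸ hindU.specializes_iff.2 ((PrimeSpectrum.le_iff_specializes ξU l.head).1 hl1) :
        hU.fromSpec ξU ⤳ hV.fromSpec l'.head).mem_open V.2 (primeIdealOf_fromSpec hV l'.head).1
    let q := hV.primeIdealOf ⟨_, hξV⟩
    have hqh : q.asIdeal ≤ l'.head.asIdeal := (PrimeSpectrum.le_iff_specializes q l'.head).2 (hindV.specializes_iff.1 (by
      rw [hV.fromSpec_primeIdealOf, hhead]; exact hindU.specializes_iff.2 ((PrimeSpectrum.le_iff_specializes ξU l.head).1 hl1)))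
    have hqmin : q.asIdeal ∈ minimalPrimes Γ(X, V) := by
      obtain ⟨r, hr, hle⟩ := Ideal.exists_minimalPrimes_le (bot_le : (⊥ : Ideal Γ(X, V)) ≤ q.asIdeal)
      let r' : PrimeSpectrum Γ(X, V) := ⟨r, hr.isPrime⟩
      have hsp : hV.fromSpec r' ⤳ hU.fromSpec ξU := by
        have := hindV.specializes_iff.2 ((PrimeSpectrum.le_iff_specializes r' q).1 hle)
        rwa [hV.fromSpec_primeIdealOf] at this
      have hcl : Z ⊆ closure {hV.fromSpec r'} := by
        rw [← hξ.def]
        exact closure_minimal (Set.singleton_subset_iff.2 hsp.mem_closure) isClosed_closure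
      have hmem : hV.fromSpec r' ∈ Z := hZ.2 isIrreducible_singleton.closure hcl (subset_closure rfl)
      have hback : hV.fromSpec q ⤳ hV.fromSpec r' := by rw [hV.fromSpec_primeIdealOf]; exact hξ.specializes hmem
      have : q.asIdeal ≤ r := (PrimeSpectrum.le_iff_specializes q r').2 (hindV.specializes_iff.1 hback)
      exact le_antisymm hle this ▸ hr
    obtain ⟨j, hj⟩ := exists_mem_support hκ q
    obtain ⟨hj1, r, hr, hrq, hj2⟩ := exists_deg_bounds hκ hj
    obtain rfl : r = q := PrimeSpectrum.ext (le_antisymm hrq (hqmin.2 ⟨r.isPrime, bot_le⟩ hrq))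
    have h1 := (degS_strictMono hκ).monotone (show q ≤ l'.head from hqh)
    have h2 := (degS_strictMono hκ).monotone (show l'.last ≤ hV.primeIdealOf ⟨c, hcV⟩ from hlast)
    rw [h0] at h2
    have h3 := length_le_sub (degS hκ) (degS_strictMono hκ) l'
    have hjd : j = -(d : ℤ) := by
      have hlow : -(d : ℤ) ≤ j := not_lt.1 fun hlt => by
        have hst := (mem_support_iff_stalk W hV eV j q).1 hj
        exact not_nontrivial_iff_subsingleton.2 (ModuleCat.subsingleton_of_isZero
          ((OX.isZero_iff _).1 (isZero_HD_local hω hn f hf adj W hW d hd j (Or.inl hlt)) _)) hst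
      omega
    subst hjd
    -- specialise to `x`
    obtain ⟨T, hT, hxT, -⟩ := exists_isAffineOpen_mem_and_subset (x := x) (U := ⊤) trivial
    have hT' : IsAffineOpen T := hT
    obtain ⟨_, n, ψ, hψ, _, ⟨eT⟩, -⟩ := exists_local_chart hω f hf adj W hW T hT'
    have hsx : hU.fromSpec ξU ⤳ x := hξ.specializes hxZ
    have hξT : hU.fromSpec ξU ∈ T := hsx.mem_open T.2 hxT
    have hle : hT'.primeIdealOf ⟨_, hξT⟩ ≤ hT'.primeIdealOf ⟨x, hxT⟩ := (PrimeSpectrum.le_iff_specializes
      (hT'.primeIdealOf ⟨_, hξT⟩) _).2 (hT'.fromSpec.isOpenEmbedding.isInducing.specializes_iff.1 (by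
        rw [hT'.fromSpec_primeIdealOf, hT'.fromSpec_primeIdealOf]; exact hsx))
    have hgen := (mem_support_iff_stalk W hV eV _ q).1 hj
    rw [hV.fromSpec_primeIdealOf, ← hT'.fromSpec_primeIdealOf ⟨_, hξT⟩, ← mem_support_iff_stalk W hT' eT] at hgen
    have := (mem_support_iff_stalk W hT' eT _ _).1 (Module.mem_support_mono hle hgen)
    rwa [hT'.fromSpec_primeIdealOf] at this

include adj hW hω hn hd in
theorem hasSk_two_local (x : X) :
    LocCoh.HasSk 2 (X.presheaf.stalk x) ((DCoh.HD (a.obj W).obj (-(d : ℤ))).presheaf.stalk x) := by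
  obtain ⟨U, hU', hx, -⟩ := exists_isAffineOpen_mem_and_subset (x := x) (U := ⊤) trivial
  have hU : IsAffineOpen U := hU'
  obtain ⟨_, n, ψ, hψ, _, ⟨e⟩, -⟩ := exists_local_chart hω f hf adj W hW U hU
  have hκ := isDualizing_GP ψ hψ hω
  have hv : ∀ i, i < -(d : ℤ) → Subsingleton (Dual.HD Γ(X, U)
      (letI := DualRing.Shriek.pfl_of_flat A (P := MvPolynomial (Fin n) A); DualRing.Shriek.GP ψ ω) i) := fun i hi => by
    refine (Module.support_eq_empty_iff (R := Γ(X, U))).1 (Set.eq_empty_iff_forall_notMem.2 fun q hq => ?_)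
    rw [mem_support_iff_stalk W hU e] at hq
    exact not_nontrivial_iff_subsingleton.2 (ModuleCat.subsingleton_of_isZero
      ((OX.isZero_iff _).1 (isZero_HD_local hω hn f hf adj W hW d hd i (Or.inl hi)) _)) hq
  letI := X.presheaf.algebra_section_stalk ⟨x, hx⟩
  haveI := FlatFP.isLocalization_stalk_primeAt hU hx
  letI : Module Γ(X, U) ((DCoh.HD (a.obj W).obj (-(d : ℤ))).presheaf.stalk x) :=
    Module.compHom _ (X.presheaf.germ U x hx).hom
  haveI : IsScalarTower Γ(X, U) (X.presheaf.stalk x) ((DCoh.HD (a.obj W).obj (-(d : ℤ))).presheaf.stalk x) :=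
    IsScalarTower.of_algebraMap_smul fun _ _ => rfl
  obtain ⟨g, hg⟩ := exists_localized hU _ e (-(d : ℤ)) ((a.obj W).property _) x hx
  haveI := hg
  haveI := hκ.finite_cohomology (-(d : ℤ))
  intro Q _
  exact (DualRing.skCond_iff_of_isLocalizedModule (WeakAss.primeAt x hx).primeCompl g 2 Q).2
    (DualRing.skCond_two_bottom hκ _ hv _)

end GrothLib.ShriekBridge22
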