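import Groth.Agent.Lib.DualRing.CanonStalk
import Groth.Agent.Lib.ShriekBridge22.LocalBase2
import Groth.Agent.Lib.QCoh.Abelian

/-! # Torsion, `(S₂)` and reflexivity of the lowest cohomology module, without connectedness -/

set_option autoImplicit false
set_option linter.style.haveILetI false
set_option maxHeartbeats 1000000
universe u

open CategoryTheory CategoryTheory.Limits AlgebraicGeometry Opposite GrothLib.OX IsLocalRing
open GrothLib.SkExt (SkCond skCond_localization)

attribute [local instance] HasDerivedCategory.standard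

namespace GrothLib.ShriekBridge22.Canon

section Ring

variable {A : Type u} [CommRing A] [IsNoetherianRing A] {ω : Dual.D A} (hω : Dual.IsDualizing A ω)

include hω in
/-- Every prime of the support of the lowest cohomology contains a minimal prime of the ring in that support. -/
theorem exists_minimal_le (n : ℤ) (hv : ∀ i, i < n → Subsingleton (Dual.HD A ω i)) {q : PrimeSpectrum A}
    (hq : q ∈ Module.support A (Dual.HD A ω n)) :
    ∃ r : PrimeSpectrum A, r.asIdeal ∈ minimalPrimes A ∧ r ≤ q ∧ r ∈ Module.support A (Dual.HD A ω n) := by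
  obtain ⟨-, r, hr, hrq, hdeg⟩ := exists_deg_bounds hω hq
  refine ⟨r, hr, hrq, ?_⟩
  have hmem := GrothLib.SkExt.mem_support_EH_of_minimal hω A (r := r)
    (Module.mem_support_iff_of_finite.2 (by rw [Module.annihilator_eq_bot.2 inferInstance]; exact bot_le))
    (fun s _ hle => PrimeSpectrum.ext (le_antisymm hle (hr.2 ⟨s.isPrime, bot_le⟩ hle)))
  have e := (GrothLib.DualRing.exists_hom_ring_equiv ω (GrothLib.DualRing.deg hω r.asIdeal)).some.support_eq
  have hmem' : r ∈ Module.support A (Dual.HD A ω (GrothLib.DualRing.deg hω r.asIdeal)) := e ▸ hmem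
  have hd : GrothLib.DualRing.deg hω r.asIdeal = n := by
    refine le_antisymm hdeg (not_lt.1 fun h => ?_)
    haveI := hv _ h
    rw [Module.support_eq_empty_iff.2 inferInstance] at hmem'
    exact hmem'
  rwa [hd] at hmem'

include hω in
/-- Associated primes of the lowest cohomology module are minimal primes. -/
theorem mem_minimalPrimes_of_ass (n : ℤ) (hv : ∀ i, i < n → Subsingleton (Dual.HD A ω i)) {q : Ideal A}
    (hq : q ∈ associatedPrimes A (Dual.HD A ω n)) : q ∈ minimalPrimes A := by
  let M := Dual.HD A ω n
  haveI := hω.finite_cohomology n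
  haveI := IsAssociatedPrime.isPrime hq
  haveI : IsNoetherianRing (Localization.AtPrime q) := IsLocalization.isNoetherianRing q.primeCompl _ inferInstance
  have hqs : (⟨q, inferInstance⟩ : PrimeSpectrum A) ∈ Module.support A M := by
    rw [Module.mem_support_iff_of_finite]
    exact le_of_eq_of_le Submodule.annihilator_top.symm (IsAssociatedPrime.annihilator_le hq)
  obtain ⟨r, hr, hrq, hrs⟩ := exists_minimal_le hω n hv hqs
  rcases eq_or_lt_of_le hrq with h | h
  · have : r.asIdeal = q := congrArg PrimeSpectrum.asIdeal h
    rwa [← this]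
  exfalso
  haveI : Module.Finite (Localization.AtPrime q) (LocalizedModule q.primeCompl M) :=
    Module.Finite.of_isLocalizedModule q.primeCompl (LocalizedModule.mkLinearMap q.primeCompl M)
  have h1 := GrothLib.DualRing.skCond_two_bottom hω n hv q
  have h2 : LocCoh.depth (Localization.AtPrime q) (LocalizedModule q.primeCompl M) = 0 := by
    refine CMBasics.depth_eq_zero_iff.2 ?_
    have := (Module.associatedPrimes.preimage_comap_associatedPrimes_eq_associatedPrimes_of_isLocalizedModule
      q.primeCompl (Localization.AtPrime q) (LocalizedModule.mkLinearMap q.primeCompl M))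
    have hm : (IsLocalRing.maximalIdeal (Localization.AtPrime q)) ∈
        (Ideal.comap (algebraMap A (Localization.AtPrime q))) ⁻¹' associatedPrimes A M := by
      show (IsLocalRing.maximalIdeal (Localization.AtPrime q)).comap (algebraMap A (Localization.AtPrime q)) ∈ associatedPrimes A M
      rwa [show (IsLocalRing.maximalIdeal (Localization.AtPrime q)).comap
        (algebraMap A (Localization.AtPrime q)) = q from IsLocalization.AtPrime.comap_maximalIdeal _ q]
    rwa [this] at hm
  have h3 : (1 : WithBot ℕ∞) ≤ Module.supportDim (Localization.AtPrime q) (LocalizedModule q.primeCompl M) := by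
    rw [GrothLib.SkLift5.supportDim_localized_eq_height q hqs]
    refine WithBot.coe_le_coe.2 ?_
    refine le_trans ?_ (Order.height_add_one_le (a := (⟨r, hrs⟩ : Module.support A M))
      (b := ⟨⟨q, inferInstance⟩, hqs⟩) h)
    exact le_add_self
  rw [SkCond, h2] at h1
  rcases le_total ((2 : ℕ) : WithBot ℕ∞) (Module.supportDim (Localization.AtPrime q) (LocalizedModule q.primeCompl M)) with h4 | h4
  · rw [min_eq_left h4] at h1
    exact absurd (WithBot.coe_le_coe.1 h1) (by decide)
  · rw [min_eq_right h4] at h1
    exact absurd (WithBot.coe_le_coe.1 (h3.trans h1)) (by decide)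

include hω in
theorem eq_zero_of_smul_eq_zero (n : ℤ) (hv : ∀ i, i < n → Subsingleton (Dual.HD A ω i)) {a : A}
    (ha : a ∈ nonZeroDivisors A) {x : Dual.HD A ω n} (h : a • x = 0) : x = 0 := by
  haveI := hω.finite_cohomology n
  by_contra hx
  have hU := biUnion_associatedPrimes_eq_zero_divisors A (Dual.HD A ω n)
  have : a ∈ ⋃ q ∈ associatedPrimes A (Dual.HD A ω n), (q : Set A) := by rw [hU]; exact ⟨x, hx, h⟩
  obtain ⟨q, hq, hcq⟩ := Set.mem_iUnion₂.1 this
  exact Set.disjoint_left.1 (Ideal.disjoint_nonZeroDivisors_of_mem_minimalPrimes (mem_minimalPrimes_of_ass hω n hv hq))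
    hcq ha

end Ring

section Reflexive

variable {A : Type u} [CommRing A] [IsNoetherianRing A] (M : Type u) [AddCommGroup M] [Module A M] [Module.Finite A M]

/-- A module all of whose localizations at maximal ideals are reflexive is reflexive. -/
theorem isReflexive_of_localized
    (h : ∀ (p : Ideal A) [p.IsMaximal], Module.IsReflexive (Localization.AtPrime p) (LocalizedModule p.primeCompl M)) :
    Module.IsReflexive A M := by
  haveI : Module.FinitePresentation A M := Module.finitePresentation_of_finite A M
  haveI : Module.Finite A (Module.Dual A M) := by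
    obtain ⟨n, f, hf⟩ := Module.Finite.exists_fin' A M
    exact Module.Finite.of_injective f.dualMap (LinearMap.dualMap_injective_of_surjective hf)
  haveI : Module.FinitePresentation A (Module.Dual A M) := Module.finitePresentation_of_finite A _
  -- maximal ideals index the localizations
  let L := fun (p : Ideal A) [p.IsMaximal] => LocalizedModule p.primeCompl M
  have key : ∀ (p : Ideal A) [p.IsMaximal],
      Function.Bijective (IsLocalizedModule.map p.primeCompl (LocalizedModule.mkLinearMap p.primeCompl M)
        (LocalizedModule.mkLinearMap p.primeCompl (Module.Dual A (Module.Dual A M))) (Module.Dual.eval A M)) := by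
    intro p _
    let Ap := Localization.AtPrime p
    let ι := LocalizedModule.mkLinearMap p.primeCompl M
    let Φ : Module.Dual A M →ₗ[A] Module.Dual Ap (L p) :=
      IsLocalizedModule.mapExtendScalars p.primeCompl ι (Algebra.linearMap A Ap) Ap
    haveI hΦ : IsLocalizedModule p.primeCompl Φ :=
      Module.FinitePresentation.isLocalizedModule_mapExtendScalars _ _ _ _
    let Ψ : Module.Dual A (Module.Dual A M) →ₗ[A] Module.Dual Ap (Module.Dual Ap (L p)) :=
      IsLocalizedModule.mapExtendScalars p.primeCompl Φ (Algebra.linearMap A Ap) Ap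
    haveI hΨ : IsLocalizedModule p.primeCompl Ψ :=
      Module.FinitePresentation.isLocalizedModule_mapExtendScalars _ _ _ _
    let j := LocalizedModule.mkLinearMap p.primeCompl (Module.Dual A (Module.Dual A M))
    let σ := IsLocalizedModule.linearEquiv p.primeCompl j Ψ
    let ev : L p →ₗ[A] Module.Dual Ap (Module.Dual Ap (L p)) := (Module.Dual.eval Ap (L p)).restrictScalars A
    have hev : ∀ m : M, ev (ι m) = Ψ (Module.Dual.eval A M m) := fun m => by
      refine LinearMap.restrictScalars_injective A (IsLocalizedModule.ext p.primeCompl Φ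
        (IsLocalizedModule.map_units (Algebra.linearMap A Ap)) (LinearMap.ext fun φ => ?_))
      show Φ φ (ι m) = Ψ (Module.Dual.eval A M m) (Φ φ)
      exact (IsLocalizedModule.map_apply p.primeCompl ι (Algebra.linearMap A Ap) φ m).trans
        (IsLocalizedModule.map_apply p.primeCompl Φ (Algebra.linearMap A Ap) (Module.Dual.eval A M m) φ).symm
    have heq : σ.toLinearMap ∘ₗ IsLocalizedModule.map p.primeCompl ι j (Module.Dual.eval A M) = ev := by
      refine IsLocalizedModule.ext p.primeCompl ι (IsLocalizedModule.map_units Ψ) (LinearMap.ext fun m => ?_)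
      show σ (IsLocalizedModule.map p.primeCompl ι j (Module.Dual.eval A M) (ι m)) = ev (ι m)
      rw [IsLocalizedModule.map_apply, hev, IsLocalizedModule.linearEquiv_apply]
    have hb : Function.Bijective ev := (h p).bijective_dual_eval'
    have hc : ⇑σ ∘ ⇑(IsLocalizedModule.map p.primeCompl ι j (Module.Dual.eval A M)) = ⇑ev :=
      congrArg (fun (l : L p →ₗ[A] _) => ⇑l) heq
    rw [← hc] at hb
    exact (Function.Bijective.of_comp_iff' σ.bijective _).1 hb
  constructor
  exact bijective_of_localized_maximal _ key

end Reflexive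

end GrothLib.ShriekBridge22.Canon

namespace GrothLib.ShriekBridge22.Canon

variable {A : Type u} [CommRing A] [IsNoetherianRing A] {ω : Dual.D A} (hω : Dual.IsDualizing A ω)

include hω in
/-- Over a ring with normal local rings the lowest cohomology module of a dualizing complex is reflexive. -/
theorem isReflexive_bottom (n : ℤ) (hv : ∀ i, i < n → Subsingleton (Dual.HD A ω i))
    (hnor : ∀ (p : Ideal A) [p.IsMaximal], IsDomain (Localization.AtPrime p) ∧ IsIntegrallyClosed (Localization.AtPrime p)) :
    Module.IsReflexive A (Dual.HD A ω n) := by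
  haveI := hω.finite_cohomology n
  refine isReflexive_of_localized _ fun p _ => ?_
  let Ap := Localization.AtPrime p
  let Mp := LocalizedModule p.primeCompl (Dual.HD A ω n)
  haveI := (hnor p).1
  haveI := (hnor p).2
  haveI : IsNoetherianRing Ap := IsLocalization.isNoetherianRing p.primeCompl _ inferInstance
  haveI : Module.Finite Ap Mp :=
    Module.Finite.of_isLocalizedModule p.primeCompl (LocalizedModule.mkLinearMap p.primeCompl (Dual.HD A ω n))
  obtain ⟨ω', hω', he⟩ := GrothLib.DualRing.exists_localized hω ⟨p, inferInstance⟩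
  have hv' : ∀ i, i < n → Subsingleton (Dual.HD Ap ω' i) := fun i hi => by
    haveI := hv i hi
    haveI : Subsingleton (TensorProduct A Ap (Dual.HD A ω i)) :=
      subsingleton_of_forall_eq 0 fun t => by
        induction t using TensorProduct.induction_on with
        | zero => rfl
        | tmul a b => rw [Subsingleton.elim b 0, TensorProduct.tmul_zero]
        | add a b ha hb => rw [ha, hb, add_zero]
    exact (he i).some.toEquiv.subsingleton
  let e : Dual.HD Ap ω' n ≃ₗ[Ap] Mp :=
    (he n).some.trans (IsLocalizedModule.isBaseChange p.primeCompl Ap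
      (LocalizedModule.mkLinearMap p.primeCompl (Dual.HD A ω n))).equiv
  refine Groth.Agent.S2054.result.2 ⟨⟨fun {c x} hcx => ?_⟩, GrothLib.DualRing.hasSk_two_bottom_localized hω n hv p⟩
  by_cases hc : c = 0
  · exact Or.inl hc
  refine Or.inr ?_
  have h0 : e.symm x = 0 := eq_zero_of_smul_eq_zero hω' n hv' (mem_nonZeroDivisors_of_ne_zero hc)
    (by rw [← map_smul, hcx, map_zero])
  exact e.symm.map_eq_zero_iff.1 h0

end GrothLib.ShriekBridge22.Canon

namespace GrothLib.ShriekBridge22.Canon

variable {X : Scheme.{u}} [∀ R : CommRingCat.{u}, PreservesFiniteLimits (tilde.functor R)]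

/-- The sections over an affine open of a cohomology sheaf, given a tilde chart. -/
theorem exists_sections_equiv {K : DCoh.D X} (n : ℤ) {U : X.Opens} (hU : IsAffineOpen U)
    [(DCoh.HD K n).IsQuasicoherent] {κ : Dual.D Γ(X, U)}
    (e : (resD hU.fromSpec).obj K ≅ (DCoh.tildeD Γ(X, U)).obj κ) :
    Nonempty (((DCoh.HD K n).val.obj (Opposite.op U)) ≃ₗ[Γ(X, U)] Dual.HD Γ(X, U) κ n) ∧
      ∀ i : ℤ, IsZero (DCoh.HD K i) → Subsingleton (Dual.HD Γ(X, U) κ i) := by
  let A := Γ(X, U)
  let j := hU.fromSpec
  let H := fun i => (DerivedCategory.homologyFunctor (ModuleCat.{u} A) i).obj κ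
  let t := fun i => ((HDResIso j K i).symm ≪≫ (DerivedCategory.homologyFunctor _ i).mapIso e ≪≫ HDTildeIso (R := A) κ i :
      (Scheme.Modules.restrictFunctor j).obj (DCoh.HD K i) ≅ (tilde.functor A).obj (H i))
  let L : (moduleSpecΓFunctor (R := A)).obj ((Scheme.Modules.restrictFunctor j).obj (DCoh.HD K n)) ≅ H n :=
    (moduleSpecΓFunctor (R := A)).mapIso (t n) ≪≫ (tilde.toTildeΓNatIso.app (H n)).symm
  let E : Γ(DCoh.HD K n, U) ≃+ H n :=
    (QCoh.secIso hU (DCoh.HD K n) ⊤ (QCoh.image_top hU)).symm.trans L.toLinearEquiv.toAddEquiv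
  have hE : ∀ (g : A) (z : Γ(DCoh.HD K n, U)), E (g • z) = g • E z := fun g z => by
    obtain ⟨w, rfl⟩ := (QCoh.secIso hU (DCoh.HD K n) ⊤ (QCoh.image_top hU)).surjective z
    show L.toLinearEquiv ((QCoh.secIso hU _ ⊤ _).symm (g • _)) = g • L.toLinearEquiv ((QCoh.secIso hU _ ⊤ _).symm _)
    rw [← QCoh.secIso_top_smul, AddEquiv.symm_apply_apply, AddEquiv.symm_apply_apply]
    exact map_smul L.toLinearEquiv g w
  refine ⟨⟨{ E with map_smul' := hE }⟩, fun i hi => ?_⟩
  have h : IsZero ((tilde.functor A).obj (H i)) :=
    ((Scheme.Modules.restrictFunctor j).map_isZero hi).of_iso (t i).symm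
  refine ModuleCat.subsingleton_of_isZero ((IsZero.iff_id_eq_zero (H i)).2 ((tilde.functor A).map_injective ?_))
  exact h.eq_of_src _ _

end GrothLib.ShriekBridge22.Canon
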