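import Groth.Agent.Lib.ShriekBridge22.FieldDual
import Groth.Agent.Lib.QCoh.Support

/-! # The dualizing complex of a proper scheme over a field -/

set_option autoImplicit false
set_option maxHeartbeats 1000000
set_option linter.style.haveILetI false
universe u

open CategoryTheory CategoryTheory.Limits AlgebraicGeometry GrothLib.OX

attribute [local instance] HasDerivedCategory.standard

noncomputable section

namespace GrothLib.ShriekBridge22

variable {X : Scheme.{u}} [∀ R : CommRingCat.{u}, PreservesFiniteLimits (tilde.functor R)] {k : Type u} [Field k]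
  (f : X ⟶ Spec (CommRingCat.of k)) [IsProper f] [DCoh.HasRpush f] (hf : DCoh.RpushPreservesQCoh f)
  {a : DCoh.DQCoh (Spec (CommRingCat.of k)) ⥤ DCoh.DQCoh X} (adj : DCoh.RpushQ f hf ⊣ a)
  (O : DCoh.DQCoh (Spec (CommRingCat.of k)))
  (hO : Nonempty (O.obj ≅ DCoh.inD (Spec (CommRingCat.of k)) (Coh.structureModule (Spec (CommRingCat.of k)))))

include adj hO in
theorem exists_field_chart (U : X.Opens) (hU : IsAffineOpen U) :
    ∃ (_ : Algebra k Γ(X, U)) (n : ℕ) (ψ : MvPolynomial (Fin n) k →ₐ[k] Γ(X, U)),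
      Function.Surjective ψ ∧ IsNoetherianRing Γ(X, U) ∧
      Nonempty ((resD hU.fromSpec).obj (a.obj O).obj ≅
        (DCoh.tildeD Γ(X, U)).obj (letI := DualRing.Shriek.pfl_of_flat k (P := MvPolynomial (Fin n) k); DualRing.Shriek.GP ψ (Dual.inD k k))) := by
  obtain ⟨φ, hφ, w⟩ := GrothLib.Dim.exists_finiteType_specMap f hU
  letI : Algebra k Γ(X, U) := φ.hom.toAlgebra
  have hft : Algebra.FiniteType k Γ(X, U) := hφ
  obtain ⟨n, ψ, hψ⟩ := Algebra.FiniteType.iff_quotient_mvPolynomial''.1 hft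
  refine ⟨inferInstance, n, ψ, hψ, Algebra.FiniteType.isNoetherianRing k Γ(X, U), ?_⟩
  haveI : IsNoetherianRing k := inferInstance
  obtain ⟨eV⟩ := nonempty_resD_unit (𝟙 (Spec (CommRingCat.of k))) hO
  obtain ⟨r⟩ := nonempty_shB_chart (𝟙 X) f (Category.id_comp f) (𝟙 _) hU.fromSpec
    (by rw [Category.comp_id]; exact w) ψ hψ (⟨O, 0, isGE_zero_of_iso_structure hO⟩ : RightAdj22.BQ _) _ eV
  let e : ((RightAdj22.shB (𝟙 X) f).obj (⟨O, 0, isGE_zero_of_iso_structure hO⟩ : RightAdj22.BQ _)).obj.obj ≅ (a.obj O).obj :=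
    (RightAdj22.resDIdIso X).app _ ≪≫ (ObjectProperty.ι _).mapIso ((RightAdj22.aQUniq f hf adj).app O).symm
  exact ⟨(resD hU.fromSpec).mapIso e.symm ≪≫ r⟩

variable (d : ℕ) (hd : topologicalKrullDim X = d)

include adj hO hd in
theorem isZero_HD_adjoint (i : ℤ) (hi : i < -(d : ℤ) ∨ 0 < i) : IsZero (DCoh.HD (a.obj O).obj i) := by
  refine isZero_HD_of_subsingleton (a.obj O).property i fun x => ?_
  obtain ⟨U, hU, hx, -⟩ := exists_isAffineOpen_mem_and_subset (x := x) (U := ⊤) trivial
  obtain ⟨_, n, ψ, hψ, _, he⟩ := exists_field_chart f hf adj O hO U hU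
  refine ⟨U, hU, _, hx, he, (Module.support_eq_empty_iff (R := Γ(X, U))).1 (Set.eq_empty_iff_forall_notMem.2 fun q hq => ?_)⟩
  obtain ⟨h1, -, h3⟩ := support_bounds ψ hψ i q hq
  have h4 : ringKrullDim Γ(X, U) ≤ (d : WithBot ℕ∞) :=
    (GrothLib.Dim.topologicalKrullDim_affineOpen hU).symm.le.trans ((topologicalKrullDim_subspace_le X U).trans hd.le)
  have h5 : (-i).toNat ≤ d := by exact_mod_cast h3.trans h4
  omega

include adj hO in
theorem topologicalKrullDim_support_le (i : ℤ) :
    topologicalKrullDim {x : X | Nontrivial ((DCoh.HD (a.obj O).obj i).presheaf.stalk x)} ≤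
      ((-i).toNat : WithBot ℕ∞) := by
  let Z := {x : X | Nontrivial ((DCoh.HD (a.obj O).obj i).presheaf.stalk x)}
  refine GrothLib.Dim.topologicalKrullDim_le_of_cover
    (fun V : X.affineOpens => (⟨Subtype.val ⁻¹' (V.1 : Set X), V.1.2.preimage continuous_subtype_val⟩ : TopologicalSpace.Opens Z))
    (fun z => ?_) fun V => ?_
  · obtain ⟨U, hU, hx, -⟩ := exists_isAffineOpen_mem_and_subset (x := (z.1 : X)) (U := ⊤) trivial
    exact ⟨⟨U, hU⟩, hx⟩
  obtain ⟨U, hU⟩ := V
  obtain ⟨_, n, ψ, hψ, _, ⟨e⟩⟩ := exists_field_chart f hf adj O hO U hU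
  let H := Dual.HD Γ(X, U) (letI := DualRing.Shriek.pfl_of_flat k (P := MvPolynomial (Fin n) k); DualRing.Shriek.GP ψ (Dual.inD k k)) i
  haveI : Module.Finite Γ(X, U) H := (isDualizing_GP ψ hψ (isDualizing_field k)).finite_cohomology i
  let S := Module.support Γ(X, U) H
  let g : {z : Z // z.1 ∈ U} → S := fun w => ⟨hU.primeIdealOf ⟨w.1.1, w.2⟩, by
    rw [Module.mem_support_iff]
    have h := (nontrivial_stalk_iff hU _ e i ((a.obj O).property i) w.1.1 w.2).1 w.1.2
    have e' := congrArg PrimeSpectrum.asIdeal (QCoh.primeAt_eq_primeIdealOf hU (show w.1.1 ∈ U from w.2))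
    convert h using 4
    exact e'.symm⟩
  have hg : Topology.IsInducing g := by
    refine Topology.IsInducing.of_comp ?_ (g := fun q : S => hU.fromSpec q.1) ?_ ?_
    · exact (((hU.isoSpec.hom).continuous.comp ((continuous_subtype_val.comp continuous_subtype_val).subtype_mk fun w => w.2)).subtype_mk _)
    · exact hU.fromSpec.continuous.comp continuous_subtype_val
    · have : (fun q : S => hU.fromSpec q.1) ∘ g = fun w : {z : Z // z.1 ∈ U} => (w.1.1 : X) :=
        funext fun w => hU.fromSpec_primeIdealOf ⟨w.1.1, w.2⟩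
      rw [this]
      exact Topology.IsInducing.subtypeVal.comp Topology.IsInducing.subtypeVal
  refine hg.topologicalKrullDim_le.trans (le_of_eq_of_le ?_ (supportDim_HD_le ψ hψ i))
  show topologicalKrullDim S = Module.supportDim Γ(X, U) H
  have hS : S = PrimeSpectrum.zeroLocus (Module.annihilator Γ(X, U) H : Set Γ(X, U)) := Module.support_eq_zeroLocus
  rw [show Module.supportDim Γ(X, U) H = ringKrullDim (Γ(X, U) ⧸ Module.annihilator Γ(X, U) H) from
      Module.supportDim_eq_ringKrullDim_quotient_annihilator _ _, ← PrimeSpectrum.topologicalKrullDim_eq_ringKrullDim]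
  exact (GrothLib.Dim.IsEmbedding.topologicalKrullDim_eq
    (PrimeSpectrum.isClosedEmbedding_comap_of_surjective _ (Ideal.Quotient.mk (Module.annihilator Γ(X, U) H))
      Ideal.Quotient.mk_surjective).isEmbedding
    (by rw [hS, range_comap_of_surjective _ _ Ideal.Quotient.mk_surjective, Ideal.mk_ker])).symm

end GrothLib.ShriekBridge22
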