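import Groth.Agent.Lib.ShriekBridge22.FibreDegree
import Groth.Agent.Lib.DualRing.Shift

/-! # The dualizing module of a Cohen–Macaulay local ring -/

set_option autoImplicit false
set_option linter.style.haveILetI false
set_option maxHeartbeats 1000000
universe u

open CategoryTheory CategoryTheory.Limits GrothLib.DualCx22

attribute [local instance] HasDerivedCategory.standard

noncomputable section

namespace GrothLib.ShriekBridge22

open GrothLib.DualRing

/-- **The nonzero cohomology of a dualizing complex of a Cohen–Macaulay local ring is a Cohen–Macaulay module.** -/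
theorem isCM_module_of_isCM {A : Type u} [CommRing A] [IsNoetherianRing A] [IsLocalRing A] {ω : Dual.D A}
    (hω : Dual.IsDualizing A ω) [hA : LocCoh.IsCohenMacaulayLocalRing A] (j : ℤ) (hj : Nontrivial (Dual.HD A ω j)) :
    LocCoh.IsCohenMacaulayModule A (Dual.HD A ω j) := by
  have huniq := (isCM_iff_HD hω).1 hA
  have hzero : ∀ i : ℤ, i ≠ j → IsZero ((DerivedCategory.homologyFunctor (ModuleCat.{u} A) i).obj ω) := fun i hi =>
    (GrothLib.DR.subsingleton_iff_isZero _).1 (not_nontrivial_iff_subsingleton.1 fun h => hi (huniq i j h hj))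
  haveI : ω.IsGE j := (DerivedCategory.isGE_iff ω j).2 fun i hi => hzero i (ne_of_lt hi)
  haveI : ω.IsLE j := (DerivedCategory.isLE_iff ω j).2 fun i hi => hzero i (ne_of_gt hi)
  obtain ⟨H, ⟨eH⟩⟩ := DerivedCategory.exists_iso_singleFunctor_obj_of_isGE_of_isLE ω j
  let eM : Dual.HD A ω j ≃ₗ[A] H :=
    ((DerivedCategory.homologyFunctor (ModuleCat.{u} A) j).mapIso eH ≪≫
      (DerivedCategory.singleFunctorCompHomologyFunctorIso (ModuleCat.{u} A) j).app H).toLinearEquiv
  let M := Dual.HD A ω j
  let e₀ : ω ≅ (Dual.inD A M)⟦-j⟧ := eH ≪≫ GrothLib.DR.singleIsoShift j H ≪≫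
    (shiftFunctor (Dual.D A) (-j)).mapIso ((DerivedCategory.singleFunctor (ModuleCat.{u} A) 0).mapIso eM.symm.toModuleIso)
  have hM : Dual.IsDualizing A (Dual.inD A M) := GrothLib.DualCx22.isDualizing_of_iso
    ((shiftFunctor (Dual.D A) j).mapIso e₀ ≪≫ shiftNegShift (Dual.inD A M) j) (GrothLib.DualRing.isDualizing_shift hω j)
  haveI : Module.Finite A M := hω.finite_cohomology j
  haveI : Nontrivial M := hj
  let c := deg hω (IsLocalRing.maximalIdeal A)
  have hω' := GrothLib.DualRing.isDualizing_shift hω c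
  have hn : Dual.IsNormalized A (ω⟦c⟧) := isNormalized_shift hω
  let e' : ω⟦c⟧ ≅ (Dual.inD A M)⟦-j + c⟧ :=
    (shiftFunctor (Dual.D A) c).mapIso e₀ ≪≫ ((shiftFunctorAdd (Dual.D A) (-j) c).app _).symm
  have hm : ∀ (N : Type u) [AddCommGroup N] [Module A N] [Module.Finite A N] [Nontrivial N],
      ∃ k : ℕ, LocCoh.depth A N = k ∧ Nontrivial (EH (ω⟦c⟧) (Dual.inD A N) (-(k : ℤ))) := fun N _ _ _ _ => by
    obtain ⟨k, hk⟩ := ENat.ne_top_iff_exists.1
      (GrothLib.Depth.idealDepth_ne_top (M := N) (IsLocalRing.maximalIdeal.isMaximal A).ne_top)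
    exact ⟨k, hk.symm, (depth_criterion hω' hn k N hk.symm).2⟩
  obtain ⟨k, hk, hkn⟩ := hm M
  obtain ⟨kA, hkA, hkAn⟩ := hm A
  have h1 : -j + c + -(k : ℤ) = 0 := by
    by_contra hne
    haveI := hM.ext_self_subsingleton _ hne
    haveI : Subsingleton (EH (ω⟦c⟧) (Dual.inD A M) (-(k : ℤ))) :=
      ((Iso.homCongr (Iso.refl (Dual.inD A M)) ((shiftFunctor (Dual.D A) (-(k : ℤ))).mapIso e' ≪≫
        ((shiftFunctorAdd (Dual.D A) (-j + c) (-(k : ℤ))).app _).symm))).subsingleton
    exact not_subsingleton _ ‹_›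
  have h2 : c + -(kA : ℤ) = j := by
    refine huniq _ _ ?_ hj
    exact ((exists_hom_ring_equiv (ω⟦c⟧) (-(kA : ℤ))).some ≪≫ₗ
      (nonempty_HD_shift ω c _ _ rfl).some).toEquiv.symm.nontrivial
  have hsupp : Module.support A M = Set.univ := Set.eq_univ_of_forall fun q => by
    obtain ⟨i, hi⟩ := exists_mem_support hω q
    obtain rfl : i = j := huniq i j
      (not_subsingleton_iff_nontrivial.1 fun hs => by
        rw [Module.support_eq_empty_iff.2 hs] at hi; exact hi) hj
    exact hi
  show Module.supportDim A M = ((LocCoh.depth A M : ℕ∞) : WithBot ℕ∞)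
  have hdim : Module.supportDim A M = Module.supportDim A A := by
    unfold Module.supportDim
    have hs : Module.support A A = Set.univ := Set.eq_univ_of_forall fun z => by
      rw [Module.support_of_algebra (R := A) (A := A)]
      intro y hy
      rw [SetLike.mem_coe, RingHom.mem_ker, Algebra.algebraMap_self, RingHom.id_apply] at hy
      exact hy ▸ z.asIdeal.zero_mem
    rw [hsupp, hs]
  rw [hdim, hA.supportDim_eq_depth, hk, hkA, show k = kA by omega]

end GrothLib.ShriekBridge22
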