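import Groth.Agent.Lib.ShriekBridge22.FieldScheme
import Groth.Agent.Lib.ShriekBridge22.FieldCM
import Groth.Agent.Lib.SkExt.Basic
import Groth.Agent.Lib.SmoothRank4.FibreDim

/-! # The dualizing complex of a proper scheme over a field at Cohen–Macaulay points -/

set_option autoImplicit false
set_option linter.style.haveILetI false
set_option maxHeartbeats 1000000
universe u

open CategoryTheory CategoryTheory.Limits AlgebraicGeometry GrothLib.OX
open scoped TensorProduct

attribute [local instance] HasDerivedCategory.standard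

noncomputable section

namespace GrothLib.ShriekBridge22

/-- Being a Cohen–Macaulay module is invariant under semilinear equivalences. -/
theorem isCMModule_congr {R S : Type u} [CommRing R] [IsLocalRing R] [CommRing S] [IsLocalRing S] {M N : Type u}
    [AddCommGroup M] [Module R M] [Module.Finite R M] [AddCommGroup N] [Module S N] [Module.Finite S N]
    (σ : R ≃+* S) (e : M ≃+ N) (he : ∀ (r : R) (x : M), e (r • x) = σ r • e x) :
    LocCoh.IsCohenMacaulayModule R M ↔ LocCoh.IsCohenMacaulayModule S N := by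
  unfold LocCoh.IsCohenMacaulayModule
  rw [GrothLib.SkExt.supportDim_congr_semilinear σ e he, GrothLib.SkExt.depth_congr_semilinear σ e he]

/-- Cohen–Macaulayness of a localised module, read on the standard localisation. -/
theorem isCMModule_localized_iff {R T : Type u} [CommRing R] [CommRing T] [Algebra R T]
    (p : Ideal R) [p.IsPrime] [IsLocalization.AtPrime T p] [IsLocalRing T] {M N : Type u} [AddCommGroup M]
    [Module R M] [Module.Finite R M] [AddCommGroup N] [Module R N] [Module T N] [IsScalarTower R T N]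
    (g : M →ₗ[R] N) [IsLocalizedModule p.primeCompl g] :
    LocCoh.IsCohenMacaulayModule T N ↔
      LocCoh.IsCohenMacaulayModule (Localization.AtPrime p) (Localization.AtPrime p ⊗[R] M) := by
  let Rp := Localization.AtPrime p
  let g' : M →ₗ[R] Rp ⊗[R] M := TensorProduct.mk R Rp M 1
  haveI : IsLocalizedModule p.primeCompl g' :=
    (isLocalizedModule_iff_isBaseChange p.primeCompl Rp g').2 (TensorProduct.isBaseChange R M Rp)
  haveI : Module.Finite T N := Module.Finite.of_isLocalizedModule p.primeCompl g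
  let e : (Rp ⊗[R] M) ≃ₗ[R] N := IsLocalizedModule.linearEquiv p.primeCompl g' g
  let σ : Rp ≃ₐ[R] T := IsLocalization.algEquiv p.primeCompl _ _
  refine (isCMModule_congr σ.toRingEquiv e.toAddEquiv fun r x => ?_).symm
  obtain ⟨a, s, rfl⟩ := IsLocalization.exists_mk'_eq p.primeCompl r
  apply ((IsLocalization.map_units T s).smul_left_cancel).1
  have h1 : algebraMap R Rp (s : R) * IsLocalization.mk' Rp a s = algebraMap R Rp a :=
    IsLocalization.mk'_spec' _ a s
  show algebraMap R T s • e (IsLocalization.mk' Rp a s • x) = algebraMap R T s • (σ (IsLocalization.mk' Rp a s) • e x)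
  calc algebraMap R T s • e (IsLocalization.mk' Rp a s • x)
      = (s : R) • e (IsLocalization.mk' Rp a s • x) := algebraMap_smul _ _ _
    _ = e ((s : R) • IsLocalization.mk' Rp a s • x) := (e.map_smul _ _).symm
    _ = e (a • x) := by rw [← algebraMap_smul Rp (s : R) (IsLocalization.mk' Rp a s • x), smul_smul, h1,
          algebraMap_smul]
    _ = a • e x := e.map_smul _ _
    _ = σ (algebraMap R Rp a) • e x := by rw [σ.commutes, algebraMap_smul]
    _ = _ := by rw [← h1, map_mul, σ.commutes, mul_smul]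

variable {X : Scheme.{u}} [∀ R : CommRingCat.{u}, PreservesFiniteLimits (tilde.functor R)] {k : Type u} [Field k]
  (f : X ⟶ Spec (CommRingCat.of k)) [IsProper f] [DCoh.HasRpush f] (hf : DCoh.RpushPreservesQCoh f)
  {a : DCoh.DQCoh (Spec (CommRingCat.of k)) ⥤ DCoh.DQCoh X} (adj : DCoh.RpushQ f hf ⊣ a)
  (O : DCoh.DQCoh (Spec (CommRingCat.of k)))
  (hO : Nonempty (O.obj ≅ DCoh.inD (Spec (CommRingCat.of k)) (Coh.structureModule (Spec (CommRingCat.of k)))))

omit [∀ R : CommRingCat.{u}, PreservesFiniteLimits (tilde.functor R)] in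
/-- The local dimension can be read on an affine chart. -/
theorem localDim_chart {U : X.Opens} (hU : IsAffineOpen U) {x : X} (hx : x ∈ U) :
    FlatMor.localDim (PrimeSpectrum Γ(X, U)) (hU.primeIdealOf ⟨x, hx⟩) = FlatMor.localDim X x := by
  have h := GrothLib.SmoothRank4.localDim_isOpenEmbedding (X := ↥(Spec Γ(X, U))) (Y := X)
    hU.fromSpec.isOpenEmbedding (hU.primeIdealOf ⟨x, hx⟩)
  rw [hU.fromSpec_primeIdealOf] at h
  exact h.symm

include adj hO in
/-- **One degree at a Cohen–Macaulay point.** -/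
theorem stalk_field_of_isCM (x : X) (hCM : LocCoh.IsCohenMacaulayLocalRing (X.presheaf.stalk x)) (d : ℕ)
    (hd : FlatMor.localDim X x = (d : WithBot ℕ∞)) :
    (∀ i : ℤ, Nontrivial ((DCoh.HD (a.obj O).obj i).presheaf.stalk x) ↔ i = -(d : ℤ)) ∧
      LocCoh.IsCohenMacaulayModule (X.presheaf.stalk x) ((DCoh.HD (a.obj O).obj (-(d : ℤ))).presheaf.stalk x) := by
  obtain ⟨U, hU', hx, -⟩ := exists_isAffineOpen_mem_and_subset (x := x) (U := ⊤) trivial
  have hU : IsAffineOpen U := hU'
  obtain ⟨_, n, ψ, hψ, _, ⟨e⟩⟩ := exists_field_chart f hf adj O hO U hU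
  haveI : Algebra.FiniteType k Γ(X, U) := Algebra.FiniteType.of_surjective ψ hψ
  let ω := GrothLib.DualRing.Shriek.GP ψ (Dual.inD k k)
  have hω : Dual.IsDualizing Γ(X, U) ω := isDualizing_GP ψ hψ (isDualizing_field k)
  let P : PrimeSpectrum Γ(X, U) := ⟨WeakAss.primeAt x hx, inferInstance⟩
  have hP : P = hU.primeIdealOf ⟨x, hx⟩ := QCoh.primeAt_eq_primeIdealOf hU hx
  have hdP : FlatMor.localDim (PrimeSpectrum Γ(X, U)) P = (d : WithBot ℕ∞) :=
    (hP ▸ localDim_chart hU hx).trans hd
  have key : ∀ i, Nontrivial ((DCoh.HD (a.obj O).obj i).presheaf.stalk x) ↔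
      P ∈ Module.support Γ(X, U) (Dual.HD Γ(X, U) ω i) := fun i =>
    (nontrivial_stalk_iff hU ω e i ((a.obj O).property i) x hx).trans (Module.mem_support_iff (p := P)).symm
  letI := X.presheaf.algebra_section_stalk ⟨x, hx⟩
  haveI : IsLocalization.AtPrime (X.presheaf.stalk x) P.asIdeal := FlatFP.isLocalization_stalk_primeAt hU hx
  haveI := hCM
  haveI hCMP : LocCoh.IsCohenMacaulayLocalRing (Localization.AtPrime P.asIdeal) :=
    GrothLib.HB26.isCohenMacaulayLocalRing_of_ringEquiv
      (IsLocalization.algEquiv P.asIdeal.primeCompl (X.presheaf.stalk x) (Localization.AtPrime P.asIdeal)).toRingEquiv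
  obtain ⟨i₀, hi₀, huniq⟩ := (GrothLib.DualRing.isCM_iff_existsUnique hω P).1 hCMP
  have hi0 : i₀ = -(d : ℤ) := by
    have h1 := neg_le_of_mem_support ψ hψ i₀ P hdP.le hi₀
    have h2 := (support_bounds ψ hψ i₀ P hi₀).1
    have h3 : FlatMor.localDim (PrimeSpectrum Γ(X, U)) P ≤ (((-i₀).toNat : ℕ) : WithBot ℕ∞) :=
      localDim_le_of_minimal (k := k) P fun Q₀ _ hle => by
        obtain ⟨j, hj⟩ := exists_mem_support hω Q₀
        obtain rfl : j = i₀ := huniq j (Module.mem_support_mono hle hj)
        exact (support_bounds ψ hψ j Q₀ hj).2.1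
    rw [hdP, Nat.cast_le] at h3
    omega
  subst hi0
  refine ⟨fun i => (key i).trans ⟨fun h => huniq i h, fun h => h ▸ hi₀⟩, ?_⟩
  obtain ⟨ω', hω', he⟩ := GrothLib.DualRing.exists_localized hω P
  haveI : IsNoetherianRing (Localization.AtPrime P.asIdeal) := GrothLib.Depth.isNoetherian_atPrime _
  let el := (he (-(d : ℤ))).some
  have hnt : Nontrivial (Dual.HD (Localization.AtPrime P.asIdeal) ω' (-(d : ℤ))) :=
    (GrothLib.DualRing.nontrivial_HD_iff_mem_support hω P el).2 hi₀
  have hmod := isCM_module_of_isCM hω' _ hnt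
  haveI := hω'.finite_cohomology (-(d : ℤ))
  haveI := hω.finite_cohomology (-(d : ℤ))
  have hmod' := (isCMModule_congr (RingEquiv.refl _) el.toAddEquiv fun r z => el.map_smul r z).1 hmod
  letI : Module Γ(X, U) ((DCoh.HD (a.obj O).obj (-(d : ℤ))).presheaf.stalk x) :=
    Module.compHom _ (X.presheaf.germ U x hx).hom
  haveI : IsScalarTower Γ(X, U) (X.presheaf.stalk x) ((DCoh.HD (a.obj O).obj (-(d : ℤ))).presheaf.stalk x) :=
    IsScalarTower.of_algebraMap_smul fun _ _ => rfl
  obtain ⟨g, hg⟩ := exists_localized hU ω e (-(d : ℤ)) ((a.obj O).property _) x hx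
  haveI := hg
  exact (isCMModule_localized_iff P.asIdeal g).2 hmod'


include adj hO in
theorem isCoh_HD_adjoint (i : ℤ) : Coh.IsCoh (DCoh.HD (a.obj O).obj i) := by
  refine isCoh_HD_of_finite i fun x => ?_
  obtain ⟨U, hU, hx, -⟩ := exists_isAffineOpen_mem_and_subset (x := x) (U := ⊤) trivial
  obtain ⟨_, n, ψ, hψ, _, he⟩ := exists_field_chart f hf adj O hO U hU
  exact ⟨U, hU, _, hx, he, (isDualizing_GP ψ hψ (isDualizing_field k)).finite_cohomology i⟩

end GrothLib.ShriekBridge22
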