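import Groth.Agent.Lib.HomBC22.LocalAdj
import Groth.Agent.Lib.TorBC25.RelPerfect
import Groth.Agent.Lib.TorBC25.Perfect
import Groth.Agent.Lib.KSix19.AmpLocal
import Groth.Agent.Lib.RelAmp22.FPRep
import Groth.Agent.Lib.OX.LocFreeHomVanish
import Groth.Agent.Lib.DerCat.Stupid
import Groth.Agent.Lib.RightAdj22.Coprod
import Groth.Agent.Lib.Detect22.PerfectDetect

/-! # `Rf_* a(O)` has no cohomology in positive degrees -/

set_option autoImplicit false
set_option maxHeartbeats 1600000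
set_option linter.style.haveILetI false
set_option backward.isDefEq.respectTransparency false
universe u

open CategoryTheory CategoryTheory.Limits AlgebraicGeometry HomologicalComplex CategoryTheory.Pretriangulated

attribute [local instance] HasDerivedCategory.standard

noncomputable section

namespace GrothLib.ShriekBridge22.PosVanish

open GrothLib.OX

variable {U : Scheme.{u}} [IsAffine U]

theorem eq_zero_single {F : U.Modules} (hF : FlatMod.IsFinLocFree F) {L : DCoh.D U} (hL : DCoh.IsQCohD L)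
    (c : ℤ) (hc : c < 0) [L.IsLE c] (φ : DCoh.inD U F ⟶ L) : φ = 0 := by
  let K := (single U.Modules (ComplexShape.up ℤ) 0).obj F
  have := hasLTensorCx K
  have := hasRSheafHom K
  have hK : DCoh.IsKFlat K := isKFlat_single _ (flat_of_isFinLocFree hF) 0
  have hKp : DCoh.IsPerfect (DerivedCategory.Q.obj K) :=
    isPerfect_single_of_finLocFree hF
  let S := (single U.Modules (ComplexShape.up ℤ) 0).obj (Coh.structureModule U)
  obtain ⟨v⟩ := ltensorCx_value K S (isKFlat_single _ (flat_structureModule _) 0)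
  let O₀ := (DerivedCategory.singleFunctor U.Modules 0).obj (Coh.structureModule U)
  let w : DCoh.inD U F ≅ (DCoh.LTensorCx K).obj O₀ :=
    (DerivedCategory.singleFunctorIsoCompQ U.Modules 0).app F ≪≫
    DerivedCategory.Q.mapIso ((singleUnitNatIso (X := U)).app K).symm ≪≫
    DerivedCategory.Q.mapIso ((tensorFlipIso S).app K) ≪≫ v.symm ≪≫
      (DCoh.LTensorCx K).mapIso (unitCxQIso U)
  have hR := isLE_RSheafHom_of_finLocFree hF L c
  have hq := isQCohD_RSheafHom_of_perfect K hKp hL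
  have h0 : ∀ ψ : O₀ ⟶ (DCoh.RSheafHom K).obj L, ψ = 0 := fun ψ => by
    let s := (DerivedCategory.singleFunctor U.Modules 0).mapIso (genTopIso U)
    rw [← cancel_epi s.hom, comp_zero]
    exact (theta_bijective (isAffineOpen_top U) hq 0).1
      ((DerivedCategory.isZero_of_isLE _ c 0 (by omega)).eq_of_tgt _ _)
  rw [← cancel_epi w.inv, comp_zero]
  apply ((DCoh.RSheafHomAdj K).homEquiv O₀ _).injective
  exact (h0 _).trans (h0 _).symm

theorem eq_zero_strict {L : DCoh.D U} (hL : DCoh.IsQCohD L) (c : ℤ) (hc : c < 0) [L.IsLE c] :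
    ∀ (n : ℕ) (a : ℤ) (E : CochainComplex U.Modules ℤ), 0 ≤ a →
      (∀ j, (j < a ∨ a + n ≤ j) → IsZero (E.X j)) → (∀ j, FlatMod.IsFinLocFree (E.X j)) →
      ∀ φ : DerivedCategory.Q.obj E ⟶ L, φ = 0 := by
  intro n
  induction n with
  | zero =>
    intro a E _ hE _ φ
    refine (DerivedCategory.Q.map_isZero ?_).eq_of_src φ 0
    exact (IsZero.iff_id_eq_zero E).2 (HomologicalComplex.Hom.ext (funext fun j =>
      ((hE j (by omega))).eq_of_src _ _))
  | succ n ih =>
    intro a E ha hE hfin φ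
    let T := DerivedCategory.triangleOfSES (DerCat.stupidSeq_shortExact E (a + 1))
    have hT := DerivedCategory.triangleOfSES_distinguished (DerCat.stupidSeq_shortExact E (a + 1))
    have h₁ : DerivedCategory.Q.map (DerCat.sGEι E (a + 1)) ≫ φ = 0 := by
      refine ih (a + 1) _ (by omega) (fun j hj => ?_) (fun j => ?_) _
      · rcases lt_or_ge j (a + 1) with h | h
        · exact DerCat.isZero_sGE E h
        · exact (hE j (by omega)).of_iso (DerCat.sGEXIso E h)
      · rcases lt_or_ge j (a + 1) with h | h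
        · exact DCoh.isFinLocFree_of_isZero (DerCat.isZero_sGE E h)
        · exact DCoh.isFinLocFree_of_iso (DerCat.sGEXIso E h).symm (hfin j)
    obtain ⟨ψ, hψ⟩ := Triangle.yoneda_exact₂ _ hT φ h₁
    suffices ψ = 0 by rw [hψ, this, comp_zero]
    let S := DerCat.sLE E (a + 1 - 1)
    obtain ⟨F, hF, ⟨e⟩⟩ : ∃ F : U.Modules, FlatMod.IsFinLocFree F ∧
        Nonempty (DerivedCategory.Q.obj S ≅ (DerivedCategory.singleFunctor U.Modules a).obj F) := by
      haveI : S.IsStrictlyGE a := (S.isStrictlyGE_iff a).2 fun j hj =>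
        (hE j (Or.inl hj)).of_iso (DerCat.sLEXIso E (by omega))
      haveI : S.IsStrictlyLE a := (S.isStrictlyLE_iff a).2 fun j hj => DerCat.isZero_sLE E (by omega)
      obtain ⟨F, ⟨i⟩⟩ := S.exists_iso_single a
      refine ⟨F, ?_, ⟨DerivedCategory.Q.mapIso i ≪≫ ((DerivedCategory.singleFunctorIsoCompQ U.Modules a).app F).symm⟩⟩
      exact DCoh.isFinLocFree_of_iso ((DerCat.sLEXIso E (by omega : a ≤ a + 1 - 1)).symm ≪≫
        (HomologicalComplex.eval U.Modules (ComplexShape.up ℤ) a).mapIso i ≪≫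
        HomologicalComplex.singleObjXSelf (ComplexShape.up ℤ) a F) (hfin a)
    haveI : (L⟦a⟧).IsLE (c - a) := DerivedCategory.TStructure.t.isLE_shift L c a (c - a) (by omega)
    let s : (DCoh.inD U F)⟦-a⟧ ≅ (DerivedCategory.singleFunctor U.Modules a).obj F :=
      ((DerivedCategory.singleFunctors U.Modules).shiftIso (-a) a 0 (by omega)).app F
    rw [← cancel_epi e.inv, comp_zero, ← cancel_epi s.hom, comp_zero]
    refine eq_zero_of_shiftAdj (-a) _ ?_
    haveI : (L⟦- -a⟧).IsLE (c - a) := DerivedCategory.TStructure.t.isLE_shift L c (- -a) (c - a) (by omega)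
    exact eq_zero_single hF (isQCohD_shift hL _) (c - a) (by omega) _

end GrothLib.ShriekBridge22.PosVanish

namespace GrothLib.ShriekBridge22.PosVanish

open GrothLib.OX GrothLib.HomBC22

variable {X Y : Scheme.{u}}

/-- **`Rf_* a(O)` lives in degrees at most zero.** -/
theorem isZero_HD_Rpush_adjoint [CompactSpace Y] [QuasiSeparatedSpace Y] (f : X ⟶ Y) [IsProper f] [Flat f]
    [LocallyOfFinitePresentation f] [DCoh.HasRpush f] (hf : DCoh.RpushPreservesQCoh f)
    {a : DCoh.DQCoh Y ⥤ DCoh.DQCoh X} (adj : DCoh.RpushQ f hf ⊣ a) (O : DCoh.DQCoh Y)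
    (hO : Nonempty (O.obj ≅ DCoh.inD Y (Coh.structureModule Y))) (i : ℤ) (hi : 0 < i) :
    IsZero (DCoh.HD ((DCoh.RpushQ f hf).obj (a.obj O)).obj i) := by
  haveI : CompactSpace X := QuasiCompact.compactSpace_of_compactSpace f
  haveI : QuasiSeparatedSpace X := quasiSeparatedSpace_of_quasiSeparated f
  obtain ⟨eO⟩ := hO
  let E := DerivedCategory.Q.obj (unitCx X)
  have hE : DCoh.IsPerfect E := isPerfect_of_iso (isPerfect_unit X) (unitCxQIso X).symm
  let Q := (RR f).obj E
  have hQ : DCoh.IsPerfect Q := TorBC25.isPerfect_RR f hE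
  have hQq : DCoh.IsQCohD Q := isQCohD_of_isPerfect hQ
  have hamp : ∀ x, RelAmp22.AmpAt f 0 0 E x := fun x =>
    (RelAmp22.flatOverAt_iff_amp f (Coh.structureModule X) x).1
      (RelAmp22.flatOver_of_flat f (flat_structureModule X) x)
  obtain ⟨b, hab, hb⟩ := RpushPerf25.exists_bound_ltensor f (unitCx X) (c := 0)
    (fun j hj => HomologicalComplex.isZero_single_obj_X _ _ _ _ (by omega))
    (fun j => by
      rcases eq_or_ne j 0 with h | h
      · subst h
        exact flat_of_iso (HomologicalComplex.singleObjXSelf (ComplexShape.up ℤ) 0 _).symm (flat_structureModule X)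
      · exact flat_of_isZero (HomologicalComplex.isZero_single_obj_X _ _ _ _ h))
    (isQCohD_of_isPerfect hE) hamp
  have ht : DCoh.HasTorAmplitudeIn 0 b Q :=
    (Groth.Agent.S1073.result Y Q hQq 0 b hab).2 fun F hF _ j hj =>
      (hb F hF j hj).of_iso ((DerivedCategory.homologyFunctor _ j).mapIso
        ((DCoh.LTensorMod F).mapIso ((rpushIsoRres f).app E).symm))
  have hpa := KSix19.perfectAmplitude_of_flatAmplitude hab
    (hasFlatAmplitudeIn_of_tor (fun G => hasLTensorMod G) hab ht) (isPseudoCoherentD_of_isPerfect hQ _)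
  choose V hxV hV using hpa
  let F₀ := DerivedCategory.Q.objPreimage Q
  let eF : DerivedCategory.Q.obj F₀ ≅ Q := DerivedCategory.Q.objObjPreimageIso Q
  let M := ((DCoh.RpushQ f hf).obj (a.obj O)).obj
  refine (isLocGen_genF (X := Y)).isZero_homology fun U φ => ?_
  refine SiteDer.Locally.trans_family (fun V' V'' f' b hf' => ?_)
    (ι := {W : Y.Opens // (IsAffineOpen W ∧ ∃ x, W ≤ V x) ∧ W ≤ U}) (fun W => homOfLE W.2.2) ?_
    fun W => SiteDer.Locally.of_forall fun T b' => ?_
  · rw [Functor.map_comp, Functor.map_comp, Category.assoc, hf', comp_zero]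
  · intro x hx
    obtain ⟨W, hW, hxW, hWV⟩ := exists_isAffineOpen_mem_and_subset (x := x) (U := V x ⊓ U) ⟨hxV x, hx⟩
    exact ⟨W, homOfLE (hWV.trans inf_le_right), Sieve.ofArrows_mk
      (fun W : {W : Y.Opens // (IsAffineOpen W ∧ ∃ x, W ≤ V x) ∧ W ≤ U} => W.1)
      (fun W => homOfLE W.2.2) ⟨W, ⟨hW, x, hWV.trans inf_le_left⟩, hWV.trans inf_le_right⟩, hxW⟩
  rw [Functor.map_comp, Functor.map_comp, Category.assoc]
  obtain ⟨⟨W, ⟨hW, x, hWV⟩, hWU⟩, rfl⟩ : ∃ W', W' = W := ⟨W, rfl⟩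
  suffices h : ∀ ψ : (DerivedCategory.singleFunctor Y.Modules i).obj ((genF Y).obj W) ⟶ M, ψ = 0 by
    rw [h ((DerivedCategory.singleFunctor Y.Modules i).map ((genF Y).map (homOfLE hWU)) ≫ φ), comp_zero]
  intro ψ
  haveI : IsAffine (W : Scheme.{u}) := hW
  haveI : CompactSpace (W : Scheme.{u}) := isCompact_iff_compactSpace.1 hW.isCompact
  haveI : QuasiCompact W.ι := quasiCompact_of_compactSpace W.ι
  -- the strict model on `W`
  obtain ⟨Es, hEs, hEl, ⟨q⟩⟩ := hV x F₀ ⟨eF⟩
  let k := Y.homOfLE hWV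
  have hk : k ≫ (V x).ι = W.ι := Scheme.homOfLE_ι _ _
  let E' := (resCx k).obj Es
  let eq : DerivedCategory.Q.obj E' ≅ (resD W.ι).obj Q :=
    ((resDFac k).app Es).symm ≪≫ (resD k).mapIso (q.symm ≪≫ ((resDFac (V x).ι).app F₀).symm ≪≫
      (resD (V x).ι).mapIso eF) ≪≫ (nonempty_resD_comp k (V x).ι Q).some.symm ≪≫ (nonempty_resD_congr hk Q).some
  let L := (resD W.ι).obj O.obj
  haveI : O.obj.IsLE 0 := DerivedCategory.TStructure.t.isLE_of_iso eO.symm 0
  haveI : L.IsLE 0 := (DerivedCategory.isLE_iff L 0).2 fun j hj =>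
    ((Scheme.Modules.restrictFunctor W.ι).map_isZero (DerivedCategory.isZero_of_isLE O.obj 0 j hj)).of_iso
      (HDResIso W.ι O.obj j)
  haveI : (L⟦i⟧).IsLE (-i) := DerivedCategory.TStructure.t.isLE_shift L 0 i (-i) (by omega)
  have hz : ∀ χ : ((resD W.ι).obj Q)⟦-i⟧ ⟶ L, χ = 0 := fun χ => by
    refine eq_zero_of_shiftAdj (-i) χ ?_
    haveI : (L⟦- -i⟧).IsLE (-i) := DerivedCategory.TStructure.t.isLE_shift L 0 (- -i) (-i) (by omega)
    rw [← cancel_epi eq.hom, comp_zero]
    exact eq_zero_strict (isQCohD_shift (isQCohD_resD W.ι O.property) _) (-i) (by omega) (b + 1).toNat 0 E' le_rfl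
      (fun j hj => (Scheme.Modules.restrictFunctor k).map_isZero (hEs j (by omega)))
      (fun j => isFinLocFree_restrict k (hEl j)) _
  -- transposition
  let j := (f ⁻¹ᵁ W).ι
  let M₀ : DCoh.DQCoh X := ⟨E⟦-i⟧, isQCohD_shift (isQCohD_of_isPerfect hE) _⟩
  have hsa := isIso_resD_map_locUnit W adj
    (fun J => RightAdj22.preservesColimitsOfShape adj (fun P hP =>
      isPerfect_of_iso (TorBC25.isPerfect_RR f hP) ((rpushIsoRres f).app P.obj).symm) J) O
  let eR : (RR (f ∣_ W)).obj ((resD j).obj (E⟦-i⟧)) ≅ ((resD W.ι).obj Q)⟦-i⟧ :=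
    ((resDRRBaseChange f W).app (E⟦-i⟧)).symm ≪≫ (resD W.ι).mapIso (((RR f).commShiftIso (-i)).app E) ≪≫
      ((resD W.ι).commShiftIso (-i)).app Q
  have hy : ∀ y : (resD j).obj M₀.obj ⟶ (resD j).obj (a.obj O).obj, y = 0 := fun y => by
    refine (bijective_transp_counit_of_isIso W adj O hsa M₀).1 ?_
    have h0 : ∀ t : (resD W.ι).obj ((DCoh.Rpush f).obj M₀.obj) ⟶ L, t = 0 := fun t => by
      let e0 : ((resD W.ι).obj Q)⟦-i⟧ ≅ (resD W.ι).obj ((DCoh.Rpush f).obj M₀.obj) :=
        eR.symm ≪≫ ((betaR f W).app M₀.obj).symm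
      rw [← cancel_epi e0.hom, comp_zero]
      exact hz _
    exact (h0 _).trans (h0 _).symm
  -- transfer
  let r := (rpushIsoRres f).app (a.obj O).obj
  rw [← cancel_mono r.hom, zero_comp]
  apply (SiteDer.pushHomEquiv (rmor f) W i (a.obj O).obj).injective
  suffices hz' : ∀ z : (DerivedCategory.singleFunctor X.Modules i).obj ((genF X).obj (f ⁻¹ᵁ W)) ⟶ (a.obj O).obj,
      z = 0 from (hz' _).trans (hz' _).symm
  intro z
  let g : (f ⁻¹ᵁ W : X.Opens).toScheme.Modules := (genF _).obj ⊤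
  let e : (CxOX.extZeroD j).obj ((DerivedCategory.singleFunctor (f ⁻¹ᵁ W : Scheme.{u}).Modules i).obj
      ((genF (f ⁻¹ᵁ W : Scheme.{u})).obj ⊤)) ≅ (DerivedCategory.singleFunctor X.Modules i).obj ((genF X).obj (f ⁻¹ᵁ W)) :=
    ((CxOX.extZero j).mapDerivedCategorySingleFunctor i).app _ ≪≫
      (DerivedCategory.singleFunctor X.Modules i).mapIso ((extZeroGenIso j).symm ≪≫
        eqToIso (by rw [Scheme.Hom.image_top_eq_opensRange, Scheme.Opens.opensRange_ι]))
  rw [← cancel_epi e.hom, comp_zero]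
  apply ((extZeroDAdj j).homEquiv _ _).injective
  let S : (DerivedCategory.singleFunctor (f ⁻¹ᵁ W : Scheme.{u}).Modules i).obj
      ((genF (f ⁻¹ᵁ W : Scheme.{u})).obj ⊤) ≅ (resD j).obj M₀.obj :=
    ((DerivedCategory.singleFunctors _).shiftIso (-i) i 0 (by omega)).symm.app _ ≪≫
      (shiftFunctor _ (-i)).mapIso ((DerivedCategory.singleFunctor _ 0).mapIso (genTopIso _) ≪≫
        (unitCxQIso _).symm ≪≫ (resUnitCxIso j).symm) ≪≫ (((resD j).commShiftIso (-i)).app E).symm
  rw [← cancel_epi S.inv]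
  exact (hy _).trans (hy _).symm

end GrothLib.ShriekBridge22.PosVanish
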