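import Groth.Agent.Lib.ShriekBridge22.SelfHom
import Groth.Agent.Lib.ShriekBridge22.Stalks
import Groth.Agent.Lib.ShriekBridge22.Fibre
import Groth.Agent.Lib.RelAmp22.Charts
import Groth.Agent.Lib.DualRing.ShriekRel
import Groth.Agent.Lib.DualRing.ShriekRelProps

/-! # `f^!O` of a flat morphism is relatively perfect and has trivial internal endomorphisms -/

set_option autoImplicit false
set_option linter.style.haveILetI false
set_option maxHeartbeats 1000000
universe u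

open CategoryTheory CategoryTheory.Limits AlgebraicGeometry GrothLib.OX

attribute [local instance] HasDerivedCategory.standard
attribute [local instance] GrothLib.DualRing.Shriek.pfl_of_flat

namespace GrothLib.ShriekBridge22

variable {X Y : Scheme.{u}} (f : X ⟶ Y) [AlgebraicGeometry.IsNoetherian Y] [LocallyOfFiniteType f] [Flat f]
  (c : DEt.Compactification f) [DCoh.HasRpush c.fbar]
  (hc : DCoh.RpushPreservesQCoh c.fbar) {a : DCoh.DQCoh Y ⥤ DCoh.DQCoh c.Xbar}
  (adj : DCoh.RpushQ c.fbar hc ⊣ a) [PreservesFiniteLimits (Scheme.Modules.restrictFunctor c.j)]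
  (O : DCoh.DQCoh Y) (hO : Nonempty (O.obj ≅ DCoh.inD Y (Coh.structureModule Y)))

include adj hO in
/-- `f^!O` is relatively perfect. -/
theorem relPerf_shriekC : RelAmp22.RelPerf f ((Dual3.shriekC c a).obj O) := by
  haveI : ∀ R : CommRingCat.{u}, PreservesFiniteLimits (tilde.functor R) := OX.preservesFiniteLimits_tildeGen
  refine RelAmp22.relPerf_of_charts (f := f) fun x => ?_
  obtain ⟨U, hU, V, hV, hUV, hx⟩ := exists_affine_nhds f x
  letI := (f.appLE V U hUV).hom.toAlgebra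
  obtain ⟨_, hft, _, n, ψ, hψ⟩ := exists_chart_pres f U hU V hV hUV
  haveI : Module.Flat Γ(Y, V) Γ(X, U) := f.flat_appLE hV hU hUV
  haveI : Algebra.FinitePresentation Γ(Y, V) Γ(X, U) := Algebra.FinitePresentation.of_finiteType.1 hft
  obtain ⟨ec⟩ := nonempty_shriekC_O c hc adj O hO U hU V hV hUV ψ hψ
  exact ⟨U, hU, hx, RelAmp22.amp_of_chart (f := f) hU hV hUV _ ec (DualRing.Shriek.isRelPerfect_GP ψ hψ)⟩

include adj hO in
/-- `O → RHom(f^!O, f^!O)` is invertible. -/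
theorem isIso_transpose_shriekC (E : CochainComplex X.Modules ℤ)
    (hE : Nonempty (DCoh.toD X E ≅ (Dual3.shriekC c a).obj O)) [DCoh.HasLTensorCx E] [DCoh.HasRSheafHom E]
    (υ : (DCoh.LTensorCx E).obj (DCoh.inD X (Coh.structureModule X)) ≅ DCoh.toD X E) :
    IsIso (((DCoh.RSheafHomAdj E).homEquiv (DCoh.inD X (Coh.structureModule X)) (DCoh.toD X E)) υ.hom) := by
  haveI : ∀ R : CommRingCat.{u}, PreservesFiniteLimits (tilde.functor R) := OX.preservesFiniteLimits_tildeGen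
  obtain ⟨eE⟩ := hE
  refine isIso_transpose E υ (fun W => IsAffineOpen W ∧ ∃ V : Y.Opens, IsAffineOpen V ∧ W ≤ f ⁻¹ᵁ V)
    (fun T x hx => ?_) fun W hW => ?_
  · obtain ⟨V, hV, hxV, -⟩ := exists_isAffineOpen_mem_and_subset (x := f x) (U := ⊤) trivial
    obtain ⟨W, hW, hxW, hWT⟩ := exists_isAffineOpen_mem_and_subset (x := x) (U := T ⊓ f ⁻¹ᵁ V) ⟨hx, hxV⟩
    exact ⟨W, ⟨hW, V, hV, hWT.trans Set.inter_subset_right⟩, hxW, hWT.trans Set.inter_subset_left⟩
  · obtain ⟨hWa, V, hV, hWV⟩ := hW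
    letI := (f.appLE V W hWV).hom.toAlgebra
    obtain ⟨_, hft, _, n, ψ, hψ⟩ := exists_chart_pres f W hWa V hV hWV
    haveI : Module.Flat Γ(Y, V) Γ(X, W) := f.flat_appLE hV hWa hWV
    haveI : Algebra.FinitePresentation Γ(Y, V) Γ(X, W) := Algebra.FinitePresentation.of_finiteType.1 hft
    obtain ⟨ec⟩ := nonempty_shriekC_O c hc adj O hO W hWa V hV hWV ψ hψ
    obtain ⟨h1, h2⟩ := DualRing.Shriek.simple_GP (R := Γ(Y, V)) ψ hψ
    exact ⟨hWa, _, h1, h2, ⟨(resD hWa.fromSpec).mapIso eE ≪≫ ec⟩⟩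

end GrothLib.ShriekBridge22
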