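import Groth.Agent.Lib.ShriekBridge22.Stalks
import Groth.Agent.Lib.DualRing.SchemeCover
import Groth.Agent.Lib.DualRing.ShriekFinite
import Groth.Agent.Lib.DCxKFlat.LBaseKFlat
import Groth.Agent.Lib.DCxRing.FromSingle
import Groth.Agent.S1782

/-! # `f^!` of a dualizing complex is dualizing -/

set_option autoImplicit false
set_option maxHeartbeats 1000000
set_option linter.style.haveILetI false
universe u

open CategoryTheory CategoryTheory.Limits AlgebraicGeometry GrothLib.OX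

attribute [local instance] HasDerivedCategory.standard
attribute [local instance] GrothLib.DualRing.Shriek.pfl_of_flat

noncomputable section

namespace GrothLib.ShriekBridge22

theorem isDualizing_GP {R A : Type u} [CommRing R] [CommRing A] [IsNoetherianRing R] [IsNoetherianRing A]
    [Algebra R A] {n : ℕ} (ψ : MvPolynomial (Fin n) R →ₐ[R] A) (hψ : Function.Surjective ψ) {ω : Dual.D R}
    (hω : Dual.IsDualizing R ω) : Dual.IsDualizing A (DualRing.Shriek.GP ψ ω) := by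
  haveI := GrothLib.KF.hasLBaseChange (algebraMap R (MvPolynomial (Fin n) R))
  obtain ⟨e⟩ := DualRing.Shriek.nonempty_shriekVia ψ (DualRing.Shriek.RA ψ.toRingHom)
    (DualRing.Shriek.radj ψ.toRingHom) ω
  exact GrothLib.DualCx22.isDualizing_of_iso e
    (Groth.Agent.S1782.result R A n ψ hψ (DualRing.Shriek.RA ψ.toRingHom) (DualRing.Shriek.radj ψ.toRingHom) ω hω)

variable {X Y : Scheme.{u}}
  [∀ (U : Scheme.{u}) (j : U ⟶ X) [IsOpenImmersion j], PreservesFiniteLimits (Scheme.Modules.restrictFunctor j)]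
  [∀ (U : Scheme.{u}) (j : U ⟶ Y) [IsOpenImmersion j], PreservesFiniteLimits (Scheme.Modules.restrictFunctor j)]
  [∀ R : CommRingCat.{u}, PreservesFiniteLimits (tilde.functor R)]

/-- A dualizing complex on a Noetherian scheme is bounded below. -/
theorem exists_isGE_of_isDualizingSch [CompactSpace Y] {K : DCoh.D Y} (hKq : DCoh.IsQCohD K)
    (hK : Dual2.IsDualizingSch Y K) : ∃ c : ℤ, K.IsGE c := by
  have h : ∀ y : Y, ∃ (U : Y.Opens) (hU : IsAffineOpen U) (ω : Dual.D Γ(Y, U)) (c : ℤ), y ∈ U ∧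
      Nonempty ((resD hU.fromSpec).obj K ≅ (DCoh.tildeD Γ(Y, U)).obj ω) ∧
      ∀ i, i < c → Subsingleton (Dual.HD Γ(Y, U) ω i) := fun y => by
    obtain ⟨U, hU, hy, -⟩ := exists_isAffineOpen_mem_and_subset (x := y) (U := ⊤) trivial
    obtain ⟨ω, hω, he⟩ := hK Γ(Y, U) (IsAffineOpen.fromSpec hU)
    obtain ⟨a, b, hab⟩ := hω.finite_injective_dimension
    exact ⟨U, hU, ω, a, hy, he, fun i hi =>
      GrothLib.DR.subsingleton_HD_of_hom_ring ω i (hab Γ(Y, U) i (Or.inl hi))⟩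
  choose U hU ω c hy he hc using h
  obtain ⟨t, ht⟩ := isCompact_univ.elim_finite_subcover (fun y => (U y : Set Y)) (fun y => (U y).isOpen)
    fun y _ => Set.mem_iUnion.2 ⟨y, hy y⟩
  obtain ⟨lo, hlo⟩ := (t.image c).bddBelow
  refine ⟨lo, (DerivedCategory.isGE_iff _ _).2 fun i hi => isZero_HD_of_subsingleton hKq i fun x => ?_⟩
  obtain ⟨z, hz, hxz⟩ := Set.mem_iUnion₂.1 (ht (Set.mem_univ x))
  exact ⟨U z, hU z, ω z, hxz, he z, hc z i (lt_of_lt_of_le hi (hlo (Finset.mem_image_of_mem c hz)))⟩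

variable [AlgebraicGeometry.IsNoetherian Y] [IsLocallyNoetherian X]

/-- **`f^!` preserves dualizing complexes.** -/
theorem isDualizingSch_shB {W : Scheme.{u}} (j : X ⟶ W) (p : W ⟶ Y) [IsOpenImmersion j] [IsProper p]
    [LocallyOfFiniteType (j ≫ p)] (K : RightAdj22.BQ Y) (hK : Dual2.IsDualizingSch Y K.obj.obj) :
    Dual2.IsDualizingSch X ((RightAdj22.shB j p).obj K).obj.obj := by
  refine DualRing.isDualizingSch_of_dualCharts fun x => ?_
  obtain ⟨A, B, _, _, _, n, ψ, hψ, iA, _, jB, _, w, hx⟩ := exists_ft_chart (j ≫ p) x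
  obtain ⟨ω, hω, ⟨e⟩⟩ := hK A iA
  obtain ⟨r⟩ := nonempty_shB_chart j p rfl iA jB w ψ hψ K ω e
  haveI : IsNoetherianRing A := hω.isNoetherianRing
  haveI : Algebra.FiniteType A B := Algebra.FiniteType.of_surjective ψ hψ
  haveI : IsNoetherianRing B := Algebra.FiniteType.isNoetherianRing A B
  exact ⟨B, inferInstance, jB, inferInstance, hx, _, isDualizing_GP ψ hψ hω, ⟨r⟩⟩

/-- A right adjoint of a proper direct image preserves dualizing complexes. -/
theorem isDualizingSch_adjoint (f : X ⟶ Y) [IsProper f] [DCoh.HasRpush f] (hf : DCoh.RpushPreservesQCoh f)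
    {a : DCoh.DQCoh Y ⥤ DCoh.DQCoh X} (adj : DCoh.RpushQ f hf ⊣ a) (K : DCoh.DQCoh Y)
    (hK : Dual2.IsDualizingSch Y K.obj) : Dual2.IsDualizingSch X (a.obj K).obj := by
  obtain ⟨c, hc⟩ := exists_isGE_of_isDualizingSch K.property hK
  haveI : LocallyOfFiniteType (𝟙 X ≫ f) := by rw [Category.id_comp]; infer_instance
  have h := isDualizingSch_shB (𝟙 X) f (⟨K, c, hc⟩ : RightAdj22.BQ Y) hK
  let e : ((RightAdj22.shB (𝟙 X) f).obj (⟨K, c, hc⟩ : RightAdj22.BQ Y)).obj.obj ≅ (a.obj K).obj :=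
    (RightAdj22.resDIdIso X).app _ ≪≫ (ObjectProperty.ι _).mapIso ((RightAdj22.aQUniq f hf adj).app K).symm
  intro A _ j _
  obtain ⟨ω, hω, ⟨r⟩⟩ := h A j
  exact ⟨ω, hω, ⟨(resD j).mapIso e.symm ≪≫ r⟩⟩

end GrothLib.ShriekBridge22
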