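import Groth.Agent.Lib.ShriekBridge22.Dualizing
import Groth.Agent.Lib.DualRing.RelNormalized
import Groth.Agent.Lib.SkExt.Equidim
import Groth.Agent.Lib.Dim.Scheme
import Groth.Agent.Lib.RelDual22.Main
import Groth.Agent.S11185

/-! # The dualizing complex of an algebra of finite type over a field -/

set_option autoImplicit false
set_option maxHeartbeats 1000000
set_option linter.style.haveILetI false
universe u

open CategoryTheory CategoryTheory.Limits GrothLib.DualCx22

attribute [local instance] HasDerivedCategory.standard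
attribute [local instance] GrothLib.DualRing.Shriek.pfl_of_flat

noncomputable section

namespace GrothLib.ShriekBridge22

open GrothLib.DualRing GrothLib.DualRing.Shriek GrothLib.SkExt

variable (k : Type u) [Field k]

theorem isDualizing_field : Dual.IsDualizing k (Dual.inD k k) := by
  refine Groth.Agent.S11185.result k (fun p => ?_) ?_
  · have hp : p.asIdeal = ⊥ := (Ideal.eq_bot_or_top p.asIdeal).resolve_right p.2.ne_top
    haveI : IsField (Localization.AtPrime p.asIdeal) → IsRegularLocalRing (Localization.AtPrime p.asIdeal) :=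
      fun h => by letI := h.toField; infer_instance
    refine this ((IsLocalization.atUnits k p.asIdeal.primeCompl (S := Localization.AtPrime p.asIdeal) (fun x hx => by
      refine isUnit_iff_ne_zero.2 fun h0 => hx (by rw [h0]; exact zero_mem _))).symm.toMulEquiv.isField (Field.toIsField k))
  · rw [ringKrullDim_eq_zero_of_field]; exact WithBot.coe_lt_coe.2 (ENat.coe_lt_top 0)

theorem isNormalized_field : Dual.IsNormalized k (Dual.inD k k) := fun i hi => by
  haveI := GrothLib.RelDual22.subsingleton_inD_shift (A := k) i hi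
  let e : k ≃ₗ[k] IsLocalRing.ResidueField k := LinearEquiv.ofBijective (Algebra.linearMap k (IsLocalRing.ResidueField k))
    ⟨(algebraMap k (IsLocalRing.ResidueField k)).injective, Ideal.Quotient.mk_surjective⟩
  exact (Iso.homCongr ((DerivedCategory.singleFunctor (ModuleCat.{u} k) 0).mapIso e.toModuleIso)
    (Iso.refl ((Dual.inD k k)⟦i⟧))).symm.subsingleton

variable {k} {B : Type u} [CommRing B] [Algebra k B] {n : ℕ} (ψ : MvPolynomial (Fin n) k →ₐ[k] B)

/-- The dualizing complex of `B` is normalized at every maximal ideal. -/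
theorem subsingleton_max (hψ : Function.Surjective ψ) (m : Ideal B) [m.IsMaximal] (i : ℤ) (hi : i ≠ 0) :
    Subsingleton (Dual.inD B (B ⧸ m) ⟶ (GP ψ (Dual.inD k k))⟦i⟧) := by
  let P := MvPolynomial (Fin n) k
  let φ := ψ.toRingHom
  let M := m.comap φ
  haveI : M.IsMaximal := Ideal.comap_isMaximal_of_surjective φ hψ
  haveI : PreservesFiniteLimits (bcMod (A := k) (MvPolynomial (Fin n) k)) := pfl_of_flat k
  have hM : M.comap (algebraMap k P) = IsLocalRing.maximalIdeal k :=
    ((Ideal.eq_bot_or_top _).resolve_right (Ideal.comap_ne_top _ (Ideal.IsMaximal.ne_top ‹_›))).trans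
      ((Ideal.eq_bot_or_top _).resolve_right (IsLocalRing.maximalIdeal.isMaximal k).ne_top).symm
  have hs : Subsingleton (EH ((extD (algebraMap k P)).obj (Dual.inD k k)) (Dual.inD P (P ⧸ M)) ((n : ℤ) + i)) :=
    subsingleton_residue_mvPolynomial (isDualizing_field k) (isNormalized_field k) n M hM _ (by omega)
  let X := (extD (algebraMap k P)).obj (Dual.inD k k)
  obtain ⟨e₁⟩ := nonempty_RA_shift φ X ((n : ℤ) + i)
  let t : (GP ψ (Dual.inD k k))⟦i⟧ ≅ (RA φ).obj (X⟦(n : ℤ) + i⟧) :=
    ((shiftFunctorAdd (Dual.D B) (n : ℤ) i).app _).symm ≪≫ e₁.symm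
  letI : Module P (B ⧸ m) := Module.compHom _ φ
  let g : (P ⧸ M) ≃ₗ[P] (B ⧸ m) :=
    LinearEquiv.ofBijective
      (Submodule.liftQ M
        { toFun := fun x => Ideal.Quotient.mk m (φ x)
          map_add' := fun x y => by rw [map_add, map_add]
          map_smul' := fun x y => by
            simp only [smul_eq_mul, map_mul, RingHom.id_apply]; rfl }
        fun x hx => Ideal.Quotient.eq_zero_iff_mem.2 hx)
      ⟨(injective_iff_map_eq_zero _).2 fun x hx => by
          obtain ⟨x, rfl⟩ := Submodule.mkQ_surjective _ x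
          exact (Submodule.Quotient.mk_eq_zero _).2 ((Ideal.Quotient.eq_zero_iff_mem (I := m)).1 hx),
        fun y => by
          obtain ⟨b, rfl⟩ := Ideal.Quotient.mk_surjective y
          obtain ⟨x, rfl⟩ := hψ b
          exact ⟨Submodule.Quotient.mk x, rfl⟩⟩
  let s : Dual.inD P (P ⧸ M) ≅ (DRing.restrictD φ).obj (Dual.inD B (B ⧸ m)) :=
    (DerivedCategory.singleFunctor (ModuleCat.{u} P) 0).mapIso g.toModuleIso ≪≫
      (((ModuleCat.restrictScalars.{u} φ).mapDerivedCategorySingleFunctor 0).app (ModuleCat.of B (B ⧸ m))).symm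
  haveI := hs
  exact ((Iso.homCongr (Iso.refl _) t).trans (((radj φ).homEquiv _ _).symm.trans
    (Iso.homCongr s.symm (Iso.refl (X⟦(n : ℤ) + i⟧))))).subsingleton

variable [IsNoetherianRing B]

include ψ in
/-- Degrees and supports of the dualizing complex. -/
theorem support_bounds (hψ : Function.Surjective ψ) (i : ℤ) (q : PrimeSpectrum B)
    (hq : q ∈ Module.support B (Dual.HD B (GP ψ (Dual.inD k k)) i)) :
    i ≤ 0 ∧ ringKrullDim (B ⧸ q.asIdeal) ≤ ((-i).toNat : WithBot ℕ∞) ∧
      (((-i).toNat : ℕ) : WithBot ℕ∞) ≤ ringKrullDim B := by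
  haveI : IsNoetherianRing k := inferInstance
  have hω := isDualizing_GP ψ hψ (isDualizing_field k)
  have hmax : ∀ (m : Ideal B) [m.IsMaximal], deg hω m = 0 := fun m _ => by
    by_contra hne
    haveI := subsingleton_max ψ hψ m _ hne
    exact one_ne_zero ((mu_deg hω m).symm.trans len_eq_zero_of_subsingleton)
  rw [← (exists_hom_ring_equiv (GP ψ (Dual.inD k k)) i).some.support_eq] at hq
  obtain ⟨r, hr, hrq, -, h1, h2⟩ := exists_quotient_bounds hω B
    ((nontrivial_localized_iff q.asIdeal _).1 (Module.mem_support_iff.1 hq))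
  have h3 : deg hω q.asIdeal ≤ 0 := deg_nonpos_of_max hω hmax q
  haveI := hr
  refine ⟨by omega, ?_, ?_⟩
  · rw [ringKrullDim_quotient_of_max hω hmax q.asIdeal]
    exact_mod_cast (show (-deg hω q.asIdeal).toNat ≤ (-i).toNat by omega)
  · refine le_trans ?_ (ringKrullDim_quotient_le r)
    rw [ringKrullDim_quotient_of_max hω hmax r]
    exact_mod_cast (show (-i).toNat ≤ (-deg hω r).toNat by omega)

include ψ in
theorem supportDim_HD_le (hψ : Function.Surjective ψ) (i : ℤ) :
    Module.supportDim B (Dual.HD B (GP ψ (Dual.inD k k)) i) ≤ ((-i).toNat : WithBot ℕ∞) := by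
  have hω := isDualizing_GP ψ hψ (isDualizing_field k)
  have hmax : ∀ (m : Ideal B) [m.IsMaximal], deg hω m = 0 := fun m _ => by
    by_contra hne
    haveI := subsingleton_max ψ hψ m _ hne
    exact one_ne_zero ((mu_deg hω m).symm.trans len_eq_zero_of_subsingleton)
  refine supportDim_le_of_max hω hmax _ _ fun p hp => ?_
  have h := (support_bounds ψ hψ i p hp).2.1
  rw [ringKrullDim_quotient_of_max hω hmax p.asIdeal] at h
  exact_mod_cast h

end GrothLib.ShriekBridge22
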