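import Groth.Agent.Lib.ShriekBridge22.Amp
import Groth.Agent.Lib.DualRing.ShriekRelProps

/-! # `f^! O` in one degree -/

set_option autoImplicit false
set_option maxHeartbeats 1000000
set_option linter.style.haveILetI false
universe u

open CategoryTheory CategoryTheory.Limits AlgebraicGeometry GrothLib.OX

attribute [local instance] HasDerivedCategory.standard

noncomputable section

namespace GrothLib.ShriekBridge22

open GrothLib.RelAmp22

variable {X Y : Scheme.{u}} (f : X ⟶ Y)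

/-- An object of relative amplitude `[m, m]` over a flat morphism is a flat module in degree `m`. -/
theorem flat_oneDeg_of_amp [Flat f] {m : ℤ} {K : DCoh.D X} (h : ∀ x, AmpAt f m m K x) :
    (∀ i : ℤ, i ≠ m → IsZero (DCoh.HD K i)) ∧ FlatMod.IsFlatOver f (DCoh.HD K m) := by
  obtain ⟨E, hE, hfl, ⟨e⟩⟩ := relFlat_of_amp f le_rfl h
  let eH : ∀ i, DCoh.HD K i ≅ E.homology i := fun i =>
    (DerivedCategory.homologyFunctor _ i).mapIso e.symm ≪≫ hdIso E i
  refine ⟨fun i hi => (HomologicalComplex.exactAt_iff_isZero_homology _ _).1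
    (HomologicalComplex.ExactAt.of_isZero (hE i (by omega))) |>.of_iso (eH i), fun x => ?_⟩
  have hc : IsIso (E.homologyπ m) :=
    E.isIso_homologyπ (m - 1) m (by simp) ((hE (m - 1) (by omega)).eq_of_src _ _)
  have hz : IsIso (E.iCycles m) :=
    E.isIso_iCycles m (m + 1) (by simp) ((hE (m + 1) (by omega)).eq_of_tgt _ _)
  let e' : DCoh.HD K m ≅ E.X m := eH m ≪≫ (asIso (E.homologyπ m)).symm ≪≫ asIso (E.iCycles m)
  exact (flatOver_iff_relStalk f _ x).2
    (GrothLib.OX.flat_of_modIso ((relStalk f x).mapIso e'.symm) ((flatOver_iff_relStalk f _ x).1 (hfl m x)))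

variable [AlgebraicGeometry.IsNoetherian Y] [LocallyOfFiniteType f] [Flat f]
    [∀ R : CommRingCat.{u}, PreservesFiniteLimits (tilde.functor R)]
    (c : DEt.Compactification f) [DCoh.HasRpush c.fbar]
    (hc : DCoh.RpushPreservesQCoh c.fbar) {a : DCoh.DQCoh Y ⥤ DCoh.DQCoh c.Xbar}
    (adj : DCoh.RpushQ c.fbar hc ⊣ a) [PreservesFiniteLimits (Scheme.Modules.restrictFunctor c.j)]
    (O : DCoh.DQCoh Y) (hO : Nonempty (O.obj ≅ DCoh.inD Y (Coh.structureModule Y)))

include adj hO in
theorem isCoh_HD_shriekC_O (i : ℤ) : Coh.IsCoh (DCoh.HD ((Dual3.shriekC c a).obj O) i) := by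
  refine isCoh_HD_of_finite i fun x => ?_
  obtain ⟨U, hU, V, hV, hUV, hx⟩ := exists_affine_nhds f x
  letI := (f.appLE V U hUV).hom.toAlgebra
  obtain ⟨_, hft, _, n, ψ, hψ⟩ := exists_chart_pres f U hU V hV hUV
  haveI : Module.Flat Γ(Y, V) Γ(X, U) := f.flat_appLE hV hU hUV
  haveI : Algebra.FinitePresentation Γ(Y, V) Γ(X, U) := Algebra.FinitePresentation.of_finiteType.1 hft
  exact ⟨U, hU, _, hx, nonempty_shriekC_O c hc adj O hO U hU V hV hUV ψ hψ,
    (DualRing.Shriek.props_GP ψ hψ).2.1 i⟩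

end GrothLib.ShriekBridge22
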