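import Groth.Agent.Lib.ShriekBridge22.Stalks
import Groth.Agent.Lib.DualRing.SchemeGor
import Groth.Agent.Lib.DualRing.LCIInvertible

/-! # Invertibility of `f^! O` on charts -/

set_option autoImplicit false
set_option maxHeartbeats 1000000
set_option linter.style.haveILetI false
universe u

open CategoryTheory CategoryTheory.Limits AlgebraicGeometry GrothLib.OX

attribute [local instance] HasDerivedCategory.standard

noncomputable section

namespace GrothLib.ShriekBridge22

variable {X : Scheme.{u}} [∀ R : CommRingCat.{u}, PreservesFiniteLimits (tilde.functor R)]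

/-- An object free on a basic open of a chart is invertible there. -/
theorem exists_opens_iso_of_away {K : DCoh.D X} {A : Type u} [CommRing A]
    (j : Spec (CommRingCat.of A) ⟶ X) [IsOpenImmersion j] (ω : Dual.D A)
    (e : (resD j).obj K ≅ (DCoh.tildeD (CommRingCat.of A)).obj ω) (f : A) (m : ℤ)
    [PreservesFiniteLimits (DualCx22.bcMod (A := A) (Localization.Away f))]
    (e' : (DualCx22.bcD (A := A) (Localization.Away f)).obj ω ≅
      (Dual.inD (Localization.Away f) (Localization.Away f))⟦m⟧)
    (q : PrimeSpectrum A) (hq : f ∉ q.asIdeal) :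
    ∃ U : X.Opens, j q ∈ U ∧
      Nonempty ((resD U.ι).obj K ≅ (DCoh.inD (U : Scheme.{u}) (Coh.structureModule (U : Scheme.{u})))⟦m⟧) := by
  let B := Localization.Away f
  haveI : IsOpenImmersion (GrothLib.OX.specHom (algebraMap A B)) := IsOpenImmersion.of_isLocalization (R := CommRingCat.of A) f
  obtain ⟨c⟩ := DualRing.nonempty_resD_tildeD_bcD (B := B) ω
  let s := GrothLib.OX.specHom (algebraMap A B)
  let u : (resD (s ≫ j)).obj K ≅ (DCoh.inD (Spec (CommRingCat.of B)) (Coh.structureModule (Spec (CommRingCat.of B))))⟦m⟧ :=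
    ((resDCompIso s j).app K).symm ≪≫ (resD s).mapIso e ≪≫ c ≪≫ (DCoh.tildeD _).mapIso e' ≪≫
      ((DCoh.tildeD (CommRingCat.of B)).commShiftIso m).app _ ≪≫
      (shiftFunctor _ m).mapIso (tildeUnitDIso (CommRingCat.of B) ≪≫ unitCxQIso _)
  obtain ⟨r⟩ := DualRing.exists_opens_iso (s ≫ j) u
  refine ⟨(s ≫ j).opensRange, ?_, ⟨r⟩⟩
  have hq' : q ∈ Set.range (PrimeSpectrum.comap (algebraMap A B)) := by
    rw [PrimeSpectrum.localization_away_comap_range B f]; exact hq
  obtain ⟨q', hq''⟩ := hq'
  exact ⟨q', by show (s ≫ j) q' = j q; rw [← hq'']; rfl⟩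

end GrothLib.ShriekBridge22
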