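import Groth.Agent.Lib.RightAdj22.Restrict
import Groth.Agent.Lib.OX.AffinePushNat
import Groth.Agent.Lib.OX.TildeD
import Groth.Agent.Lib.DualRing.ShriekIndep

/-! # The right adjoint of an affine proper morphism is coinduction -/

set_option autoImplicit false
set_option maxHeartbeats 1000000
set_option linter.style.haveILetI false
universe u

open CategoryTheory CategoryTheory.Limits AlgebraicGeometry GrothLib.OX

attribute [local instance] HasDerivedCategory.standard

noncomputable section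

namespace GrothLib.ShriekBridge22

open GrothLib.RightAdj22

/-- `M ↦ M~` into the objects with quasi-coherent cohomology. -/
abbrev tildeQ (R : CommRingCat.{u}) [PreservesFiniteLimits (tilde.functor R)] :
    Dual.D (R : Type u) ⥤ DCoh.DQCoh (Spec R) :=
  ObjectProperty.lift _ (DCoh.tildeD R) isQCohD_tildeD

theorem isEquivalence_tildeQ (R : CommRingCat.{u}) [PreservesFiniteLimits (tilde.functor R)] :
    (tildeQ R).IsEquivalence := by
  obtain ⟨hfull, hfaith, hess⟩ := tildeD_full_faithful_essImage (R := R)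
  haveI : (tildeQ R).Faithful := ⟨fun {X Y} f g h => hfaith.map_injective (congrArg (InducedCategory.Hom.hom) h : _)⟩
  haveI : (tildeQ R).Full := ⟨fun {X Y} f => by
    obtain ⟨g, hg⟩ := hfull.map_surjective f.hom
    exact ⟨g, ObjectProperty.hom_ext _ hg⟩⟩
  haveI : (tildeQ R).EssSurj := ⟨fun K => by
    obtain ⟨M, ⟨e⟩⟩ := hess K.obj K.property
    exact ⟨M, ⟨(DCoh.IsQCohD (X := Spec R)).isoMk e⟩⟩⟩
  exact {}

variable {R S : CommRingCat.{u}} (φ : R ⟶ S)

/-- **The right adjoint of `Spec S → Spec R` is coinduction.** -/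
theorem nonempty_aQ_spec [PreservesFiniteLimits (tilde.functor R)] [PreservesFiniteLimits (tilde.functor S)]
    [IsProper (Spec.map φ)] [IsNoetherian (Spec R)] (K : DCoh.DQCoh (Spec R)) (N : Dual.D (R : Type u))
    (e : K.obj ≅ (DCoh.tildeD R).obj N) :
    Nonempty (((aQ (Spec.map φ)).obj K).obj ≅ (DCoh.tildeD S).obj ((DualRing.Shriek.RA φ.hom).obj N)) := by
  haveI := isEquivalence_tildeQ R
  haveI := isEquivalence_tildeQ S
  let ER := (tildeQ R).asEquivalence
  let ES := (tildeQ S).asEquivalence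
  let sq : tildeQ S ⋙ RRQ (Spec.map φ) ≅ DRing.restrictD φ.hom ⋙ tildeQ R :=
    NatIso.ofComponents (fun M => (DCoh.IsQCohD (X := Spec R)).isoMk ((RRTildeIso φ).app M))
      fun {A B} g => ObjectProperty.hom_ext _ ((RRTildeIso φ).hom.naturality g)
  let j : ES.inverse ⋙ DRing.restrictD φ.hom ⋙ ER.functor ≅ RRQ (Spec.map φ) :=
    Functor.isoWhiskerLeft ES.inverse sq.symm ≪≫ (Functor.associator _ _ _).symm ≪≫
      Functor.isoWhiskerRight ES.counitIso (RRQ (Spec.map φ)) ≪≫ Functor.leftUnitor _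
  let ad := (ES.symm.toAdjunction.comp ((DualRing.Shriek.radj φ.hom).comp ER.toAdjunction)).ofNatIsoLeft j
  let c := ((aQAdj (Spec.map φ)).rightAdjointUniq ad).app K
  let m : ER.inverse.obj K ≅ N := ER.inverse.mapIso ((DCoh.IsQCohD (X := Spec R)).isoMk e) ≪≫
    (ER.unitIso.app N).symm
  exact ⟨(ObjectProperty.ι _).mapIso c ≪≫ (DCoh.tildeD S).mapIso ((DualRing.Shriek.RA φ.hom).mapIso m)⟩

end GrothLib.ShriekBridge22
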