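import Groth.Agent.Lib.ShriekBridge22.Fibre
import Groth.Agent.Lib.RelAmp22.Charts
import Groth.Agent.Lib.DualRing.RelAmp

/-! # Relative tor amplitude of `f^! O` for flat `f` -/

set_option autoImplicit false
set_option maxHeartbeats 1000000
set_option linter.style.haveILetI false
universe u

open CategoryTheory CategoryTheory.Limits AlgebraicGeometry GrothLib.OX

attribute [local instance] HasDerivedCategory.standard
attribute [local instance] GrothLib.DualRing.Shriek.pfl_of_flat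

noncomputable section

namespace GrothLib.ShriekBridge22

open GrothLib.RelAmp22

variable {X Y : Scheme.{u}} (f : X ⟶ Y) [AlgebraicGeometry.IsNoetherian Y] [LocallyOfFiniteType f] [Flat f]
    [∀ R : CommRingCat.{u}, PreservesFiniteLimits (tilde.functor R)]
    (c : DEt.Compactification f) [DCoh.HasRpush c.fbar]
    (hc : DCoh.RpushPreservesQCoh c.fbar) {a : DCoh.DQCoh Y ⥤ DCoh.DQCoh c.Xbar}
    (adj : DCoh.RpushQ c.fbar hc ⊣ a) [PreservesFiniteLimits (Scheme.Modules.restrictFunctor c.j)]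
    (O : DCoh.DQCoh Y) (hO : Nonempty (O.obj ≅ DCoh.inD Y (Coh.structureModule Y)))

include adj hO in
theorem ampAt_shriekC (d : ℕ) (x : X) (U : X.Opens) (hU : IsAffineOpen U) (V : Y.Opens) (hV : IsAffineOpen V)
    (hUV : U ≤ f ⁻¹ᵁ V) (hx : x ∈ U) (hd : ∀ y ∈ U, FlatMor.fibreDimAt f y ≤ (d : WithBot ℕ∞)) :
    AmpAt f (-(d : ℤ)) 0 ((Dual3.shriekC c a).obj O) x := by
  letI := (f.appLE V U hUV).hom.toAlgebra
  obtain ⟨_, hft, _, n, ψ, hψ⟩ := exists_chart_pres f U hU V hV hUV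
  haveI : Module.Flat Γ(Y, V) Γ(X, U) := f.flat_appLE hV hU hUV
  haveI : Algebra.FinitePresentation Γ(Y, V) Γ(X, U) := Algebra.FinitePresentation.of_finiteType.1 hft
  obtain ⟨ec⟩ := nonempty_shriekC_O c hc adj O hO U hU V hV hUV ψ hψ
  have hamp := DualRing.Shriek.hasTorAmplitudeIn_GP ψ hψ (d := d) fun q => by
    have hq : hU.fromSpec q ∈ U := by
      have : hU.fromSpec q ∈ Set.range hU.fromSpec := ⟨q, rfl⟩
      rwa [hU.range_fromSpec] at this
    have e : hU.primeIdealOf ⟨hU.fromSpec q, hq⟩ = q :=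
      hU.fromSpec.isOpenEmbedding.injective (hU.fromSpec_primeIdealOf ⟨hU.fromSpec q, hq⟩)
    have h := fibreDimAt_appLE f hU hV hUV (hU.fromSpec q) hq
    rw [e] at h
    exact h.le.trans (hd _ hq)
  obtain ⟨y, rfl⟩ := mem_range_fromSpec hU hx
  exact (ampAt_chart_iff hU hV hUV _ y).1 (ampAt_of_iso _ ec.symm
    (ampAt_tilde_of_amp (R := Γ(Y, V)) (A := Γ(X, U)) (f.appLE V U hUV).hom _ hamp y))

include adj hO in
/-- **Global relative flat amplitude.** -/
theorem hasRelFlatAmplitudeIn_shriekC (d : ℕ) (hd : ∀ x, FlatMor.fibreDimAt f x ≤ (d : WithBot ℕ∞)) :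
    DCoh.HasRelFlatAmplitudeIn f (-(d : ℤ)) 0 ((Dual3.shriekC c a).obj O) :=
  relFlat_of_amp f (by omega) fun x => by
    obtain ⟨U, hU, V, hV, hUV, hx⟩ := exists_affine_nhds f x
    exact ampAt_shriekC f c hc adj O hO d x U hU V hV hUV hx fun y _ => hd y

end GrothLib.ShriekBridge22
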