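import Groth.Agent.Lib.ShriekBridge22.FibreDegree
import Groth.Agent.Lib.ShriekBridge22.OneDeg
import Groth.Agent.Lib.CurveStk.CM
import Groth.Agent.Lib.NodeOpen11.Pointwise
import Groth.Agent.Lib.LocProp.Stalk

/-! # Cohen–Macaulay morphisms and the degrees of `f^!O` -/

set_option autoImplicit false
set_option linter.style.haveILetI false
set_option maxHeartbeats 1000000
universe u

open CategoryTheory CategoryTheory.Limits AlgebraicGeometry GrothLib.OX
open scoped TensorProduct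

attribute [local instance] HasDerivedCategory.standard
attribute [local instance] GrothLib.DualRing.Shriek.pfl_of_flat

noncomputable section

namespace GrothLib.ShriekBridge22

theorem cm_stalk_spec_iff (T : CommRingCat.{u}) (q : Spec T) :
    LocCoh.IsCohenMacaulayLocalRing ((Spec T).presheaf.stalk q) ↔
      LocCoh.IsCohenMacaulayLocalRing (Localization.AtPrime q.asIdeal) := by
  letI : Algebra T ((Spec T).presheaf.stalk q) := StructureSheaf.stalkAlgebra T q
  haveI : IsLocalization.AtPrime ((Spec T).presheaf.stalk q) q.asIdeal :=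
    StructureSheaf.IsLocalization.to_stalk T q
  let e := (IsLocalization.algEquiv q.asIdeal.primeCompl (Localization.AtPrime q.asIdeal)
      ((Spec T).presheaf.stalk q)).toRingEquiv
  exact ⟨fun h => haveI := h; GrothLib.HB26.isCohenMacaulayLocalRing_of_ringEquiv e.symm,
    fun h => haveI := h; GrothLib.HB26.isCohenMacaulayLocalRing_of_ringEquiv e⟩

set_option backward.isDefEq.respectTransparency false in
/-- The relative Cohen–Macaulay property on a ring map, read in the fibre rings. -/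
theorem cmAt_specMap_iff {R A : CommRingCat.{u}} [IsNoetherianRing R] [IsNoetherianRing A] (φ : R ⟶ A)
    [Flat (Spec.map φ)] [LocallyOfFinitePresentation (Spec.map φ)] (p : PrimeSpectrum R) :
    letI := φ.hom.toAlgebra
    ∀ (q' : Ideal (p.asIdeal.ResidueField ⊗[R] A)) [q'.IsPrime] (q : Spec A),
      q'.comap (Algebra.TensorProduct.includeRight : A →ₐ[R] p.asIdeal.ResidueField ⊗[R] A).toRingHom = q.asIdeal →
      (MoreMor.IsCMAt (Spec.map φ) q ↔ LocCoh.IsCohenMacaulayLocalRing (Localization.AtPrime q')) := by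
  letI := φ.hom.toAlgebra
  intro q' _ q hq
  let K := p.asIdeal.ResidueField
  have sq : IsPullback (Spec.map (CommRingCat.ofHom (Algebra.TensorProduct.includeRight : A →ₐ[R] K ⊗[R] A).toRingHom))
      (Spec.map (CommRingCat.ofHom (Algebra.TensorProduct.includeLeftRingHom : K →+* K ⊗[R] A)))
      (Spec.map φ) (Spec.map (CommRingCat.ofHom (algebraMap R K))) :=
    (isPullback_SpecMap_of_isPushout _ _ _ _ (CommRingCat.isPushout_tensorProduct R K A)).flip
  let z : Spec (CommRingCat.of (K ⊗[R] A)) := ⟨q', inferInstance⟩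
  have hz : Spec.map (CommRingCat.ofHom (Algebra.TensorProduct.includeRight : A →ₐ[R] K ⊗[R] A).toRingHom) z = q :=
    PrimeSpectrum.ext hq
  rw [← hz, ← GrothLib.CurveStk.ptProp_cm.baseChange sq z, GrothLib.NodeOpen11.isCMAt_field_iff, cm_stalk_spec_iff]

variable {X Y : Scheme.{u}} (f : X ⟶ Y) [AlgebraicGeometry.IsNoetherian Y] [LocallyOfFiniteType f] [Flat f]

/-- A chart around a point with the data of its fibre ring. -/
theorem exists_fibre_chart {U : X.Opens} (hU : IsAffineOpen U) {V : Y.Opens} (hV : IsAffineOpen V)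
    (hUV : U ≤ f ⁻¹ᵁ V) {x : X} (hx : x ∈ U) :
    letI := (f.appLE V U hUV).hom.toAlgebra
    ∃ (p : PrimeSpectrum Γ(Y, V)) (Q : PrimeSpectrum (p.asIdeal.ResidueField ⊗[Γ(Y, V)] Γ(X, U))),
      Q.asIdeal.comap (Algebra.TensorProduct.includeRight :
          Γ(X, U) →ₐ[Γ(Y, V)] p.asIdeal.ResidueField ⊗[Γ(Y, V)] Γ(X, U)).toRingHom =
        (hU.primeIdealOf ⟨x, hx⟩).asIdeal ∧
      (MoreMor.IsCMAt f x ↔ LocCoh.IsCohenMacaulayLocalRing (Localization.AtPrime Q.asIdeal)) ∧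
      FlatMor.fibreDimAt f x = FlatMor.localDim (PrimeSpectrum (p.asIdeal.ResidueField ⊗[Γ(Y, V)] Γ(X, U))) Q := by
  letI := (f.appLE V U hUV).hom.toAlgebra
  obtain ⟨_, hft, _, n, ψ, hψ⟩ := exists_chart_pres f U hU V hV hUV
  haveI : Flat (Spec.map (f.appLE V U hUV)) := Flat.SpecMap_iff.2 (f.flat_appLE hV hU hUV)
  haveI : LocallyOfFiniteType (Spec.map (f.appLE V U hUV)) :=
    (HasRingHomProperty.Spec_iff (P := @LocallyOfFiniteType)).2 (f.finiteType_appLE hV hU hUV)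
  haveI : LocallyOfFinitePresentation (Spec.map (f.appLE V U hUV)) :=
    GrothLib.LocProp.locallyOfFinitePresentation_of_isLocallyNoetherian _
  haveI : IsLocallyNoetherian Y := inferInstance
  haveI : LocallyOfFinitePresentation f := GrothLib.LocProp.locallyOfFinitePresentation_of_isLocallyNoetherian f
  let q := hU.primeIdealOf ⟨x, hx⟩
  have hqx : hU.fromSpec q = x := hU.fromSpec_primeIdealOf ⟨x, hx⟩
  let p : PrimeSpectrum Γ(Y, V) := ⟨q.asIdeal.comap (algebraMap Γ(Y, V) Γ(X, U)), inferInstance⟩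
  haveI : q.asIdeal.LiesOver p.asIdeal := ⟨rfl⟩
  let Q := PrimeSpectrum.primesOverOrderIsoFiber Γ(Y, V) Γ(X, U) p.asIdeal ⟨q.asIdeal, inferInstance, ⟨rfl⟩⟩
  have hQ : Q.asIdeal.comap (Algebra.TensorProduct.includeRight :
      Γ(X, U) →ₐ[Γ(Y, V)] p.asIdeal.ResidueField ⊗[Γ(Y, V)] Γ(X, U)).toRingHom = q.asIdeal := by
    have : Q.asIdeal.comap Algebra.TensorProduct.includeRight = q.asIdeal := by
      rw [← PrimeSpectrum.coe_primesOverOrderIsoFiber_symm_apply p.asIdeal Q, OrderIso.symm_apply_apply]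
    exact this
  refine ⟨p, Q, hQ, ?_, ?_⟩
  · rw [← hqx, ← GrothLib.CurveStk.ptProp_cm.etale_source hU.fromSpec f q,
      ← IsAffineOpen.SpecMap_appLE_fromSpec f hV hU hUV,
      GrothLib.CurveStk.ptProp_cm.etale_target (Spec.map (f.appLE V U hUV)) hV.fromSpec q]
    exact cmAt_specMap_iff (f.appLE V U hUV) p Q.asIdeal q hQ
  · exact (fibreDimAt_appLE f hU hV hUV x hx).symm.trans
      (GrothLib.FibreDimRing.fibreDimAt_eq_localDim q p.asIdeal rfl Q hQ)

variable [∀ R : CommRingCat.{u}, PreservesFiniteLimits (tilde.functor R)]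
  (c : DEt.Compactification f) [DCoh.HasRpush c.fbar]
  (hc : DCoh.RpushPreservesQCoh c.fbar) {a : DCoh.DQCoh Y ⥤ DCoh.DQCoh c.Xbar}
  (adj : DCoh.RpushQ c.fbar hc ⊣ a) [PreservesFiniteLimits (Scheme.Modules.restrictFunctor c.j)]
  (O : DCoh.DQCoh Y) (hO : Nonempty (O.obj ≅ DCoh.inD Y (Coh.structureModule Y)))

include adj hO in
/-- At a Cohen–Macaulay point the top degree is minus the fibre dimension. -/
theorem stalk_of_isCMAt {x : X} (hx : MoreMor.IsCMAt f x) {d : ℕ} (hd : FlatMor.fibreDimAt f x = (d : WithBot ℕ∞))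
    (i : ℤ) : Nontrivial ((DCoh.HD ((Dual3.shriekC c a).obj O) i).presheaf.stalk x) ↔ i = -(d : ℤ) := by
  obtain ⟨U, hU, V, hV, hUV, hxU⟩ := exists_affine_nhds f x
  letI := (f.appLE V U hUV).hom.toAlgebra
  obtain ⟨_, hft, _, n, ψ, hψ⟩ := exists_chart_pres f U hU V hV hUV
  obtain ⟨ec⟩ := nonempty_shriekC_O c hc adj O hO U hU V hV hUV ψ hψ
  haveI : Module.Flat Γ(Y, V) Γ(X, U) := f.flat_appLE hV hU hUV
  haveI : Algebra.FinitePresentation Γ(Y, V) Γ(X, U) := Algebra.FinitePresentation.of_finiteType.1 hft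
  obtain ⟨p, Q, hQ, hcm, hdim⟩ := exists_fibre_chart f hU hV hUV hxU
  obtain ⟨h1, h2⟩ := top_of_isCM ψ hψ p (hU.primeIdealOf ⟨x, hxU⟩) Q hQ (hcm.1 hx) d (hdim.symm.trans hd)
  have key : ∀ j, Nontrivial ((DCoh.HD ((Dual3.shriekC c a).obj O) j).presheaf.stalk x) ↔
      hU.primeIdealOf ⟨x, hxU⟩ ∈ Module.support Γ(X, U)
        (Dual.HD Γ(X, U) (GrothLib.DualRing.Shriek.GP ψ (Dual.inD Γ(Y, V) Γ(Y, V))) j) := fun j => by
    rw [nontrivial_stalk_iff hU _ ec j (isQCohD_shriekC c a O j) x hxU, ← QCoh.primeAt_eq_primeIdealOf hU hxU,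
      Module.mem_support_iff]
  refine ⟨fun hi => ?_, fun hi => hi ▸ (key _).2 h1⟩
  refine le_antisymm (not_lt.1 fun hlt => h2 i hlt ((key i).1 hi)) ?_
  exact le_of_nontrivial_stalk f c hc adj O hO x hd.le i hi

include adj hO in
/-- **One degree near a Cohen–Macaulay point.** -/
theorem exists_oneDeg_of_isCMAt {x : X} (hx : MoreMor.IsCMAt f x) :
    ∃ (U : X.Opens) (d : ℕ), x ∈ U ∧ (∀ i : ℤ, i ≠ -(d : ℤ) →
      IsZero ((DCoh.HD ((Dual3.shriekC c a).obj O) i).restrict U.ι)) ∧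
      Nontrivial ((DCoh.HD ((Dual3.shriekC c a).obj O) (-(d : ℤ))).presheaf.stalk x) := by
  haveI : LocallyOfFinitePresentation f := GrothLib.LocProp.locallyOfFinitePresentation_of_isLocallyNoetherian f
  obtain ⟨U, hU, V, hV, hUV, hxU⟩ := exists_affine_nhds f x
  obtain ⟨p, Q, hQ, hcm, hdim⟩ := exists_fibre_chart f hU hV hUV hxU
  obtain ⟨d, hd⟩ : ∃ d : ℕ, FlatMor.fibreDimAt f x = (d : WithBot ℕ∞) := by
    letI := (f.appLE V U hUV).hom.toAlgebra
    obtain ⟨_, hft, _, n, ψ, hψ⟩ := exists_chart_pres f U hU V hV hUV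
    let B := p.asIdeal.ResidueField ⊗[Γ(Y, V)] Γ(X, U)
    haveI : Algebra.FiniteType p.asIdeal.ResidueField B := inferInstance
    have h1 : FlatMor.localDim (PrimeSpectrum B) Q ≤ (n : WithBot ℕ∞) := by
      refine (GrothLib.NoethTop.localDim_le_dim Q).trans ?_
      rw [PrimeSpectrum.topologicalKrullDim_eq_ringKrullDim]
      refine (ringKrullDim_le_of_surjective _ (RelPC.bcPres_surjective (R' := p.asIdeal.ResidueField) ψ hψ)).trans ?_
      rw [MvPolynomial.ringKrullDim_of_isNoetherianRing, ringKrullDim_eq_zero_of_field, zero_add, Nat.card_fin]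
    have h0 : (0 : WithBot ℕ∞) ≤ FlatMor.localDim (PrimeSpectrum B) Q := GrothLib.AlgSp.localDim_nonneg Q
    rw [← hdim] at h1 h0
    obtain ⟨e, he⟩ := WithBot.ne_bot_iff_exists.1 (ne_bot_of_le_ne_bot (by simp) h0)
    obtain ⟨d, rfl⟩ := ENat.ne_top_iff_exists.1 (ne_top_of_le_ne_top (ENat.coe_ne_top n) (WithBot.coe_le_coe.1 (he ▸ h1)))
    exact ⟨d, he.symm⟩
  let W : X.Opens := ⟨_, (GrothLib.CurveStk.ptProp_cm_dim (d : WithBot ℕ∞)).isOpen f⟩
  refine ⟨W, d, ⟨hx, hd⟩, fun i hi => ?_, (stalk_of_isCMAt f c hc adj O hO hx hd _).2 rfl⟩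
  refine GrothLib.OX.isZero_of_subsingleton_stalks _ fun z => ?_
  refine not_nontrivial_iff_subsingleton.1 fun hn => hi ((stalk_of_isCMAt f c hc adj O hO z.2.1 z.2.2 i).1 ?_)
  exact (((Scheme.Modules.restrictStalkNatIso W.ι z).app _).addCommGroupIsoToAddEquiv.toEquiv.nontrivial_congr).1 hn

include adj hO in
/-- **Cohen–Macaulay from one degree.** -/
theorem isCMAt_of_oneDeg {x : X} {U : X.Opens} (hxU : x ∈ U) {m : ℤ}
    (h : ∀ i : ℤ, i ≠ m → IsZero ((DCoh.HD ((Dual3.shriekC c a).obj O) i).restrict U.ι)) :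
    MoreMor.IsCMAt f x := by
  obtain ⟨V, hV, hxV, -⟩ := exists_isAffineOpen_mem_and_subset (x := f x) (U := ⊤) trivial
  obtain ⟨W, hW', hxW, hWU⟩ := exists_isAffineOpen_mem_and_subset (x := x) (U := f ⁻¹ᵁ V ⊓ U) ⟨hxV, hxU⟩
  have hW : IsAffineOpen W := hW'
  have hWV : W ≤ f ⁻¹ᵁ V := fun z hz => (hWU hz).1
  letI := (f.appLE V W hWV).hom.toAlgebra
  obtain ⟨_, hft, _, n, ψ, hψ⟩ := exists_chart_pres f W hW V hV hWV
  obtain ⟨ec⟩ := nonempty_shriekC_O c hc adj O hO W hW V hV hWV ψ hψ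
  haveI : Module.Flat Γ(Y, V) Γ(X, W) := f.flat_appLE hV hW hWV
  haveI : Algebra.FinitePresentation Γ(Y, V) Γ(X, W) := Algebra.FinitePresentation.of_finiteType.1 hft
  obtain ⟨p, Q, hQ, hcm, -⟩ := exists_fibre_chart f hW hV hWV hxW
  refine hcm.2 (isCM_of_oneDeg ψ hψ p _ Q hQ m fun q' _ i hi hmem => ?_)
  have hy : hW.fromSpec q' ∈ W := by
    have : hW.fromSpec q' ∈ Set.range hW.fromSpec := ⟨q', rfl⟩
    rwa [hW.range_fromSpec] at this
  have hq' : hW.primeIdealOf ⟨hW.fromSpec q', hy⟩ = q' :=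
    hW.fromSpec.isOpenEmbedding.injective (hW.fromSpec_primeIdealOf ⟨hW.fromSpec q', hy⟩)
  rw [← hq', ← QCoh.primeAt_eq_primeIdealOf hW hy, Module.mem_support_iff,
    ← nontrivial_stalk_iff hW _ ec i (isQCohD_shriekC c a O i) _ hy] at hmem
  have hz := (GrothLib.OX.isZero_iff _).1 (h i hi) ⟨hW.fromSpec q', (hWU hy).2⟩
  exact not_nontrivial_iff_subsingleton.2 (ModuleCat.subsingleton_of_isZero hz)
    (((Scheme.Modules.restrictStalkNatIso U.ι ⟨hW.fromSpec q', (hWU hy).2⟩).app _).addCommGroupIsoToAddEquiv.toEquiv.nontrivial_congr.2 hmem)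


include adj hO in
/-- **A Cohen–Macaulay morphism of pure relative dimension `d`: `f^!O` is a flat module in degree `-d`.** -/
theorem oneDeg_flat_of_cm (hx : ∀ x : X, MoreMor.IsCMAt f x) (d : ℕ)
    (hd : ∀ x : X, FlatMor.fibreDimAt f x = (d : WithBot ℕ∞)) :
    (∀ i : ℤ, i ≠ -(d : ℤ) → IsZero (DCoh.HD ((Dual3.shriekC c a).obj O) i)) ∧
      FlatMod.IsFlatOver f (DCoh.HD ((Dual3.shriekC c a).obj O) (-(d : ℤ))) := by
  refine GrothLib.ShriekBridge22.flat_oneDeg_of_amp f fun x => ?_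
  obtain ⟨U, hU, V, hV, hUV, hxU⟩ := exists_affine_nhds f x
  letI := (f.appLE V U hUV).hom.toAlgebra
  obtain ⟨_, hft, _, n, ψ, hψ⟩ := exists_chart_pres f U hU V hV hUV
  haveI : Module.Flat Γ(Y, V) Γ(X, U) := f.flat_appLE hV hU hUV
  haveI : Algebra.FinitePresentation Γ(Y, V) Γ(X, U) := Algebra.FinitePresentation.of_finiteType.1 hft
  obtain ⟨ec⟩ := nonempty_shriekC_O c hc adj O hO U hU V hV hUV ψ hψ
  have hmemU : ∀ q, hU.fromSpec q ∈ U := fun q => by
    have : hU.fromSpec q ∈ Set.range hU.fromSpec := ⟨q, rfl⟩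
    rwa [hU.range_fromSpec] at this
  have hprime : ∀ q, hU.primeIdealOf ⟨hU.fromSpec q, hmemU q⟩ = q := fun q =>
    hU.fromSpec.isOpenEmbedding.injective (hU.fromSpec_primeIdealOf ⟨hU.fromSpec q, hmemU q⟩)
  have hfib : ∀ q : PrimeSpectrum Γ(X, U), FlatMor.fibreDimAt
      (Spec.map (CommRingCat.ofHom (algebraMap Γ(Y, V) Γ(X, U)))) q ≤ (d : WithBot ℕ∞) := fun q => by
    have h := fibreDimAt_appLE f hU hV hUV (hU.fromSpec q) (hmemU q)
    rw [hprime] at h
    exact (h.trans (hd _)).le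
  have hab : ∀ i : ℤ, -(d : ℤ) < i →
      Subsingleton (Dual.HD Γ(X, U) (GrothLib.DualRing.Shriek.GP ψ (Dual.inD Γ(Y, V) Γ(Y, V))) i) := fun i hi => by
    refine (Module.support_eq_empty_iff (R := Γ(X, U))).1 (Set.eq_empty_iff_forall_notMem.2 fun q hq => ?_)
    rw [← hprime q, ← QCoh.primeAt_eq_primeIdealOf hU (hmemU q), Module.mem_support_iff,
      ← nontrivial_stalk_iff hU _ ec i (isQCohD_shriekC c a O i) _ (hmemU q),
      stalk_of_isCMAt f c hc adj O hO (hx _) (hd _) i] at hq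
    omega
  obtain ⟨E, b, hb, hf, ⟨e⟩⟩ := (GrothLib.DualRing.Shriek.isRelPerfect_GP ψ hψ).1
  let F := (DRing.restrictCx (algebraMap Γ(Y, V) Γ(X, U))).obj E
  have hFb : DRing.VanishesAbove F b := fun i hi => (ModuleCat.restrictScalars _).map_isZero (hb i hi)
  have hFf : DRing.TermwiseFlat F :=
    GrothLib.DR.termwiseFlat_restrict (DR.termwiseFlat_of_projective fun j => DR.projective_of_finiteFree hf j)
  let eF : DRing.toD F ≅ (DRing.restrictD (algebraMap Γ(Y, V) Γ(X, U))).obj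
      (GrothLib.DualRing.Shriek.GP ψ (Dual.inD Γ(Y, V) Γ(Y, V))) :=
    ((ModuleCat.restrictScalars.{u} (algebraMap Γ(Y, V) Γ(X, U))).mapDerivedCategoryFactors.app E).symm ≪≫
      (DRing.restrictD _).mapIso e
  have h0 := (DR.hasTorAmplitudeIn_iff hFb hFf (-(d : ℤ)) 0).1
    (DR.hasTorAmplitudeIn_of_iso eF.symm (GrothLib.DualRing.Shriek.hasTorAmplitudeIn_GP ψ hψ hfib))
  have hamp : DRing.HasTorAmplitudeIn Γ(Y, V) (-(d : ℤ)) (-(d : ℤ))
      ((DRing.restrictD (algebraMap Γ(Y, V) Γ(X, U))).obj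
        (GrothLib.DualRing.Shriek.GP ψ (Dual.inD Γ(Y, V) Γ(Y, V)))) := by
    refine DR.hasTorAmplitudeIn_of_iso eF ((DR.hasTorAmplitudeIn_iff hFb hFf _ _).2 fun M _ _ i hi => ?_)
    rcases hi with hi | hi
    · exact h0 M i (Or.inl hi)
    · refine DR.tExact_of_exact hFb hFf (n := -(d : ℤ) + 1) (fun j hj => ?_) i (by omega) M
      refine (KF.exactAt_restrict_iff _ E j).2 ((GrothLib.DR.exactAt_iff _ j).2 ?_)
      exact GrothLib.DR.subsingleton_HD_of_iso e.symm j (hab j (by omega))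
  obtain ⟨y, rfl⟩ := mem_range_fromSpec hU hxU
  exact (GrothLib.RelAmp22.ampAt_chart_iff hU hV hUV _ y).1 (GrothLib.RelAmp22.ampAt_of_iso _ ec.symm
    (GrothLib.RelAmp22.ampAt_tilde_of_amp (R := Γ(Y, V)) (A := Γ(X, U)) (f.appLE V U hUV).hom _ hamp y))

end GrothLib.ShriekBridge22
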