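import Groth.Agent.Lib.RightAdj22.Main
import Groth.Agent.Lib.RightAdj22.Restrict
import Groth.Agent.Lib.RightAdj22.ProjDual
import Groth.Agent.Lib.KSix19.ProjPush.Perfect
import Groth.Agent.Lib.DualRing.SchemePull
import Groth.Agent.Lib.DualRing.ShriekIndep
import Groth.Agent.Lib.Dual22.DualMap
import Groth.Agent.Lib.ProjPic26.Chart
import Groth.Agent.Lib.ProjSp.Section
import Groth.Agent.Lib.GrTilde.Mul
import Groth.Agent.Lib.CurveMult.ProjSmooth

/-! # The right adjoint of `ℙⁿ → Spec A` on a standard chart -/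

set_option autoImplicit false
set_option maxHeartbeats 1000000
set_option linter.style.haveILetI false
universe u

open CategoryTheory CategoryTheory.Limits AlgebraicGeometry GrothLib.OX

attribute [local instance] HasDerivedCategory.standard

noncomputable section

namespace GrothLib.ShriekBridge22

open GrothLib.RightAdj22

variable {X Y : Scheme.{u}}

/-- A module with a generator on the range of an open immersion restricts to the structure sheaf. -/
theorem nonempty_restrict_of_gen {M : Y.Modules} (j : X ⟶ Y) [IsOpenImmersion j] {e : Γ(M, j.opensRange)}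
    (he : InvExt.IsGen M j.opensRange e) : Nonempty (M.restrict j ≅ Coh.structureModule X) := by
  obtain ⟨φ⟩ := InvExt.exists_iso_of_gen he
  let w := j.isoOpensRange
  exact ⟨((Scheme.Modules.restrictFunctorCongr (Scheme.Hom.isoOpensRange_hom_ι j).symm) ≪≫
      Scheme.Modules.restrictFunctorComp w.hom j.opensRange.ι).app M ≪≫
    (Scheme.Modules.restrictFunctor w.hom).mapIso φ ≪≫
    (Scheme.Modules.restrictFunctorIsoPullback w.hom).app _ ≪≫ pullUnitIso w.hom⟩

/-- Tensoring with a shift of the structure sheaf. -/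
theorem nonempty_ltensor_shift_unit (E : CochainComplex X.Modules ℤ) [DCoh.HasLTensorCx E] (n : ℤ)
    (e : DerivedCategory.Q.obj E ≅ (DCoh.inD X (Coh.structureModule X))⟦n⟧) (M : DCoh.D X) :
    Nonempty ((DCoh.LTensorCx E).obj M ≅ M⟦n⟧) := by
  obtain ⟨P, hP, ⟨eP⟩⟩ := exists_kflat_rep M
  haveI := hasLTensorCx P
  obtain ⟨t⟩ := Dual22.nonempty_ltensorCx_shift_unit P n
  exact ⟨(DCoh.LTensorCx E).mapIso eP.symm ≪≫ Dual22.swap hP E ≪≫ (DCoh.LTensorCx P).mapIso e ≪≫ t ≪≫
    (shiftFunctor (DCoh.D X) n).mapIso eP⟩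

variable (A : Type u) [CommRing A] (n : ℕ)

/-- The affine space in projective space, in coordinates. -/
def chartIso : Spec (CommRingCat.of (MvPolynomial (Fin n) A)) ≅
    Spec (CommRingCat.of (HomogeneousLocalization.Away (CohB1.polyGrading n A) (ProjSp.x0 n A))) :=
  Scheme.Spec.mapIso ((RingEquiv.ofBijective _ (ProjPic26.affChart_bijective (R := A) (n := n) 0)).toCommRingCatIso).symm.op

open CohB1 in
/-- The affine space in projective space. -/
def chartHom : Spec (CommRingCat.of (MvPolynomial (Fin n) A)) ⟶ ProjSpace n A :=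
  (chartIso A n).hom ≫
    Proj.awayι (polyGrading n A) (ProjSp.x0 n A) (ProjSp.x0_mem n A) Nat.one_pos

instance : IsOpenImmersion (chartHom A n) :=
  inferInstanceAs (IsOpenImmersion ((chartIso A n).hom ≫ Proj.awayι _ _ (ProjSp.x0_mem n A) Nat.one_pos))

theorem chartHom_toSpec : chartHom A n ≫ CohB1.ProjSpace.toSpec n A =
    Spec.map (CommRingCat.ofHom (algebraMap A (MvPolynomial (Fin n) A))) := by
  let e := RingEquiv.ofBijective _ (ProjPic26.affChart_bijective (R := A) (n := n) 0)
  refine (Category.assoc _ _ _).trans ((congrArg ((chartIso A n).hom ≫ ·) (ProjSp.awayι_toSpec n A)).trans ?_)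
  show Spec.map e.toCommRingCatIso.inv ≫ _ = _
  refine (Spec.map_comp _ _).symm.trans (congrArg Spec.map ?_)
  refine CommRingCat.hom_ext (RingHom.ext fun a => ?_)
  let e := RingEquiv.ofBijective _ (ProjPic26.affChart_bijective (R := A) (n := n) 0)
  show e.symm (ProjSp.baseMap n A a) = algebraMap A (MvPolynomial (Fin n) A) a
  rw [RingEquiv.symm_apply_eq]
  show _ = ProjPic26.affChart 0 (MvPolynomial.C a)
  simp only [ProjPic26.affChart, MvPolynomial.eval₂Hom_C]
  rfl

theorem opensRange_chartHom : (chartHom A n).opensRange = Proj.basicOpen (CohB1.polyGrading n A) (ProjSp.x0 n A) := by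
  exact (Scheme.Hom.opensRange_comp_of_isIso (chartIso A n).hom (Proj.awayι (CohB1.polyGrading n A) (ProjSp.x0 n A) (ProjSp.x0_mem n A) Nat.one_pos)).trans (Proj.opensRange_awayι _ _ _ _)

theorem nonempty_restrict_twist (k : ℕ) :
    Nonempty ((Twist.twistProjSpace n A (-(k : ℤ))).restrict (chartHom A n) ≅
      Coh.structureModule (Spec (CommRingCat.of (MvPolynomial (Fin n) A)))) := by
  have nin : ∀ y : (chartHom A n).opensRange, ProjSp.x0 n A ^ k ∉ y.1.asHomogeneousIdeal := fun y hm => by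
    have hy : y.1 ∈ Proj.basicOpen (CohB1.polyGrading n A) (ProjSp.x0 n A) := by
      rw [← opensRange_chartHom]; exact y.2
    exact hy (y.1.isPrime.mem_of_pow_mem _ hm)
  exact nonempty_restrict_of_gen (chartHom A n) (GrTilde.isGen_fracT (V := (chartHom A n).opensRange)
    (P := 1) (Q := ProjSp.x0 n A ^ k) SetLike.GradedOne.one_mem
    (SetLike.pow_mem_graded k (ProjSp.x0_mem n A))
    (fun y hm => y.1.isPrime.ne_top ((Ideal.eq_top_iff_one _).2 hm)) nin (k := -(k : ℤ)) (by simp))

variable [IsNoetherianRing A]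

attribute [local instance] GrothLib.DualRing.Shriek.pfl_of_flat

set_option maxHeartbeats 4000000 in
/-- **The right adjoint of `ℙⁿ → Spec A` on the chart is `- ⊗ A[x][n]`.** -/
theorem nonempty_resD_aQ_proj [PreservesFiniteLimits (tilde.functor (CommRingCat.of A))]
    [PreservesFiniteLimits (tilde.functor (CommRingCat.of (MvPolynomial (Fin n) A)))]
    [IsProper (CohB1.ProjSpace.toSpec n A)] (K : DCoh.DQCoh (Spec (CommRingCat.of A))) (L : Dual.D A)
    (eK : K.obj ≅ (DCoh.tildeD (CommRingCat.of A)).obj L) :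
    Nonempty ((resD (chartHom A n)).obj ((aQ (CohB1.ProjSpace.toSpec n A)).obj K).obj ≅
      (DCoh.tildeD (CommRingCat.of (MvPolynomial (Fin n) A))).obj
        (((DualRing.Shriek.extD (algebraMap A (MvPolynomial (Fin n) A))).obj L)⟦(n : ℤ)⟧)) := by
  let π := CohB1.ProjSpace.toSpec n A
  let P := MvPolynomial (Fin n) A
  haveI : CompactSpace (CohB1.ProjSpace n A) := QuasiCompact.compactSpace_of_compactSpace π
  haveI : QuasiSeparatedSpace (CohB1.ProjSpace n A) := quasiSeparatedSpace_of_quasiSeparated π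
  haveI : DCoh.HasRpush π := KInj.hasRightDerivedFunctor _
  have hf : DCoh.RpushPreservesQCoh π := fun K hK =>
    KSix19.BettiExact.isQCohD_of_iso' ((rpushIsoRres π).app K).symm (isQCohD_Rres π K hK)
  let adj := (aQAdj π).ofNatIsoLeft (rpushQIso π hf).symm
  have hcop : ∀ J : Type u, PreservesColimitsOfShape (Discrete J) (aQ π) := fun J =>
    preservesColimitsOfShape adj (fun Q hQ => isPerfect_of_iso
      (KSix19.ProjPush.isPerfect_Rres_of_perfect n A hQ) ((rpushIsoRres π).app Q.obj).symm) J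
  let O : DCoh.DQCoh (Spec (CommRingCat.of A)) := ⟨DCoh.inD _ (Coh.structureModule (Spec (CommRingCat.of A))),
    isQCohD_of_isPerfect (TorBC25.isPerfect_inD_structure _)⟩
  haveI : DCoh.HasLpull π := hasLpull π
  obtain ⟨E, -, ⟨eE⟩⟩ := exists_kflat_rep ((aQ π).obj O).obj
  haveI := hasLTensorCx E
  obtain ⟨a⟩ := RightAdj22.nonempty_iso π hf adj hcop O ⟨Iso.refl _⟩ E ⟨eE⟩
  let j := chartHom A n
  haveI := hasLTensorCx ((resCx j).obj E)
  obtain ⟨d⟩ := Dual22.nonempty_resD_ltensorCx j E ((DCoh.Lpull π).obj K.obj)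
  obtain ⟨o⟩ := RightAdj22.nonempty_adjoint_projSpace n A hf adj O ⟨Iso.refl _⟩
  obtain ⟨t⟩ := nonempty_restrict_twist A n (n + 1)
  have t' : (Twist.twistProjSpace n A (-((n : ℤ) + 1))).restrict j ≅ Coh.structureModule (Spec (CommRingCat.of P)) := by
    simpa using t
  let eE' : DerivedCategory.Q.obj ((resCx j).obj E) ≅
      (DCoh.inD (Spec (CommRingCat.of P)) (Coh.structureModule (Spec (CommRingCat.of P))))⟦(n : ℤ)⟧ :=
    ((resDFac j).app E).symm ≪≫ (resD j).mapIso (eE ≪≫ o) ≪≫ ((resD j).commShiftIso (n : ℤ)).app _ ≪≫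
      (shiftFunctor _ (n : ℤ)).mapIso (((Scheme.Modules.restrictFunctor j).mapDerivedCategorySingleFunctor 0).app _ ≪≫
        (DerivedCategory.singleFunctor _ 0).mapIso t')
  obtain ⟨s⟩ := nonempty_ltensor_shift_unit ((resCx j).obj E) (n : ℤ) eE' ((resD j).obj ((DCoh.Lpull π).obj K.obj))
  haveI : Smooth π := CurveMult.smooth_toSpec n A
  haveI : PreservesFiniteLimits (DualCx22.bcMod (A := A) P) := DualRing.Shriek.pfl_of_flat A
  obtain ⟨c⟩ := DualRing.nonempty_chart_lpull π (𝟙 _) j
    (show j ≫ π = specHom (algebraMap A P) ≫ 𝟙 _ by rw [Category.comp_id]; exact chartHom_toSpec A n)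
    ((resDIdIso _).app K.obj ≪≫ eK)
  exact ⟨(resD j).mapIso (a.app K) ≪≫ d ≪≫ s ≪≫ (shiftFunctor _ (n : ℤ)).mapIso c ≪≫
    (((DCoh.tildeD (CommRingCat.of P)).commShiftIso (n : ℤ)).app _).symm⟩

end GrothLib.ShriekBridge22
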