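import Groth.Agent.Lib.ShriekBridge22.FieldDual
import Groth.Agent.Lib.DualRing.RelAmp
import Groth.Agent.Lib.DualRing.ShriekGorFibres
import Groth.Agent.Lib.DualRing.SchemeLocus
import Groth.Agent.Lib.LocalDimAlg.Basic
import Groth.Agent.Lib.FibreDimRing.Basic
import Groth.Agent.Lib.AlgSp.FieldFibreDim

/-! # The top degree of the relative dualizing complex and its restriction to the fibres -/

set_option autoImplicit false
set_option linter.style.haveILetI false
set_option maxHeartbeats 1000000
universe u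

open CategoryTheory CategoryTheory.Limits HomologicalComplex GrothLib.DualCx22
open IsLocalRing (maximalIdeal)
open scoped TensorProduct

attribute [local instance] HasDerivedCategory.standard
attribute [local instance] GrothLib.DualRing.Shriek.pfl_of_flat

noncomputable section

namespace GrothLib.ShriekBridge22

/-- Exactness of the localisation of a complex, in terms of the support. -/
theorem exactAt_localization_iff {A : Type u} [CommRing A] (E : DRing.Cx A) (q : PrimeSpectrum A) (i : ℤ) :
    ((DR.bc (algebraMap A (Localization.AtPrime q.asIdeal))).obj E).ExactAt i ↔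
      q ∉ Module.support A (Dual.HD A (DRing.toD E) i) := by
  let C := Localization.AtPrime q.asIdeal
  haveI : Module.Flat A C := IsLocalization.flat C q.asIdeal.primeCompl
  haveI := GrothLib.DR.preservesFiniteLimits_extendScalars (algebraMap A C) GrothLib.DR.flat_algebraMap
  obtain ⟨e⟩ := nonempty_HD_bcD_equiv (A := A) C (DRing.toD E) i
  let e' := ((DerivedCategory.homologyFunctor (ModuleCat.{u} C) i).mapIso
    ((bcMod (A := A) C).mapDerivedCategoryFactors.app E)).toLinearEquiv
  rw [GrothLib.DR.exactAt_iff]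
  exact ((e'.toEquiv.symm.trans e.toEquiv).subsingleton_congr).trans
    ((subsingleton_tensor_localization_iff q.asIdeal.primeCompl C _).trans Module.notMem_support_iff'.symm)

/-- **Nakayama in the top degree.** -/
theorem exactAt_of_tExact_top {C : Type u} [CommRing C] [IsLocalRing C] [IsNoetherianRing C] {P : DRing.Cx C}
    {b : ℤ} (hb : DRing.VanishesAbove P b) (hP : DRing.TermwiseFlat P) (t : ℤ) [Module.Finite C (P.X t)]
    (hex : ∀ i, t < i → P.ExactAt i) (D : Type u) [CommRing D] [Algebra C D] [IsLocalRing D]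
    [IsLocalHom (algebraMap C D)] (h : DR.TExact P D t) : P.ExactAt t := by
  let d₀ := (P.d (t - 1) t).hom
  let d₁ := (P.d t (t + 1)).hom
  let Z := LinearMap.ker d₁
  have hd : ∀ x, d₀ x ∈ Z := fun x => by
    show (P.d t (t + 1)).hom ((P.d (t - 1) t).hom x) = 0
    rw [← LinearMap.comp_apply, ← ModuleCat.hom_comp, P.d_comp_d]
    rfl
  let p : P.X (t - 1) →ₗ[C] Z := d₀.codRestrict Z hd
  haveI hfl : Module.Flat C (LinearMap.ker (P.d (t + 1) (t + 1 + 1)).hom) :=
    DR.flat_ker_of_exact P b hb t (fun j _ => hP j) hex (t + 1) (by omega)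
  have hinj : Function.Injective (Z.subtype.rTensor D) := by
    have h2 : Function.Exact d₁ (P.d (t + 1) (t + 1 + 1)).hom :=
      (DR.function_exact_d P _ _ _ rfl rfl).1 (hex (t + 1) (by omega))
    refine FlatCx.rTensor_injective_of_flat (g := Z.subtype)
      (f := d₁.codRestrict (LinearMap.ker (P.d (t + 1) (t + 1 + 1)).hom) fun x => (h2 _).2 ⟨x, rfl⟩)
      Subtype.val_injective (fun y => ?_) ?_ D
    · obtain ⟨x, hx⟩ := (h2 y.1).1 y.2
      exact ⟨x, Subtype.ext hx⟩
    · rw [LinearMap.exact_iff, LinearMap.ker_codRestrict, Submodule.range_subtype]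
  have hsurj : Function.Surjective (p.rTensor D) := fun z => by
    have h0 : d₁.rTensor D (Z.subtype.rTensor D z) = 0 := by
      rw [← LinearMap.comp_apply, ← LinearMap.rTensor_comp,
        show d₁ ∘ₗ Z.subtype = 0 from LinearMap.ext fun x => x.2, LinearMap.rTensor_zero, LinearMap.zero_apply]
    obtain ⟨w, hw⟩ := (h _).1 h0
    refine ⟨w, hinj ?_⟩
    rw [← LinearMap.comp_apply, ← LinearMap.rTensor_comp, LinearMap.subtype_comp_codRestrict]
    exact hw
  let Q := Z ⧸ LinearMap.range p
  let g : Z →ₗ[C] Q := (LinearMap.range p).mkQ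
  have hg0 : ∀ z : Q ⊗[C] D, z = 0 := fun z => by
    obtain ⟨z, rfl⟩ := LinearMap.rTensor_surjective D (g := g) (Submodule.mkQ_surjective _) z
    obtain ⟨w, rfl⟩ := hsurj z
    rw [← LinearMap.comp_apply, ← LinearMap.rTensor_comp,
      show g ∘ₗ p = 0 from LinearMap.range_mkQ_comp _, LinearMap.rTensor_zero, LinearMap.zero_apply]
  haveI : Subsingleton (Q ⊗[C] D) := ⟨fun a b => (hg0 a).trans (hg0 b).symm⟩
  haveI : Subsingleton Q := by
    by_contra hQ
    have hQ' : Nontrivial Q := not_subsingleton_iff_nontrivial.1 hQ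
    let K := IsLocalRing.ResidueField D
    let k := IsLocalRing.ResidueField C
    haveI : Subsingleton (D ⊗[C] Q) := (TensorProduct.comm C D Q).toEquiv.subsingleton
    haveI : Subsingleton (K ⊗[C] Q) :=
      (LinearMap.rTensor_surjective Q (g := (Algebra.linearMap D K).restrictScalars C)
        Ideal.Quotient.mk_surjective).subsingleton
    letI : Algebra k K := (IsLocalRing.ResidueField.map (algebraMap C D)).toAlgebra
    haveI : IsScalarTower C k K := IsScalarTower.of_algebraMap_eq fun c => rfl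
    haveI : Subsingleton (K ⊗[k] (k ⊗[C] Q)) :=
      (TensorProduct.AlgebraTensorModule.cancelBaseChange C k k K Q).toEquiv.subsingleton
    haveI : Subsingleton (k ⊗[C] Q) := Module.FaithfullyFlat.lTensor_reflects_triviality k K _
    exact not_subsingleton_iff_nontrivial.2 hQ' ((IsLocalRing.subsingleton_tensorProduct (R := C) (M := Q)).1 ‹_›)
  rw [DR.function_exact_d P (t - 1) t (t + 1) (by omega) rfl]
  intro x
  refine ⟨fun hx => ?_, ?_⟩
  · obtain ⟨w, hw⟩ := LinearMap.range_eq_top.1 (Submodule.Quotient.subsingleton_iff.1 ‹Subsingleton Q›) ⟨x, hx⟩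
    exact ⟨w, congrArg Subtype.val hw⟩
  · rintro ⟨w, rfl⟩
    exact hd w

section Top

variable {A B : Type u} [CommRing A] [CommRing B] (α : A →+* B) (E : DRing.Cx A)

/-- Localisation commutes with base change. -/
theorem exactAt_bc_localization_iff (q : PrimeSpectrum A) (Q : PrimeSpectrum B)
    (hQ : Q.asIdeal.comap α = q.asIdeal) (i : ℤ) :
    Q ∉ Module.support B (Dual.HD B (DRing.toD ((DR.bc α).obj E)) i) ↔
      letI := (Localization.localRingHom q.asIdeal Q.asIdeal α hQ.symm).toAlgebra
      DR.TExact ((DR.bc (algebraMap A (Localization.AtPrime q.asIdeal))).obj E) (Localization.AtPrime Q.asIdeal) i := by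
  letI := (Localization.localRingHom q.asIdeal Q.asIdeal α hQ.symm).toAlgebra
  let C := Localization.AtPrime q.asIdeal
  let D := Localization.AtPrime Q.asIdeal
  let χ : C →+* D := Localization.localRingHom q.asIdeal Q.asIdeal α hQ.symm
  have hcomp : χ.comp (algebraMap A C) = (algebraMap B D).comp α :=
    RingHom.ext fun a => Localization.localRingHom_to_map q.asIdeal Q.asIdeal α hQ.symm a
  let e : (DR.bc χ).obj ((DR.bc (algebraMap A C)).obj E) ≅
      (DR.bc (algebraMap B D)).obj ((DR.bc α).obj E) :=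
    (DR.bcCompIso (algebraMap A C) χ E).symm ≪≫ eqToIso (by rw [hcomp]) ≪≫ DR.bcCompIso α (algebraMap B D) E
  rw [← exactAt_localization_iff ((DR.bc α).obj E) Q i]
  refine Iff.trans ⟨fun h => h.of_iso e.symm, fun h => h.of_iso e⟩ ?_
  exact GrothLib.DR.exactAt_bc_iff χ _ i

variable {b : ℤ} (hb : DRing.VanishesAbove E b) (hf : DRing.TermwiseFiniteFree E)
  (q : PrimeSpectrum A) (Q : PrimeSpectrum B) (hQ : Q.asIdeal.comap α = q.asIdeal) (t : ℤ)
  (ht : ∀ i, t < i → q ∉ Module.support A (Dual.HD A (DRing.toD E) i))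

include hb hf hQ ht in
/-- Base change does not raise the top degree. -/
theorem notMem_support_bc_of_lt (i : ℤ) (hi : t < i) :
    Q ∉ Module.support B (Dual.HD B (DRing.toD ((DR.bc α).obj E)) i) := by
  rw [exactAt_bc_localization_iff α E q Q hQ i]
  letI := (Localization.localRingHom q.asIdeal Q.asIdeal α hQ.symm).toAlgebra
  exact DR.tExact_of_exact (fun j hj => (ModuleCat.extendScalars.{u, u, u} _).map_isZero (hb j hj))
    (DR.termwiseFlat_bc _ (DR.termwiseFlat_of_projective fun j => DR.projective_of_finiteFree hf j))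
    (n := t + 1) (fun j hj => (exactAt_localization_iff E q j).2 (ht j (by omega))) i (by omega) _

include hb hf hQ ht in
/-- The top degree survives base change. -/
theorem mem_support_bc_top [IsNoetherianRing A] (h : q ∈ Module.support A (Dual.HD A (DRing.toD E) t)) :
    Q ∈ Module.support B (Dual.HD B (DRing.toD ((DR.bc α).obj E)) t) := by
  by_contra hne
  rw [exactAt_bc_localization_iff α E q Q hQ t] at hne
  letI := (Localization.localRingHom q.asIdeal Q.asIdeal α hQ.symm).toAlgebra
  let C := Localization.AtPrime q.asIdeal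
  haveI : IsLocalHom (algebraMap C (Localization.AtPrime Q.asIdeal)) :=
    inferInstanceAs (IsLocalHom (Localization.localRingHom q.asIdeal Q.asIdeal α hQ.symm))
  haveI : IsNoetherianRing C := GrothLib.Depth.isNoetherian_atPrime _
  haveI := (GrothLib.DualRing.termwiseFiniteFree_bc (algebraMap A C) hf t).1
  refine (exactAt_localization_iff E q t).1 ?_ h
  exact exactAt_of_tExact_top (fun j hj => (ModuleCat.extendScalars.{u, u, u} _).map_isZero (hb j hj))
    (DR.termwiseFlat_bc _ (DR.termwiseFlat_of_projective fun j => DR.projective_of_finiteFree hf j)) t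
    (fun j hj => (exactAt_localization_iff E q j).2 (ht j hj)) _ hne


end Top

section Field

variable {k : Type u} [Field k] {B : Type u} [CommRing B] [Algebra k B] [IsNoetherianRing B] {n : ℕ}
  (ψ : MvPolynomial (Fin n) k →ₐ[k] B)

omit [IsNoetherianRing B] in
/-- The dualizing complex is nonzero at every point. -/
theorem exists_mem_support [IsNoetherianRing B] {ω : Dual.D B} (hω : Dual.IsDualizing B ω) (Q : PrimeSpectrum B) :
    ∃ i : ℤ, Q ∈ Module.support B (Dual.HD B ω i) := by
  obtain ⟨ω', hω', he⟩ := GrothLib.DualRing.exists_localized hω Q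
  obtain ⟨i, hi⟩ := DualCx22.exists_nontrivial_HD hω'
  exact ⟨i, (GrothLib.DualRing.nontrivial_HD_iff_mem_support hω Q (he i).some).1 hi⟩

/-- The local dimension is at most the dimension of the components through the point. -/
theorem localDim_le_of_minimal [Algebra.FiniteType k B] (Q : PrimeSpectrum B) {N : WithBot ℕ∞}
    (h : ∀ Q₀ : PrimeSpectrum B, Q₀.asIdeal ∈ minimalPrimes B → Q₀ ≤ Q → ringKrullDim (B ⧸ Q₀.asIdeal) ≤ N) :
    FlatMor.localDim (PrimeSpectrum B) Q ≤ N := by
  classical
  let S := (minimalPrimes.finite_of_isNoetherianRing B).toFinset.filter fun P => ¬ P ≤ Q.asIdeal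
  have hex : ∀ P : S, ∃ a ∈ (P.1 : Ideal B), a ∉ Q.asIdeal := fun P =>
    SetLike.not_le_iff_exists.1 (Finset.mem_filter.1 P.2).2
  choose a ha haQ using hex
  let g := ∏ P, a P
  have hg : g ∉ Q.asIdeal := fun hgQ => by
    obtain ⟨P, -, hP⟩ := (Q.isPrime.prod_mem_iff).1 hgQ
    exact haQ P hP
  refine (iInf_le _ (⟨PrimeSpectrum.basicOpen g, hg⟩ :
    { U : TopologicalSpace.Opens (PrimeSpectrum B) // Q ∈ U })).trans ?_
  refine (GrothLib.LocalDimAlg.dim_basicOpen g).trans_le (iSup_le fun l => ?_)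
  let L := Localization.Away g
  let f : PrimeSpectrum L → PrimeSpectrum B := PrimeSpectrum.comap (algebraMap B L)
  have hg0 : g ∉ (f l.head).asIdeal := fun hm => l.head.2.ne_top
    (Ideal.eq_top_of_isUnit_mem _ hm (IsLocalization.Away.algebraMap_isUnit g))
  have hsm : StrictMono f := fun a b hab => lt_of_le_of_ne (Ideal.comap_mono hab.le)
    fun e => hab.ne (PrimeSpectrum.localization_comap_injective L (Submonoid.powers g) e)
  obtain ⟨P, hP, hPl⟩ := Ideal.exists_minimalPrimes_le (bot_le : (⊥ : Ideal B) ≤ (f l.head).asIdeal)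
  haveI := hP.isPrime
  have hPQ : P ≤ Q.asIdeal := by
    by_contra hne
    have hmem : P ∈ S := Finset.mem_filter.2 ⟨(Set.Finite.mem_toFinset _).2 hP, hne⟩
    exact hg0 (hPl (Ideal.mem_of_dvd _
      (Finset.dvd_prod_of_mem a (Finset.mem_univ (⟨P, hmem⟩ : S))) (ha ⟨P, hmem⟩)))
  let l' : LTSeries (PrimeSpectrum.zeroLocus (R := B) (P : Set B)) :=
    { length := l.length
      toFun := fun i => ⟨f (l i), fun z hz => hsm.monotone (l.monotone (Fin.zero_le i)) (hPl hz)⟩
      step := fun i => hsm (l.step i) }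
  refine le_trans ?_ (h ⟨P, inferInstance⟩ hP hPQ)
  rw [ringKrullDim_quotient]
  exact Order.LTSeries.length_le_krullDim l'

include ψ in
/-- The lowest degree is bounded by the local dimension. -/
theorem neg_le_of_mem_support (hψ : Function.Surjective ψ) (i : ℤ) (Q : PrimeSpectrum B) {d : ℕ}
    (hd : FlatMor.localDim (PrimeSpectrum B) Q ≤ (d : WithBot ℕ∞))
    (hQ : Q ∈ Module.support B (Dual.HD B (GrothLib.DualRing.Shriek.GP ψ (Dual.inD k k)) i)) : -(d : ℤ) ≤ i := by
  haveI : Algebra.FiniteType k B := Algebra.FiniteType.of_surjective ψ hψ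
  refine GrothLib.DualRing.Shriek.le_of_nontrivial_localized_HD ψ hψ Q ?_ i (Module.mem_support_iff.1 hQ)
  exact (GrothLib.AlgSp.fibreDimAt_eq_localDim_of_subsingleton
    (AlgebraicGeometry.Spec.map (CommRingCat.ofHom (algebraMap k B))) Q).le.trans hd

end Field

section Relative

open GrothLib.DualRing.Shriek

variable {R A : Type u} [CommRing R] [CommRing A] [IsNoetherianRing R] [Algebra R A]
  {n : ℕ} (ψ : MvPolynomial (Fin n) R →ₐ[R] A)

section BC

variable [Module.Flat R A] [Algebra.FinitePresentation R A] (hψ : Function.Surjective ψ)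
  {E : DRing.Cx A} (hE : GrothLib.KF.IsKFlat E) (e : DRing.toD E ≅ GP ψ (Dual.inD R R))

include hψ hE e in
/-- The restriction to a fibre is the dualizing complex of the fibre. -/
theorem nonempty_bc_fibre_iso (p : PrimeSpectrum R) :
    Nonempty (DRing.toD ((DR.bc (Algebra.TensorProduct.includeRight :
        A →ₐ[R] p.asIdeal.ResidueField ⊗[R] A).toRingHom).obj E) ≅
      GP (RelPC.bcPres (R' := p.asIdeal.ResidueField) ψ) (Dual.inD p.asIdeal.ResidueField p.asIdeal.ResidueField)) := by
  let k := p.asIdeal.ResidueField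
  let B := k ⊗[R] A
  let α : A →+* B := (Algebra.TensorProduct.includeRight : A →ₐ[R] B).toRingHom
  haveI := GrothLib.KF.hasLBaseChange α
  haveI := GrothLib.KF.hasLBaseChange (algebraMap R k)
  let ψb := RelPC.bcPres (R' := k) ψ
  obtain ⟨eb⟩ := nonempty_GP_baseChange (R' := k) ψ hψ (Dual.inD R R)
  let eR : DRing.toD (GrothLib.RH.oneCx R) ≅ Dual.inD R R :=
    ((DerivedCategory.singleFunctorIsoCompQ (ModuleCat.{u} R) 0).app _).symm
  obtain ⟨eL⟩ := GrothLib.KF.lBase_value (algebraMap R k)
    (GrothLib.KF.isKFlat_single (ModuleCat.of R R) (inferInstanceAs (Module.Flat R R)) 0)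
  let eK : (DRing.LBaseChange (algebraMap R k)).obj (Dual.inD R R) ≅ Dual.inD k k :=
    (DRing.LBaseChange (algebraMap R k)).mapIso eR.symm ≪≫ eL ≪≫
      DerivedCategory.Q.mapIso (GrothLib.DualRing.Act.bcOne (algebraMap R k)) ≪≫
      ((DerivedCategory.singleFunctorIsoCompQ (ModuleCat.{u} k) 0).app _).symm
  obtain ⟨eV⟩ := GrothLib.KF.lBase_value α hE
  exact ⟨eV.symm ≪≫ (DRing.LBaseChange α).mapIso e ≪≫ eb ≪≫
    (shiftFunctor (Dual.D B) (n : ℤ)).mapIso ((RA ψb.toRingHom).mapIso ((bcD (A := k) (MvPolynomial (Fin n) k)).mapIso eK))⟩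

end BC

variable [IsNoetherianRing A] [Module.Flat R A] [Algebra.FinitePresentation R A] (hψ : Function.Surjective ψ)
  (p : PrimeSpectrum R) (q : PrimeSpectrum A) (Q : PrimeSpectrum (p.asIdeal.ResidueField ⊗[R] A))
  (hQ : Q.asIdeal.comap (Algebra.TensorProduct.includeRight : A →ₐ[R] p.asIdeal.ResidueField ⊗[R] A).toRingHom = q.asIdeal)

include hψ hQ in
/-- **Cohen–Macaulay fibres: the top degree is minus the fibre dimension.** -/
theorem top_of_isCM (hCM : LocCoh.IsCohenMacaulayLocalRing (Localization.AtPrime Q.asIdeal)) (d : ℕ)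
    (hd : FlatMor.localDim (PrimeSpectrum (p.asIdeal.ResidueField ⊗[R] A)) Q = (d : WithBot ℕ∞)) :
    q ∈ Module.support A (Dual.HD A (GP ψ (Dual.inD R R)) (-(d : ℤ))) ∧
      ∀ i : ℤ, -(d : ℤ) < i → q ∉ Module.support A (Dual.HD A (GP ψ (Dual.inD R R)) i) := by
  obtain ⟨E, b, hb, hf, ⟨e⟩⟩ := (isRelPerfect_GP ψ hψ).1
  have hE : GrothLib.KF.IsKFlat E := GrothLib.KF.isKFlat_of_bounded_above E b hb
    fun i => haveI := (hf i).2; inferInstanceAs (Module.Flat A (E.X i))
  let k := p.asIdeal.ResidueField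
  let B := k ⊗[R] A
  let α : A →+* B := (Algebra.TensorProduct.includeRight : A →ₐ[R] B).toRingHom
  haveI : Algebra.FiniteType k B := inferInstance
  haveI : IsNoetherianRing B := Algebra.FiniteType.isNoetherianRing k B
  let ψb := RelPC.bcPres (R' := k) ψ
  have hψb : Function.Surjective ψb := RelPC.bcPres_surjective ψ hψ
  obtain ⟨eW⟩ := nonempty_bc_fibre_iso ψ hψ hE e p
  have hsB : ∀ i, Module.support B (Dual.HD B (DRing.toD ((DR.bc α).obj E)) i) =
      Module.support B (Dual.HD B (GP ψb (Dual.inD k k)) i) := fun i =>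
    ((DerivedCategory.homologyFunctor (ModuleCat.{u} B) i).mapIso eW).toLinearEquiv.support_eq
  have hsA : ∀ i, Module.support A (Dual.HD A (DRing.toD E) i) =
      Module.support A (Dual.HD A (GP ψ (Dual.inD R R)) i) := fun i =>
    ((DerivedCategory.homologyFunctor (ModuleCat.{u} A) i).mapIso e).toLinearEquiv.support_eq
  simp only [← hsA]
  have hω := isDualizing_GP ψb hψb (isDualizing_field k)
  obtain ⟨i₀, hi₀, huniq⟩ := (GrothLib.DualRing.isCM_iff_existsUnique hω Q).1 hCM
  have hlo : -(d : ℤ) ≤ i₀ := neg_le_of_mem_support ψb hψb i₀ Q hd.le hi₀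
  have h0 : i₀ ≤ 0 := (support_bounds ψb hψb i₀ Q hi₀).1
  have hle : FlatMor.localDim (PrimeSpectrum B) Q ≤ (((-i₀).toNat : ℕ) : WithBot ℕ∞) :=
    localDim_le_of_minimal (k := k) Q fun Q₀ _ hle => by
      obtain ⟨j, hj⟩ := exists_mem_support hω Q₀
      have hjQ := Module.mem_support_mono hle hj
      obtain rfl : j = i₀ := huniq j hjQ
      exact (support_bounds ψb hψb j Q₀ hj).2.1
  rw [hd, Nat.cast_le] at hle
  obtain rfl : i₀ = -(d : ℤ) := by omega
  obtain ⟨⟨a', b', hab⟩, -, -⟩ := props_GP ψ hψ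
  have hout : ∀ i : ℤ, b' < i → q ∉ Module.support A (Dual.HD A (DRing.toD E) i) := fun i hi => by
    haveI := hab i (Or.inr hi)
    rw [hsA i, Module.support_eq_empty_iff.2 inferInstance]
    exact Set.notMem_empty q
  have step : ∀ i : ℤ, -(d : ℤ) < i → q ∉ Module.support A (Dual.HD A (DRing.toD E) i) := by
    suffices ∀ (m : ℕ) (i : ℤ), -(d : ℤ) < i → b' < i + m → q ∉ Module.support A (Dual.HD A (DRing.toD E) i) from
      fun i hi => this ((b' - i).toNat + 1) i hi (by omega)
    intro m
    induction m with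
    | zero => exact fun i _ hib => hout i (by omega)
    | succ m ih =>
      intro i hi hib hmem
      have := huniq i ((hsB i).le (mem_support_bc_top α E hb hf q Q hQ i (fun j hj => ih j (by omega) (by omega)) hmem))
      omega
  refine ⟨?_, step⟩
  by_contra hne
  exact notMem_support_bc_of_lt α E hb hf q Q hQ (-(d : ℤ) - 1)
    (fun j hj => if h : j = -(d : ℤ) then h ▸ hne else step j (by omega)) (-(d : ℤ)) (by omega) ((hsB _).ge hi₀)

include hψ hQ in
/-- **One degree near a point gives a Cohen–Macaulay fibre there.** -/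
theorem isCM_of_oneDeg (m : ℤ)
    (h : ∀ q' : PrimeSpectrum A, q' ≤ q → ∀ i : ℤ, i ≠ m → q' ∉ Module.support A (Dual.HD A (GP ψ (Dual.inD R R)) i)) :
    LocCoh.IsCohenMacaulayLocalRing (Localization.AtPrime Q.asIdeal) := by
  obtain ⟨E, b, hb, hf, ⟨e⟩⟩ := (isRelPerfect_GP ψ hψ).1
  have hE : GrothLib.KF.IsKFlat E := GrothLib.KF.isKFlat_of_bounded_above E b hb
    fun i => haveI := (hf i).2; inferInstanceAs (Module.Flat A (E.X i))
  let k := p.asIdeal.ResidueField
  let B := k ⊗[R] A
  let α : A →+* B := (Algebra.TensorProduct.includeRight : A →ₐ[R] B).toRingHom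
  haveI : Algebra.FiniteType k B := inferInstance
  haveI : IsNoetherianRing B := Algebra.FiniteType.isNoetherianRing k B
  let ψb := RelPC.bcPres (R' := k) ψ
  have hψb : Function.Surjective ψb := RelPC.bcPres_surjective ψ hψ
  obtain ⟨eW⟩ := nonempty_bc_fibre_iso ψ hψ hE e p
  have hsB : ∀ i, Module.support B (Dual.HD B (DRing.toD ((DR.bc α).obj E)) i) =
      Module.support B (Dual.HD B (GP ψb (Dual.inD k k)) i) := fun i =>
    ((DerivedCategory.homologyFunctor (ModuleCat.{u} B) i).mapIso eW).toLinearEquiv.support_eq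
  have hsA : ∀ i, Module.support A (Dual.HD A (DRing.toD E) i) =
      Module.support A (Dual.HD A (GP ψ (Dual.inD R R)) i) := fun i =>
    ((DerivedCategory.homologyFunctor (ModuleCat.{u} A) i).mapIso e).toLinearEquiv.support_eq
  simp only [← hsA] at h
  have hω := isDualizing_GP ψb hψb (isDualizing_field k)
  have hup : ∀ (Q' : PrimeSpectrum B) (j : ℤ), Q' ≤ Q →
      Q' ∈ Module.support B (Dual.HD B (GP ψb (Dual.inD k k)) j) → j ≤ m ∧
        Q' ∈ Module.support B (Dual.HD B (GP ψb (Dual.inD k k)) m) := fun Q' j hle hj => by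
    let q' : PrimeSpectrum A := PrimeSpectrum.comap α Q'
    have hq' : q' ≤ q := fun z hz => hQ.le ((Ideal.comap_mono hle : Ideal.comap α Q'.asIdeal ≤ Ideal.comap α Q.asIdeal) hz)
    rw [← hsB] at hj ⊢
    refine ⟨not_lt.1 fun hlt => notMem_support_bc_of_lt α E hb hf q' Q' rfl m
      (fun i hi => h q' hq' i (ne_of_gt hi)) j hlt hj, ?_⟩
    refine mem_support_bc_top α E hb hf q' Q' rfl m (fun i hi => h q' hq' i (ne_of_gt hi)) ?_
    by_contra hne
    exact notMem_support_bc_of_lt α E hb hf q' Q' rfl (j - 1)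
      (fun i _ => if hi : i = m then hi ▸ hne else h q' hq' i hi) j (by omega) hj
  obtain ⟨j₀, hj₀⟩ := exists_mem_support hω Q
  have hm0 : m ≤ 0 := (support_bounds ψb hψb m Q (hup Q j₀ le_rfl hj₀).2).1
  have hle : FlatMor.localDim (PrimeSpectrum B) Q ≤ (((-m).toNat : ℕ) : WithBot ℕ∞) :=
    localDim_le_of_minimal (k := k) Q fun Q₀ _ hle => by
      obtain ⟨j, hj⟩ := exists_mem_support hω Q₀
      exact (support_bounds ψb hψb m Q₀ (hup Q₀ j hle hj).2).2.1
  refine (GrothLib.DualRing.isCM_iff_support hω Q).2 fun i j hi hj => ?_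
  have h1 := neg_le_of_mem_support ψb hψb i Q hle hi
  have h2 := neg_le_of_mem_support ψb hψb j Q hle hj
  have h3 := (hup Q i le_rfl hi).1
  have h4 := (hup Q j le_rfl hj).1
  omega

end Relative

end GrothLib.ShriekBridge22
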