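import Groth.Agent.Lib.ShriekBridge22.FieldPoints2
import Groth.Agent.Lib.DualRing.RelNormalized

/-! # The dualizing complex of a proper scheme over a local ring -/

set_option autoImplicit false
set_option linter.style.haveILetI false
set_option maxHeartbeats 1000000
universe u

open CategoryTheory CategoryTheory.Limits AlgebraicGeometry GrothLib.OX

attribute [local instance] HasDerivedCategory.standard
attribute [local instance] GrothLib.DualRing.Shriek.pfl_of_flat

noncomputable section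

namespace GrothLib.ShriekBridge22

/-- A saturated chain has the length of the difference of a grading. -/
theorem exists_series_of_grading {α : Type u} [PartialOrder α] (F : α → ℤ) (hF : StrictMono F)
    (hc : ∀ x y : α, x ⋖ y → F y = F x + 1) (q r : α) (h : r ≤ q) :
    ∃ l : LTSeries α, l.head = r ∧ l.last = q ∧ (l.length : ℤ) = F q - F r := by
  suffices ∀ (N : ℕ) (r : α), r ≤ q → (F q - F r).toNat = N →
      ∃ l : LTSeries α, l.head = r ∧ l.last = q ∧ (l.length : ℤ) = F q - F r from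
    this _ r h rfl
  intro N
  induction N using Nat.strong_induction_on with
  | _ N ih =>
    intro r hr hN
    rcases hr.eq_or_lt with rfl | hlt
    · exact ⟨RelSeries.singleton _ r, rfl, rfl, by simp⟩
    classical
    have hex : ∃ m : ℕ, ∃ s : α, r < s ∧ s ≤ q ∧ (F s - F r).toNat = m :=
      ⟨_, q, hlt, le_rfl, rfl⟩
    obtain ⟨s, hrs, hsq, hm⟩ := Nat.find_spec hex
    have hcov : r ⋖ s := ⟨hrs, fun t hrt hts => by
      have h1 := hF hts
      have h2 := hF hrt
      exact Nat.find_min hex (m := (F t - F r).toNat) (by omega) ⟨t, hrt, hts.le.trans hsq, rfl⟩⟩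
    have h3 := hc r s hcov
    have h4 := hF.monotone hsq
    obtain ⟨l, hl1, hl2, hl3⟩ := ih (F q - F s).toNat (by omega) s hsq rfl
    exact ⟨RelSeries.cons l r (hl1 ▸ hrs), RelSeries.head_cons _ _ _, (RelSeries.last_cons _ _ _).trans hl2,
      by rw [RelSeries.cons_length]; push_cast; omega⟩

section Ring

open GrothLib.DualRing GrothLib.DualRing.Shriek GrothLib.DualCx22

variable {R : Type u} [CommRing R] [IsLocalRing R] [IsNoetherianRing R] {ω : Dual.D R}
  (hω : Dual.IsDualizing R ω) (hn : Dual.IsNormalized R ω)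
  {B : Type u} [CommRing B] [Algebra R B] {n : ℕ} (ψ : MvPolynomial (Fin n) R →ₐ[R] B)

include hω hn in
/-- The pulled back dualizing complex is normalized at closed points over the closed point. -/
theorem subsingleton_max_local (hψ : Function.Surjective ψ) (m : Ideal B) [m.IsMaximal]
    (hm : m.comap (algebraMap R B) = IsLocalRing.maximalIdeal R) (i : ℤ) (hi : i ≠ 0) :
    Subsingleton (Dual.inD B (B ⧸ m) ⟶ (GP ψ ω)⟦i⟧) := by
  let P := MvPolynomial (Fin n) R
  let φ := ψ.toRingHom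
  let M := m.comap φ
  haveI : M.IsMaximal := Ideal.comap_isMaximal_of_surjective φ hψ
  haveI : PreservesFiniteLimits (bcMod (A := R) (MvPolynomial (Fin n) R)) := pfl_of_flat R
  have hM : M.comap (algebraMap R P) = IsLocalRing.maximalIdeal R := by
    refine Eq.trans ?_ hm
    ext x
    exact iff_of_eq (congrArg (· ∈ m) (ψ.commutes x))
  have hs : Subsingleton (EH ((extD (algebraMap R P)).obj ω) (Dual.inD P (P ⧸ M)) ((n : ℤ) + i)) :=
    subsingleton_residue_mvPolynomial hω hn n M hM _ (by omega)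
  let X := (extD (algebraMap R P)).obj ω
  obtain ⟨e₁⟩ := nonempty_RA_shift φ X ((n : ℤ) + i)
  let t : (GP ψ ω)⟦i⟧ ≅ (RA φ).obj (X⟦(n : ℤ) + i⟧) :=
    ((shiftFunctorAdd (Dual.D B) (n : ℤ) i).app _).symm ≪≫ e₁.symm
  letI : Module P (B ⧸ m) := Module.compHom _ φ
  let g : (P ⧸ M) ≃ₗ[P] (B ⧸ m) :=
    LinearEquiv.ofBijective
      (Submodule.liftQ M
        { toFun := fun x => Ideal.Quotient.mk m (φ x)
          map_add' := fun x y => by rw [map_add, map_add]
          map_smul' := fun x y => by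
            simp only [smul_eq_mul, map_mul, RingHom.id_apply]; rfl }
        fun x hx => Ideal.Quotient.eq_zero_iff_mem.2 hx)
      ⟨(injective_iff_map_eq_zero _).2 fun x hx => by
          obtain ⟨x, rfl⟩ := Submodule.mkQ_surjective _ x
          exact (Submodule.Quotient.mk_eq_zero _).2 ((Ideal.Quotient.eq_zero_iff_mem (I := m)).1 hx),
        fun y => by
          obtain ⟨b, rfl⟩ := Ideal.Quotient.mk_surjective y
          obtain ⟨x, rfl⟩ := hψ b
          exact ⟨Submodule.Quotient.mk x, rfl⟩⟩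
  let s : Dual.inD P (P ⧸ M) ≅ (DRing.restrictD φ).obj (Dual.inD B (B ⧸ m)) :=
    (DerivedCategory.singleFunctor (ModuleCat.{u} P) 0).mapIso g.toModuleIso ≪≫
      (((ModuleCat.restrictScalars.{u} φ).mapDerivedCategorySingleFunctor 0).app (ModuleCat.of B (B ⧸ m))).symm
  haveI := hs
  exact ((Iso.homCongr (Iso.refl _) t).trans (((radj φ).homEquiv _ _).symm.trans
    (Iso.homCongr s.symm (Iso.refl (X⟦(n : ℤ) + i⟧))))).subsingleton

variable [IsNoetherianRing B]

include hω hn in
theorem deg_max_local (hψ : Function.Surjective ψ) (m : Ideal B) [m.IsMaximal]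
    (hm : m.comap (algebraMap R B) = IsLocalRing.maximalIdeal R) :
    deg (isDualizing_GP ψ hψ hω) m = 0 := by
  by_contra hne
  haveI := subsingleton_max_local hω hn ψ hψ m hm _ hne
  exact one_ne_zero ((mu_deg (isDualizing_GP ψ hψ hω) m).symm.trans len_eq_zero_of_subsingleton)

/-- The degree window at a point of the support. -/
theorem exists_deg_bounds {A : Type u} [CommRing A] [IsNoetherianRing A] {κ : Dual.D A}
    (hκ : Dual.IsDualizing A κ) {i : ℤ} {q : PrimeSpectrum A} (hq : q ∈ Module.support A (Dual.HD A κ i)) :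
    i ≤ degS hκ q ∧ ∃ r : PrimeSpectrum A, r.asIdeal ∈ minimalPrimes A ∧ r ≤ q ∧ degS hκ r ≤ i := by
  rw [← (exists_hom_ring_equiv κ i).some.support_eq] at hq
  obtain ⟨r, hr, hrq, -, h1, h2⟩ := exists_quotient_bounds hκ A
    ((nontrivial_localized_iff q.asIdeal _).1 (Module.mem_support_iff.1 hq))
  haveI := hr
  obtain ⟨r₀, hr₀, hle⟩ := Ideal.exists_minimalPrimes_le (bot_le : (⊥ : Ideal A) ≤ r)
  have h4 := (degS_strictMono hκ).monotone (show (⟨r₀, hr₀.isPrime⟩ : PrimeSpectrum A) ≤ ⟨r, hr⟩ from hle)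
  simp only [degS] at h4 ⊢
  exact ⟨h2, ⟨r₀, hr₀.isPrime⟩, hr₀, hle.trans hrq, h4.trans h1⟩

end Ring

section Scheme

/-- Every point specialises to a closed point. -/
theorem exists_closed_specialisation {X S : Scheme.{u}} [CompactSpace S] (f : X ⟶ S) [QuasiCompact f] (x : X) :
    ∃ c : X, IsClosed ({c} : Set X) ∧ x ⤳ c := by
  haveI : CompactSpace X := QuasiCompact.compactSpace_of_compactSpace f
  obtain ⟨c, hc, hcl⟩ := (isClosed_closure (s := ({x} : Set X))).exists_closed_singleton ⟨x, subset_closure rfl⟩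
  exact ⟨c, hcl, specializes_iff_mem_closure.2 hc⟩

variable {A : Type u} [CommRing A] [IsLocalRing A] [IsNoetherianRing A] {ω : Dual.D A}
  (hω : Dual.IsDualizing A ω) (hn : Dual.IsNormalized A ω)
  {X : Scheme.{u}} [∀ R : CommRingCat.{u}, PreservesFiniteLimits (tilde.functor R)]
  (f : X ⟶ Spec (CommRingCat.of A)) [IsProper f] [DCoh.HasRpush f] (hf : DCoh.RpushPreservesQCoh f)
  {a : DCoh.DQCoh (Spec (CommRingCat.of A)) ⥤ DCoh.DQCoh X} (adj : DCoh.RpushQ f hf ⊣ a)
  (W : DCoh.DQCoh (Spec (CommRingCat.of A)))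
  (hW : Nonempty (W.obj ≅ (DCoh.tildeD (CommRingCat.of A)).obj ω))

include adj hW hω in
theorem exists_local_chart (U : X.Opens) (hU : IsAffineOpen U) :
    ∃ (_ : Algebra A Γ(X, U)) (n : ℕ) (ψ : MvPolynomial (Fin n) A →ₐ[A] Γ(X, U)),
      Function.Surjective ψ ∧ IsNoetherianRing Γ(X, U) ∧
      Nonempty ((resD hU.fromSpec).obj (a.obj W).obj ≅ (DCoh.tildeD Γ(X, U)).obj (DualRing.Shriek.GP ψ ω)) ∧
      ∀ P : PrimeSpectrum Γ(X, U), P.asIdeal.comap (algebraMap A Γ(X, U)) = (f (hU.fromSpec P)).asIdeal := by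
  let φ : CommRingCat.of A ⟶ Γ(X, U) := Spec.preimage (hU.fromSpec ≫ f)
  have w : Spec.map φ = hU.fromSpec ≫ f := Spec.map_preimage _
  letI : Algebra A Γ(X, U) := φ.hom.toAlgebra
  have hft0 : φ.hom.FiniteType :=
    (HasRingHomProperty.Spec_iff (P := @LocallyOfFiniteType)).1
      (w ▸ (inferInstance : LocallyOfFiniteType (hU.fromSpec ≫ f)))
  have hft : Algebra.FiniteType A Γ(X, U) := hft0
  obtain ⟨n, ψ, hψ⟩ := Algebra.FiniteType.iff_quotient_mvPolynomial''.1 hft
  refine ⟨inferInstance, n, ψ, hψ, Algebra.FiniteType.isNoetherianRing A Γ(X, U), ?_, fun P => ?_⟩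
  swap
  · show (Spec.map φ P).asIdeal = _
    rw [w, Scheme.Hom.comp_apply]
  obtain ⟨eW⟩ := hW
  obtain ⟨c, d, hcd⟩ := hω.finite_injective_dimension
  haveI : ω.IsGE c := GrothLib.DualCx22.isGE_of_hom_ring ω c fun i hi => hcd A i (Or.inl hi)
  haveI : W.obj.IsGE c := (DerivedCategory.isGE_iff _ c).2 fun i hi =>
    ((tilde.functor (CommRingCat.of A)).map_isZero (DerivedCategory.isZero_of_isGE ω c i hi)).of_iso
      ((DerivedCategory.homologyFunctor _ i).mapIso eW ≪≫ HDTildeIso (R := CommRingCat.of A) ω i :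
        (DerivedCategory.homologyFunctor (Spec (CommRingCat.of A)).Modules i).obj W.obj ≅ _)
  let eV : (resD (𝟙 (Spec (CommRingCat.of A)))).obj W.obj ≅ (DCoh.tildeD (CommRingCat.of A)).obj ω :=
    (RightAdj22.resDIdIso _).app _ ≪≫ eW
  let KB : RightAdj22.BQ (Spec (CommRingCat.of A)) := ⟨W, c, ‹_›⟩
  obtain ⟨r⟩ := nonempty_shB_chart (𝟙 X) f (Category.id_comp f) (𝟙 _) hU.fromSpec
    (by rw [Category.comp_id]; exact w.symm) ψ hψ KB _ eV
  let e : ((RightAdj22.shB (𝟙 X) f).obj KB).obj.obj ≅ (a.obj W).obj :=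
    (RightAdj22.resDIdIso X).app _ ≪≫ (ObjectProperty.ι _).mapIso ((RightAdj22.aQUniq f hf adj).app W).symm
  exact ⟨(resD hU.fromSpec).mapIso e.symm ≪≫ r⟩

include adj hW hω hn in
/-- A chart around a closed point on which the degree of that point is zero. -/
theorem exists_closed_chart {c : X} (hc : IsClosed ({c} : Set X)) :
    ∃ (U : X.Opens) (hU : IsAffineOpen U) (hcU : c ∈ U) (_ : IsNoetherianRing Γ(X, U))
      (κ : Dual.D Γ(X, U)) (hκ : Dual.IsDualizing Γ(X, U) κ),
      Nonempty ((resD hU.fromSpec).obj (a.obj W).obj ≅ (DCoh.tildeD Γ(X, U)).obj κ) ∧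
        DualRing.degS hκ (hU.primeIdealOf ⟨c, hcU⟩) = 0 := by
  obtain ⟨U, hU', hcU, -⟩ := exists_isAffineOpen_mem_and_subset (x := c) (U := ⊤) trivial
  have hU : IsAffineOpen U := hU'
  obtain ⟨_, n, ψ, hψ, _, he, hcomap⟩ := exists_local_chart hω f hf adj W hW U hU
  refine ⟨U, hU, hcU, inferInstance, _, isDualizing_GP ψ hψ hω, he, ?_⟩
  let P := hU.primeIdealOf ⟨c, hcU⟩
  haveI : P.asIdeal.IsMaximal := by
    rw [← PrimeSpectrum.isClosed_singleton_iff_isMaximal]
    have h : hU.fromSpec ⁻¹' ({c} : Set X) = {P} := by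
      ext q
      simp only [Set.mem_preimage, Set.mem_singleton_iff]
      refine ⟨fun h => hU.fromSpec.isOpenEmbedding.injective (h.trans (hU.fromSpec_primeIdealOf ⟨c, hcU⟩).symm),
        fun h => h ▸ hU.fromSpec_primeIdealOf ⟨c, hcU⟩⟩
    have h2 := hc.preimage hU.fromSpec.continuous
    rw [h] at h2
    exact h2
  refine deg_max_local hω hn ψ hψ P.asIdeal ?_
  rw [hcomap, hU.fromSpec_primeIdealOf]
  have h3 : IsClosed ({f c} : Set (Spec (CommRingCat.of A))) := by
    simpa using f.isClosedMap {c} hc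
  exact IsLocalRing.eq_maximalIdeal ((PrimeSpectrum.isClosed_singleton_iff_isMaximal _).1 h3)

omit [∀ R : CommRingCat.{u}, PreservesFiniteLimits (tilde.functor R)] in
/-- A chain in one chart, seen in another chart containing a specialisation of its last point. -/
theorem exists_series_transfer {U V : X.Opens} (hU : IsAffineOpen U) (hV : IsAffineOpen V)
    (l : LTSeries (PrimeSpectrum Γ(X, U))) {c : X} (hc : c ∈ V) (hlc : hU.fromSpec l.last ⤳ c) :
    ∃ l' : LTSeries (PrimeSpectrum Γ(X, V)), l'.length = l.length ∧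
      hV.fromSpec l'.head = hU.fromSpec l.head ∧ l'.last.asIdeal ≤ (hV.primeIdealOf ⟨c, hc⟩).asIdeal := by
  have hiU := hU.fromSpec.isOpenEmbedding.isInducing
  have hiV := hV.fromSpec.isOpenEmbedding.isInducing
  have hmem : ∀ i, hU.fromSpec (l i) ∈ V := fun i =>
    ((hiU.specializes_iff.2 ((PrimeSpectrum.le_iff_specializes _ _).1 (l.monotone (Fin.le_last i)))).trans hlc).mem_open
      V.2 hc
  let g : Fin (l.length + 1) → PrimeSpectrum Γ(X, V) := fun i => hV.primeIdealOf ⟨_, hmem i⟩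
  have hg : ∀ i, hV.fromSpec (g i) = hU.fromSpec (l i) := fun i => hV.fromSpec_primeIdealOf ⟨_, hmem i⟩
  refine ⟨LTSeries.mk l.length g (fun i j hij => ?_), rfl, hg 0, ?_⟩
  · have hle : (l i).asIdeal ≤ (l j).asIdeal := (l.strictMono hij).le
    have h1 : hV.fromSpec (g i) ⤳ hV.fromSpec (g j) := by
      rw [hg, hg]; exact hiU.specializes_iff.2 ((PrimeSpectrum.le_iff_specializes _ _).1 hle)
    refine lt_of_le_of_ne ((PrimeSpectrum.le_iff_specializes _ _).2 (hiV.specializes_iff.1 h1)) fun h => ?_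
    exact (l.strictMono hij).ne (hU.fromSpec.isOpenEmbedding.injective ((hg i).symm.trans ((congrArg _ h).trans (hg j))))
  · refine (PrimeSpectrum.le_iff_specializes _ _).2 (hiV.specializes_iff.1 ?_)
    show hV.fromSpec (g (Fin.last _)) ⤳ _
    rw [hg, hV.fromSpec_primeIdealOf]
    exact hlc

end Scheme

end GrothLib.ShriekBridge22
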