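import Groth.Agent.Lib.ShriekBridge22.Chart
import Groth.Agent.Lib.ShriekBridge22.Affine
import Groth.Agent.Lib.RightAdj22.Shriek

/-! # The upper shriek of an affine morphism of finite type is the algebraic one -/

set_option autoImplicit false
set_option maxHeartbeats 1000000
set_option linter.style.haveILetI false
universe u

open CategoryTheory CategoryTheory.Limits AlgebraicGeometry GrothLib.OX

attribute [local instance] HasDerivedCategory.standard
attribute [local instance] GrothLib.DualRing.Shriek.pfl_of_flat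

noncomputable section

namespace GrothLib.ShriekBridge22

open GrothLib.RightAdj22

variable {A B : Type u} [CommRing A] [IsNoetherianRing A] [CommRing B] [Algebra A B] {n : ℕ}

/-- **`f^!` for `Spec B → Spec A` is computed by a presentation.** -/
theorem nonempty_shB_affine [∀ R : CommRingCat.{u}, PreservesFiniteLimits (tilde.functor R)]
    (ψ : MvPolynomial (Fin n) A →ₐ[A] B) (hψ : Function.Surjective ψ) {W : Scheme.{u}}
    (j : Spec (CommRingCat.of B) ⟶ W) (p : W ⟶ Spec (CommRingCat.of A)) [IsOpenImmersion j] [IsProper p]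
    (hjp : j ≫ p = Spec.map (CommRingCat.ofHom (algebraMap A B)))
    (K : BQ (Spec (CommRingCat.of A))) (L : Dual.D A)
    (e : K.obj.obj ≅ (DCoh.tildeD (CommRingCat.of A)).obj L) :
    Nonempty (((shB j p).obj K).obj.obj ≅
      (DCoh.tildeD (CommRingCat.of B)).obj (DualRing.Shriek.GP ψ L)) := by
  let P := MvPolynomial (Fin n) A
  let φ : CommRingCat.of P ⟶ CommRingCat.of B := CommRingCat.ofHom ψ.toRingHom
  haveI : IsClosedImmersion (Spec.map φ) := IsClosedImmersion.spec_of_surjective φ hψ
  haveI : IsProper (CohB1.ProjSpace.toSpec n A) := Chow.isProper_toSpec n A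
  haveI : IsNoetherian (Spec (CommRingCat.of P)) := inferInstance
  have h : j ≫ p = Spec.map φ ≫ Spec.map (CommRingCat.ofHom (algebraMap A P)) := by
    rw [hjp, ← Spec.map_comp]
    exact congrArg Spec.map (CommRingCat.hom_ext (RingHom.ext fun a => (ψ.commutes a).symm))
  obtain ⟨c⟩ := nonempty_shB_comp (𝟙 _) (Spec.map φ) (chartHom A n) (CohB1.ProjSpace.toSpec n A) j p
    (Category.id_comp _) (chartHom_toSpec A n) h
  let K' := (shB (chartHom A n) (CohB1.ProjSpace.toSpec n A)).obj K
  obtain ⟨e₁⟩ := nonempty_resD_aQ_proj A n K.obj L e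
  obtain ⟨e₂⟩ := nonempty_aQ_spec φ K'.obj (((DualRing.Shriek.extD (algebraMap A P)).obj L)⟦(n : ℤ)⟧) e₁
  obtain ⟨e₃⟩ := DualRing.Shriek.nonempty_RA_shift ψ.toRingHom ((DualRing.Shriek.extD (algebraMap A P)).obj L) (n : ℤ)
  exact ⟨(BQι _).mapIso (c.app K) ≪≫ (resDIdIso _).app _ ≪≫ e₂ ≪≫ (DCoh.tildeD _).mapIso e₃⟩

end GrothLib.ShriekBridge22
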