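import Groth.Agent.Lib.OX.ExtZeroD
import Groth.Agent.Lib.OX.GluePerfect
import Groth.Agent.Lib.OX.ClosedPush
import Groth.Agent.Lib.KSix19.ImmPC
import Groth.Agent.Lib.KSix19.ProjPush.PCoh
import Groth.Agent.Lib.RelPCUnb.Model
import Groth.Agent.Lib.RelAmp22.Charts
import Groth.Agent.Lib.RelDual22.Rows
import Groth.Agent.Lib.BCPerf20.AffineBC
import Groth.Agent.Lib.ShriekBridge22.SelfHom
import Groth.Prelude.Def_Dual3

/-! # A relative dualizing pair on affine charts -/

set_option autoImplicit false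
set_option linter.style.haveILetI false
set_option maxHeartbeats 1000000
universe u

open CategoryTheory CategoryTheory.Limits AlgebraicGeometry GrothLib.OX
open scoped TensorProduct

attribute [local instance] HasDerivedCategory.standard
attribute [local instance] GrothLib.DualRing.Shriek.pfl_of_flat

noncomputable section

namespace GrothLib.ShriekBridge22

section Ext

variable {U X Z W : Scheme.{u}} (Δ : X ⟶ Z) [IsClosedImmersion Δ] (j : U ⟶ X) [IsOpenImmersion j] (J : W ⟶ Z)
  [IsOpenImmersion J] (δ : U ⟶ W)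

/-- Direct image along a closed immersion commutes with extension by zero. -/
theorem nonempty_pushExtIso (hsq : δ ≫ J = j ≫ Δ) (hr : j.opensRange = Δ ⁻¹ᵁ J.opensRange) :
    Nonempty (CxOX.extZero j ⋙ Scheme.Modules.pushforward Δ ≅ Scheme.Modules.pushforward δ ⋙ CxOX.extZero J) := by
  obtain ⟨e⟩ := KSix19.nonempty_push_restrict_square Δ δ j J hsq hr
  let adj := CxOX.extZeroAdj J
  let aj := CxOX.extZeroAdj j
  let t : Scheme.Modules.pushforward δ ⟶
      CxOX.extZero j ⋙ Scheme.Modules.pushforward Δ ⋙ Scheme.Modules.restrictFunctor J :=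
    Functor.whiskerRight aj.unit (Scheme.Modules.pushforward δ) ≫ Functor.whiskerLeft (CxOX.extZero j) e.inv
  let φ : ∀ N, (CxOX.extZero J).obj ((Scheme.Modules.pushforward δ).obj N) ⟶
      (Scheme.Modules.pushforward Δ).obj ((CxOX.extZero j).obj N) := fun N => (adj.homEquiv _ _).symm (t.app N)
  have ht : ∀ N, IsIso (t.app N) := fun N => by
    haveI : IsIso (aj.unit.app N) := inferInstance
    simp only [t, NatTrans.comp_app, Functor.whiskerRight_app, Functor.whiskerLeft_app]
    infer_instance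
  have hφ : ∀ N, IsIso (φ N) := fun N => by
    haveI := ht N
    haveI hu : IsIso (adj.unit.app ((Scheme.Modules.pushforward δ).obj N)) := inferInstance
    haveI hres : IsIso ((Scheme.Modules.restrictFunctor J).map (φ N)) := by
      have h : adj.unit.app _ ≫ (Scheme.Modules.restrictFunctor J).map (φ N) = t.app N :=
        (adj.homEquiv_unit _ _ _).symm.trans ((adj.homEquiv _ _).apply_symm_apply _)
      exact IsIso.of_isIso_fac_left h
    refine (OX.isIso_iff (φ N)).2 fun z => ?_
    by_cases hz : z ∈ Set.range J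
    · obtain ⟨y, rfl⟩ := hz
      haveI := mono_stalk_map_of_restrict J (φ N) y inferInstance
      haveI := epi_stalk_map_of_restrict J (φ N) y inferInstance
      exact isIso_of_mono_of_epi _
    · have h1 : IsZero ((stalk z).obj ((CxOX.extZero J).obj ((Scheme.Modules.pushforward δ).obj N))) :=
        isZero_stalk_extZero J _ z hz
      have h2 : IsZero ((stalk z).obj ((Scheme.Modules.pushforward Δ).obj ((CxOX.extZero j).obj N))) := by
        by_cases hzΔ : z ∈ Set.range Δ
        · obtain ⟨x, rfl⟩ := hzΔ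
          refine IsZero.of_iso ((ModuleCat.restrictScalars (Δ.stalkMap x).hom).map_isZero
            (isZero_stalk_extZero j N x ?_)) ((pushStalkIso Δ x).app _)
          intro hx
          have : x ∈ Δ ⁻¹ᵁ J.opensRange := hr ▸ hx
          exact hz this
        · exact isZero_stalk_push Δ _ z hzΔ
      exact ⟨0, h1.eq_of_src _ _, h2.eq_of_src _ _⟩
  exact ⟨(NatIso.ofComponents (fun N => @asIso _ _ _ _ (φ N) (hφ N)) fun {N N'} g => by
    refine (adj.homEquiv_naturality_left_symm _ _).symm.trans ?_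
    refine (congrArg (adj.homEquiv _ _).symm (t.naturality g)).trans ?_
    exact adj.homEquiv_naturality_right_symm _ _).symm⟩

variable [PreservesFiniteLimits (Scheme.Modules.pushforward Δ)] [PreservesFiniteColimits (Scheme.Modules.pushforward Δ)]
  [PreservesFiniteLimits (Scheme.Modules.pushforward δ)] [PreservesFiniteColimits (Scheme.Modules.pushforward δ)]

/-- Direct image along a closed immersion commutes with `j_!` on derived categories. -/
theorem nonempty_pushDExtIso (hsq : δ ≫ J = j ≫ Δ) (hr : j.opensRange = Δ ⁻¹ᵁ J.opensRange) :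
    Nonempty (CxOX.extZeroD j ⋙ Dual3.pushD Δ ≅ Dual3.pushD δ ⋙ CxOX.extZeroD J) := by
  obtain ⟨e⟩ := nonempty_pushExtIso Δ j J δ hsq hr
  haveI : PreservesFiniteLimits (CxOX.extZero j ⋙ Scheme.Modules.pushforward Δ) := comp_preservesFiniteLimits _ _
  haveI : PreservesFiniteColimits (CxOX.extZero j ⋙ Scheme.Modules.pushforward Δ) := comp_preservesFiniteColimits _ _
  exact ⟨DerCat.mapDerivedCompIso (CxOX.extZero j) (Scheme.Modules.pushforward Δ)
      (CxOX.extZero j ⋙ Scheme.Modules.pushforward Δ) (Iso.refl _) ≪≫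
    (DerCat.mapDerivedCompIso (Scheme.Modules.pushforward δ) (CxOX.extZero J)
      (CxOX.extZero j ⋙ Scheme.Modules.pushforward Δ) e.symm).symm⟩

/-- A map bijective on maps out of `j_!A`, restricted to the chart. -/
theorem exists_bijective_push (hsq : δ ≫ J = j ≫ Δ) (hr : j.opensRange = Δ ⁻¹ᵁ J.opensRange) (A : DCoh.D U)
    {N : DCoh.D X} {L : DCoh.D Z} (κ : (Dual3.pushD Δ).obj N ⟶ L)
    (h : Function.Bijective fun φ : (CxOX.extZeroD j).obj A ⟶ N => (Dual3.pushD Δ).map φ ≫ κ) :
    ∃ θ : (Dual3.pushD δ).obj ((resD j).obj N) ⟶ (resD J).obj L,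
      Function.Bijective fun a : A ⟶ (resD j).obj N => (Dual3.pushD δ).map a ≫ θ := by
  obtain ⟨e⟩ := nonempty_pushDExtIso Δ j J δ hsq hr
  let adj := extZeroDAdj J
  let aj := extZeroDAdj j
  let P := Dual3.pushD Δ
  let Q := Dual3.pushD δ
  let θ : Q.obj ((resD j).obj N) ⟶ (resD J).obj L :=
    adj.homEquiv _ _ (e.inv.app ((resD j).obj N) ≫ P.map (aj.counit.app N) ≫ κ)
  refine ⟨θ, ?_⟩
  have key : ∀ a : A ⟶ (resD j).obj N,
      e.hom.app A ≫ (adj.homEquiv _ _).symm (Q.map a ≫ θ) = P.map ((aj.homEquiv A N).symm a) ≫ κ := fun a => by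
    rw [adj.homEquiv_naturality_left_symm]
    show e.hom.app A ≫ (CxOX.extZeroD J).map (Q.map a) ≫ (adj.homEquiv _ _).symm
      (adj.homEquiv _ _ (e.inv.app ((resD j).obj N) ≫ P.map (aj.counit.app N) ≫ κ)) = _
    rw [Equiv.symm_apply_apply, aj.homEquiv_counit, Functor.map_comp, Category.assoc]
    have h1 : e.hom.app A ≫ (CxOX.extZeroD J).map (Q.map a) =
        P.map ((CxOX.extZeroD j).map a) ≫ e.hom.app ((resD j).obj N) := (e.hom.naturality a).symm
    rw [reassoc_of% h1, Iso.hom_inv_id_app_assoc]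
  have e2 : (fun a : A ⟶ (resD j).obj N => Q.map a ≫ θ) = (adj.homEquiv _ _) ∘ (fun t => e.inv.app A ≫ t) ∘
      (fun φ : (CxOX.extZeroD j).obj A ⟶ N => P.map φ ≫ κ) ∘ (aj.homEquiv A N).symm := funext fun a => by
    show _ = adj.homEquiv _ _ (e.inv.app A ≫ (P.map ((aj.homEquiv A N).symm a) ≫ κ))
    rw [← key a, Iso.inv_hom_id_app_assoc, Equiv.apply_symm_apply]
  show Function.Bijective fun a : A ⟶ (resD j).obj N => Q.map a ≫ θ
  rw [e2]
  exact (adj.homEquiv _ _).bijective.comp (Function.Bijective.comp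
    ⟨fun a b hab => (cancel_epi (e.inv.app A)).1 hab, fun b => ⟨e.hom.app A ≫ b, Iso.inv_hom_id_app_assoc e A b⟩⟩
    (h.comp (aj.homEquiv A N).symm.bijective))

end Ext

section Chart

variable {X S : Scheme.{u}} (f : X ⟶ S) [Flat f] [LocallyOfFinitePresentation f] [IsSeparated f]
  [DCoh.HasLpull (pullback.fst f f)] [PreservesFiniteLimits (Scheme.Modules.pushforward (pullback.diagonal f))]
  [PreservesFiniteColimits (Scheme.Modules.pushforward (pullback.diagonal f))]

/-- **A relative dualizing complex is the upper shriek of the base on every affine chart.** -/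
theorem nonempty_chart_iso_GP {K : DCoh.D X} (hK : Dual3.IsRelDualizing f K) {U : X.Opens} (hU : IsAffineOpen U)
    {V : S.Opens} (hV : IsAffineOpen V) (hUV : U ≤ f ⁻¹ᵁ V) {n : ℕ}
    (ψ : letI := (f.appLE V U hUV).hom.toAlgebra; MvPolynomial (Fin n) Γ(S, V) →ₐ[Γ(S, V)] Γ(X, U))
    (hψ : Function.Surjective ψ) :
    letI := (f.appLE V U hUV).hom.toAlgebra
    Nonempty ((resD hU.fromSpec).obj K ≅
      (DCoh.tildeD Γ(X, U)).obj (DualRing.Shriek.GP ψ (Dual.inD Γ(S, V) Γ(S, V)))) := by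
  haveI : ∀ R : CommRingCat.{u}, PreservesFiniteLimits (tilde.functor R) := OX.preservesFiniteLimits_tildeGen
  obtain ⟨ξ, hpc, htor, hbij⟩ := hK
  letI := (f.appLE V U hUV).hom.toAlgebra
  let R : Type u := Γ(S, V)
  let A : Type u := Γ(X, U)
  haveI : Module.Flat R A := f.flat_appLE hV hU hUV
  haveI : Algebra.FinitePresentation R A := f.finitePresentation_appLE hV hU hUV
  let j : Spec (CommRingCat.of A) ⟶ X := hU.fromSpec
  haveI : IsOpenImmersion j := inferInstanceAs (IsOpenImmersion hU.fromSpec)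
  obtain ⟨M, ⟨eM⟩⟩ := exists_tildeD_rep (R := CommRingCat.of A) (KSix19.ProjPush.isQCohD_of_pc hpc) j
  have hMperf : Dual2.IsRelPerfect R A M :=
    RelAmp22.isRelPerfect_chart (f := f) ⟨hpc, htor⟩ hU hV hUV M eM.symm
  let l : A →+* A ⊗[R] A := Algebra.TensorProduct.includeLeftRingHom
  let r : A →+* A ⊗[R] A := (Algebra.TensorProduct.includeRight : A →ₐ[R] A ⊗[R] A).toRingHom
  let μ : A ⊗[R] A →+* A := RelDual22.mu R A
  let φ := CommRingCat.ofHom (algebraMap R A)
  have sq : IsPullback (Spec.map (CommRingCat.ofHom l)) (Spec.map (CommRingCat.ofHom r)) (Spec.map φ) (Spec.map φ) :=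
    isPullback_SpecMap_of_isPushout _ _ _ _ (CommRingCat.isPushout_tensorProduct R A A)
  have hφ : Spec.map φ ≫ hV.fromSpec = j ≫ f := IsAffineOpen.SpecMap_appLE_fromSpec f hV hU hUV
  let m : pullback (Spec.map φ) (Spec.map φ) ⟶ pullback f f :=
    pullback.map _ _ f f j j hV.fromSpec hφ hφ
  haveI : IsOpenImmersion m := inferInstance
  let J : Spec (CommRingCat.of (A ⊗[R] A)) ⟶ pullback f f := sq.isoPullback.hom ≫ m
  haveI : IsOpenImmersion J := inferInstance
  let δ : Spec (CommRingCat.of A) ⟶ Spec (CommRingCat.of (A ⊗[R] A)) := Spec.map (CommRingCat.ofHom μ)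
  have hw : J ≫ pullback.fst f f = OX.specHom l ≫ j := by
    show (sq.isoPullback.hom ≫ m) ≫ _ = _
    rw [Category.assoc, show m ≫ pullback.fst f f = pullback.fst _ _ ≫ j from pullback.lift_fst _ _ _,
      ← Category.assoc, sq.isoPullback_hom_fst]
  have hw' : J ≫ pullback.snd f f = OX.specHom r ≫ j := by
    show (sq.isoPullback.hom ≫ m) ≫ _ = _
    rw [Category.assoc, show m ≫ pullback.snd f f = pullback.snd _ _ ≫ j from pullback.lift_snd _ _ _,
      ← Category.assoc, sq.isoPullback_hom_snd]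
  have hμl : μ.comp l = RingHom.id A := RingHom.ext fun a => by simp [μ, l, RelDual22.mu]
  have hμr : μ.comp r = RingHom.id A := RingHom.ext fun a => by simp [μ, r, RelDual22.mu]
  haveI : IsClosedImmersion δ := IsClosedImmersion.spec_of_surjective (CommRingCat.ofHom μ)
    fun a => ⟨l a, RingHom.congr_fun hμl a⟩
  haveI := OX.preservesFiniteColimits_pushforward δ
  have hsq : δ ≫ J = j ≫ pullback.diagonal f := pullback.hom_ext
    (by rw [Category.assoc, hw, Category.assoc, pullback.diagonal_fst, Category.comp_id, ← Category.assoc]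
        show (Spec.map (CommRingCat.ofHom μ) ≫ Spec.map (CommRingCat.ofHom l)) ≫ j = j
        rw [← Spec.map_comp, ← CommRingCat.ofHom_comp, hμl, CommRingCat.ofHom_id, Spec.map_id, Category.id_comp])
    (by rw [Category.assoc, hw', Category.assoc, pullback.diagonal_snd, Category.comp_id, ← Category.assoc]
        show (Spec.map (CommRingCat.ofHom μ) ≫ Spec.map (CommRingCat.ofHom r)) ≫ j = j
        rw [← Spec.map_comp, ← CommRingCat.ofHom_comp, hμr, CommRingCat.ofHom_id, Spec.map_id, Category.id_comp])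
  have hr : j.opensRange = (pullback.diagonal f) ⁻¹ᵁ J.opensRange := TopologicalSpace.Opens.ext <| Set.ext fun x => by
    show x ∈ Set.range j ↔ pullback.diagonal f x ∈ Set.range J
    have hJ : Set.range J = Set.range m := by
      refine Set.Subset.antisymm (fun _ ⟨t, ht⟩ => ⟨sq.isoPullback.hom t, by rw [← ht]; rfl⟩) fun _ ⟨t, ht⟩ =>
        ⟨sq.isoPullback.inv t, ?_⟩
      rw [← ht]
      show (sq.isoPullback.inv ≫ (sq.isoPullback.hom ≫ m)) t = m t
      rw [Iso.inv_hom_id_assoc]
    have h1 : pullback.fst f f (pullback.diagonal f x) = x := by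
      rw [← Scheme.Hom.comp_apply, pullback.diagonal_fst]; rfl
    have h2 : pullback.snd f f (pullback.diagonal f x) = x := by
      rw [← Scheme.Hom.comp_apply, pullback.diagonal_snd]; rfl
    rw [hJ]
    show _ ↔ _ ∈ Set.range (pullback.map _ _ f f j j hV.fromSpec hφ hφ)
    rw [Scheme.Pullback.range_map, Set.mem_inter_iff, Set.mem_preimage, Set.mem_preimage, h1, h2, and_self]
  obtain ⟨C, hkC, -, ⟨eC⟩⟩ := KF.exists_kflat_rep M
  haveI := KF.hasLBaseChange l
  let L := (DCoh.Lpull (pullback.fst f f)).obj K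
  obtain ⟨em⟩ := KSix19.isModel_lpullU (pullback.fst f f) j J l hw (K := K) hkC
    ⟨eM.symm ≪≫ (DCoh.tildeD (CommRingCat.of A)).mapIso eC.symm ≪≫
      (tilde.functor (CommRingCat.of A)).mapDerivedCategoryFactors.app C⟩
  obtain ⟨eL⟩ := KF.lBase_value l hkC
  let LM := (DRing.LBaseChange l).obj M
  let T := DCoh.tildeD (CommRingCat.of A)
  let T2 := DCoh.tildeD (CommRingCat.of (A ⊗[R] A))
  haveI := (tildeD_full_faithful_essImage (R := CommRingCat.of A)).1
  haveI := (tildeD_full_faithful_essImage (R := CommRingCat.of A)).2.1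
  haveI := (tildeD_full_faithful_essImage (R := CommRingCat.of (A ⊗[R] A))).1
  haveI := (tildeD_full_faithful_essImage (R := CommRingCat.of (A ⊗[R] A))).2.1
  let eJ : (resD J).obj L ≅ T2.obj LM :=
    em ≪≫ ((tilde.functor (CommRingCat.of (A ⊗[R] A))).mapDerivedCategoryFactors.app _).symm ≪≫
      T2.mapIso (eL.symm ≪≫ (DRing.LBaseChange l).mapIso eC)
  let H := tilde.functor (CommRingCat.of A) ⋙ Scheme.Modules.pushforward δ
  haveI : PreservesFiniteLimits H := comp_preservesFiniteLimits _ _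
  haveI : PreservesFiniteColimits H := comp_preservesFiniteColimits _ _
  let ν : T ⋙ Dual3.pushD δ ≅ DRing.restrictD μ ⋙ T2 :=
    DerCat.mapDerivedCompIso (tilde.functor (CommRingCat.of A)) (Scheme.Modules.pushforward δ) H (Iso.refl _) ≪≫
      (DerCat.mapDerivedCompIso (ModuleCat.restrictScalars μ) (tilde.functor (CommRingCat.of (A ⊗[R] A))) H
        (pushTildeIso (CommRingCat.ofHom μ)).symm).symm
  let O := DCoh.inD X (Coh.structureModule X)
  obtain ⟨eN⟩ := BCPerf20.nonempty_resD_inD j (Coh.structureModule X)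
  obtain ⟨eU⟩ := nonempty_inD_iso_tildeD (B := A)
  let eO : (resD j).obj O ≅ T.obj (Dual.inD A A) :=
    eN ≪≫ (DerivedCategory.singleFunctor (Spec (CommRingCat.of A)).Modules 0).mapIso (OX.pullUnitIso j) ≪≫ eU
  have key : ∀ i : ℤ, ∃ θ : (DRing.restrictD μ).obj ((Dual.inD A A)⟦i⟧) ⟶ LM⟦i⟧, Function.Bijective
      fun a : Dual.inD A A ⟶ (Dual.inD A A)⟦i⟧ => (DRing.restrictD μ).map a ≫ θ := by
    intro i
    obtain ⟨θ, hθ⟩ := exists_bijective_push (pullback.diagonal f) j J δ hsq hr (T.obj (Dual.inD A A))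
      (N := O⟦i⟧) (L := L⟦i⟧)
      (((Dual3.pushD (pullback.diagonal f)).commShiftIso i).hom.app O ≫ (shiftFunctor _ i).map ξ) (hbij _ i)
    let es : (resD j).obj (O⟦i⟧) ≅ T.obj ((Dual.inD A A)⟦i⟧) :=
      ((resD j).commShiftIso i).app O ≪≫ (shiftFunctor _ i).mapIso eO ≪≫ ((T.commShiftIso i).app _).symm
    let el : (resD J).obj (L⟦i⟧) ≅ T2.obj (LM⟦i⟧) :=
      ((resD J).commShiftIso i).app L ≪≫ (shiftFunctor _ i).mapIso eJ ≪≫ ((T2.commShiftIso i).app _).symm
    obtain ⟨θ', hθ'⟩ := T2.map_surjective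
      (ν.inv.app ((Dual.inD A A)⟦i⟧) ≫ (Dual3.pushD δ).map es.inv ≫ θ ≫ el.hom)
    refine ⟨θ', ?_⟩
    have e3 : (fun a : Dual.inD A A ⟶ (Dual.inD A A)⟦i⟧ => T2.map ((DRing.restrictD μ).map a ≫ θ')) =
        (fun t => ν.inv.app _ ≫ t ≫ el.hom) ∘ (fun b : T.obj (Dual.inD A A) ⟶ (resD j).obj (O⟦i⟧) =>
          (Dual3.pushD δ).map b ≫ θ) ∘ (fun b => b ≫ es.inv) ∘ T.map := funext fun a => by
      simp only [Function.comp_apply, Functor.map_comp, hθ', Category.assoc]
      exact (Category.assoc _ _ _).symm.trans ((congrArg (· ≫ _) (ν.inv.naturality a)).trans (Category.assoc _ _ _))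
    have hb : Function.Bijective fun a : Dual.inD A A ⟶ (Dual.inD A A)⟦i⟧ =>
        T2.map ((DRing.restrictD μ).map a ≫ θ') := by
      rw [e3]
      refine Function.Bijective.comp ⟨fun a b hab => ?_, fun b => ⟨ν.hom.app _ ≫ b ≫ el.inv, ?_⟩⟩
        (hθ.comp (Function.Bijective.comp ⟨fun a b hab => (cancel_mono es.inv).1 hab, fun b => ⟨b ≫ es.hom, by simp⟩⟩
          ⟨fun a b hab => T.map_injective hab, fun b => T.map_surjective b⟩))
      · exact (cancel_mono el.hom).1 ((cancel_epi (ν.inv.app _)).1 hab)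
      · simp
    exact ⟨fun a b hab => hb.1 (congrArg T2.map hab), fun b => by
      obtain ⟨a, ha⟩ := hb.2 (T2.map b)
      exact ⟨a, T2.map_injective ha⟩⟩
  let radj := DualRing.Shriek.radj μ
  have hne : ∀ i : ℤ, i ≠ 0 → Subsingleton (Dual.inD A A ⟶ ((DualRing.Shriek.RA μ).obj LM)⟦i⟧) := fun i hi => by
    obtain ⟨θ, hθ⟩ := key i
    haveI := RelDual22.subsingleton_inD_shift (A := A) i hi
    haveI : Subsingleton ((DRing.restrictD μ).obj (Dual.inD A A) ⟶ LM⟦i⟧) := hθ.2.subsingleton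
    haveI := (radj.homEquiv (Dual.inD A A) (LM⟦i⟧)).symm.subsingleton
    obtain ⟨es⟩ := DualRing.Shriek.nonempty_RA_shift μ LM i
    exact es.symm.homToEquiv.subsingleton
  obtain ⟨θ, hθ⟩ := key 0
  let z := shiftFunctorZero (Dual.D A) ℤ
  let z2 := shiftFunctorZero (Dual.D (A ⊗[R] A)) ℤ
  let g : Dual.inD A A ⟶ (DualRing.Shriek.RA μ).obj LM :=
    radj.homEquiv _ _ ((DRing.restrictD μ).map (z.inv.app _) ≫ θ ≫ z2.hom.app _)
  have hg : Function.Bijective fun a : A => a • g := by
    have e4 : (fun a : A => a • g) = (radj.homEquiv _ _) ∘ (fun t => t ≫ z2.hom.app LM) ∘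
        (fun b : Dual.inD A A ⟶ (Dual.inD A A)⟦(0 : ℤ)⟧ => (DRing.restrictD μ).map b ≫ θ) ∘
        (fun b : Dual.inD A A ⟶ Dual.inD A A => b ≫ z.inv.app _) ∘ (fun a : A => a • 𝟙 (Dual.inD A A)) :=
      funext fun a => by
        show a • g = radj.homEquiv _ _ (((DRing.restrictD μ).map ((a • 𝟙 (Dual.inD A A)) ≫ z.inv.app _) ≫ θ) ≫ _)
        rw [Functor.map_comp, Category.assoc, Category.assoc, radj.homEquiv_naturality_left, Linear.smul_comp,
          Category.id_comp]
    rw [e4]
    exact (radj.homEquiv _ _).bijective.comp (Function.Bijective.comp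
      ⟨fun a b hab => (cancel_mono (z2.hom.app LM)).1 hab, fun b => ⟨b ≫ z2.inv.app LM, by simp⟩⟩
      (hθ.comp (Function.Bijective.comp ⟨fun a b hab => (cancel_mono (z.inv.app _)).1 hab,
        fun b => ⟨b ≫ z.hom.app _, by simp⟩⟩ RelDual22.bijective_smul_inD)))
  haveI := RelDual22.isIso_of_generator g hg hne
  obtain ⟨e⟩ := RelDual22.nonempty_iso_GP ψ hψ hMperf.1 ⟨(asIso g).symm⟩
  exact ⟨eM.symm ≪≫ T.mapIso e⟩

end Chart

end GrothLib.ShriekBridge22
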