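import Groth.Agent.Lib.ShriekBridge22.Invertible
import Groth.Agent.Lib.DCxRing.Thick
import Groth.Agent.Lib.OX.TildePerfect
import Groth.Agent.Lib.OX.BVdB

/-! # Perfectness of `f^!` of perfect objects -/

set_option autoImplicit false
set_option maxHeartbeats 1000000
set_option linter.style.haveILetI false
universe u

open CategoryTheory CategoryTheory.Limits CategoryTheory.Pretriangulated AlgebraicGeometry GrothLib.OX

attribute [local instance] HasDerivedCategory.standard
attribute [local instance] GrothLib.DualRing.Shriek.pfl_of_flat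

noncomputable section

namespace GrothLib.ShriekBridge22

open GrothLib.DualRing.Shriek (GP RA radj extD)

variable {R A : Type u} [CommRing R] [CommRing A] [Algebra R A] {n : ℕ}

/-- **`f^!` preserves perfect objects as soon as `f^! O` is perfect.** -/
theorem isPerfect_GP [∀ R : CommRingCat.{u}, PreservesFiniteLimits (tilde.functor R)]
    (ψ : MvPolynomial (Fin n) R →ₐ[R] A)
    (hO : DRing.IsPerfect A (GP ψ (Dual.inD R R))) {K : Dual.D R} (hK : DRing.IsPerfect R K) :
    DRing.IsPerfect A (GP ψ K) := by
  letI := (radj ψ.toRingHom).rightAdjointCommShift ℤ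
  haveI := (radj ψ.toRingHom).commShift_of_leftAdjoint ℤ
  haveI := (radj ψ.toRingHom).isTriangulated_rightAdjoint
  let G := extD (algebraMap R (MvPolynomial (Fin n) R)) ⋙ RA ψ.toRingHom
  let T := DCoh.tildeD (CommRingCat.of A)
  let P : ObjectProperty (Dual.D R) := fun M => DCoh.IsPerfect (T.obj (G.obj M))
  haveI : P.IsClosedUnderIsomorphisms := ⟨fun e h => isPerfect_of_iso h (T.mapIso (G.mapIso e))⟩
  have key : P K := by
    refine GrothLib.DR.prop_of_isPerfect P ?_ ?_ ?_ ?_ K hK
    · have h := GrothLib.DR.isPerfect_shift hO (-(n : ℤ))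
      exact (isPerfect_tildeD_iff _).2 (GrothLib.DR.isPerfect_of_iso
        ((shiftFunctorCompIsoId (Dual.D A) (n : ℤ) (-(n : ℤ)) (add_neg_cancel _)).app _) h)
    · exact fun M m h => isPerfect_of_iso (isPerfect_shift h m)
        ((T.mapIso ((G.commShiftIso m).app M) ≪≫ (T.commShiftIso m).app _).symm)
    · exact fun S hS h₁ h₃ => (isPerfect_triangle (T.map_distinguished _ (G.map_distinguished S hS))).2.1 h₁ h₃
    · intro X Y _ h
      haveI : PreservesBinaryBiproducts (G ⋙ T) := preservesBinaryBiproducts_of_preservesBiproducts _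
      exact isPerfect_summand (isPerfect_of_iso h ((G ⋙ T).mapBiprod X Y))
  exact GrothLib.DR.isPerfect_shift ((isPerfect_tildeD_iff _).1 key) (n : ℤ)

end GrothLib.ShriekBridge22
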