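import Groth.Agent.Lib.ShriekBridge22.CMPoint
import Groth.Agent.Lib.NoethTop.KrullDim

/-! # Small facts about pure-dimensional schemes -/

set_option autoImplicit false
universe u

open CategoryTheory AlgebraicGeometry

namespace GrothLib.ShriekBridge22

variable {X : Scheme.{u}}

theorem exists_primeIdealOf_fromSpec {U : X.Opens} (hU : IsAffineOpen U) (q : PrimeSpectrum Γ(X, U)) :
    ∃ h : hU.fromSpec q ∈ U, hU.primeIdealOf ⟨hU.fromSpec q, h⟩ = q := by
  have hy : hU.fromSpec q ∈ U := by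
    have : hU.fromSpec q ∈ Set.range hU.fromSpec := ⟨q, rfl⟩
    rwa [hU.range_fromSpec] at this
  exact ⟨hy, hU.fromSpec.isOpenEmbedding.injective (hU.fromSpec_primeIdealOf ⟨hU.fromSpec q, hy⟩)⟩

theorem exists_component (x : X) : ∃ Z ∈ irreducibleComponents X, x ∈ Z :=
  ⟨_, irreducibleComponent_mem_irreducibleComponents x, mem_irreducibleComponent⟩

theorem dim_eq_of_pure {n : ℕ} (h : ∀ Z ∈ irreducibleComponents X, topologicalKrullDim ↥Z = (n : WithBot ℕ∞))
    (x : X) : topologicalKrullDim X = (n : WithBot ℕ∞) := by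
  refine le_antisymm (GrothLib.NoethTop.dim_le_iff.2 fun l => ?_) ?_
  · obtain ⟨Z, hZ, hsub⟩ := exists_mem_irreducibleComponents_subset_of_isIrreducible _ l.last.isIrreducible
    exact (GrothLib.NoethTop.length_le_dim_subset Z l hsub).trans (h Z hZ).le
  · obtain ⟨Z, hZ, -⟩ := exists_component x
    exact (h Z hZ).ge.trans Topology.IsInducing.subtypeVal.topologicalKrullDim_le

/-- A closed point of a pure one-dimensional scheme is not a generic point. -/
theorem false_of_closed_minimal (hdim : ∀ Z ∈ irreducibleComponents X, topologicalKrullDim ↥Z = (1 : WithBot ℕ∞))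
    {U : X.Opens} (hU : IsAffineOpen U) {x : X} (hx : x ∈ U) (hcl : IsClosed ({x} : Set X))
    (hmin : (hU.primeIdealOf ⟨x, hx⟩).asIdeal ∈ minimalPrimes Γ(X, U)) : False := by
  have hind := hU.fromSpec.isOpenEmbedding.isInducing
  have hmax : ∀ η : X, η ⤳ x → η = x := fun η hη => by
    obtain ⟨s, rfl⟩ : η ∈ Set.range hU.fromSpec := hU.range_fromSpec.symm ▸ hη.mem_open U.2 hx
    have h : s.asIdeal ≤ (hU.primeIdealOf ⟨x, hx⟩).asIdeal := (PrimeSpectrum.le_iff_specializes _ _).2
      (hind.specializes_iff.1 (by rw [hU.fromSpec_primeIdealOf]; exact hη))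
    rw [show s = hU.primeIdealOf ⟨x, hx⟩ from
      PrimeSpectrum.ext (le_antisymm h (hmin.2 ⟨s.isPrime, bot_le⟩ h)), hU.fromSpec_primeIdealOf]
  have hZ := closure_mem_irreducibleComponents_of_maximal hmax
  have h1 := hdim _ hZ
  rw [hcl.closure_eq] at h1
  haveI : Subsingleton (TopologicalSpace.IrreducibleCloseds ↥({x} : Set X)) :=
    ⟨fun A B => TopologicalSpace.IrreducibleCloseds.ext (by
      ext ⟨y, hy⟩
      obtain ⟨⟨a, ha⟩, haA⟩ := A.isIrreducible.1
      obtain ⟨⟨b, hb⟩, hbB⟩ := B.isIrreducible.1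
      have hya : (⟨y, hy⟩ : ↥({x} : Set X)) = ⟨a, ha⟩ := Subtype.ext (hy.trans ha.symm)
      have hyb : (⟨y, hy⟩ : ↥({x} : Set X)) = ⟨b, hb⟩ := Subtype.ext (hy.trans hb.symm)
      exact ⟨fun _ => hyb ▸ hbB, fun _ => hya ▸ haA⟩)⟩
  have h2 : topologicalKrullDim ↥({x} : Set X) ≤ 0 :=
    Order.krullDim_nonpos_of_subsingleton (α := TopologicalSpace.IrreducibleCloseds ↥({x} : Set X))
  rw [h1] at h2
  exact absurd h2 (not_le.2 zero_lt_one)

end GrothLib.ShriekBridge22
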